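import Cfsg.Agent.Lib.M12Cent22.Tab

/-!
# The group `(Q₈ ∘ Q₈).S₃` of order 192 inside `M₁₂`

helper34 (for helper66, S3717/S3348).  The relations below bound the group they generate by 192; the
centralizer of a 2-central involution of `M₁₂` has generators satisfying them, so a group of order
192 with such generators is isomorphic to that centralizer.
-/

set_option autoImplicit false
set_option maxRecDepth 100000
set_option linter.style.haveILetI false

open Subgroup

namespace Cfsg.Agent.Lib.ThreeLocal66.ModelM12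

open Cfsg.Agent.Lib.M12Cent22

/-- The relations, without inverses. -/
structure Rel {X : Type*} [Group X] (t q e u r : X) : Prop where
  qq : q * q = t
  ee : e * e = t
  tt : t * t = 1
  uuu : u * u * u = 1
  rr : r * r = 1
  ruru : r * u * r * u = 1
  rqrq : r * q * r * q = 1
  rere : r * e * r * e = 1
  ut : u * t = t * u
  qe : q * e = e * q
  qa : q * (u * q * (u * u)) = u * q * (u * u) * q * t
  ed : e * (u * e * (u * u)) = u * e * (u * u) * e * t
  qd : q * (u * e * (u * u)) = u * e * (u * u) * q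
  ae : u * q * (u * u) * e = e * (u * q * (u * u))
  qab : q * (u * q * (u * u)) * (u * u * q * u) = 1
  edc : e * (u * e * (u * u)) * (u * u * e * u) = 1

section Bound

variable {X : Type*} [Group X]

theorem mem_normalizer_of_map_le [Finite X] {K : Subgroup X} {x : X}
    (h : K.map (MulAut.conj x).toMonoidHom ≤ K) : x ∈ normalizer (K : Set X) := by
  rw [mem_normalizer_iff_map_conj_eq]
  exact eq_of_le_of_card_ge h (le_of_eq (card_map_of_injective (MulAut.conj x).injective).symm)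

theorem conj_zpowers_le {y x : X} {T : Subgroup X} (h : x * y * x⁻¹ ∈ T) :
    (zpowers y).map (MulAut.conj x).toMonoidHom ≤ T := by
  rw [MonoidHom.map_zpowers]
  exact zpowers_le.2 h

theorem conj_sup_le {K T : Subgroup X} {y x : X} (hK : K.map (MulAut.conj x).toMonoidHom ≤ T)
    (h : x * y * x⁻¹ ∈ T) : (K ⊔ zpowers y).map (MulAut.conj x).toMonoidHom ≤ T := by
  rw [Subgroup.map_sup]
  exact sup_le hK (conj_zpowers_le h)

/-- Adjoining an element of the normaliser with `n`th power in the subgroup. -/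
theorem card_adjoin_le [Finite X] {K : Subgroup X} {x : X} {n : ℕ} (hn : 0 < n)
    (hx : x ∈ normalizer (K : Set X)) (hp : x ^ n ∈ K) :
    Nat.card ↥(K ⊔ zpowers x) ≤ Nat.card ↥K * n := by
  have hle : zpowers x ≤ normalizer (K : Set X) := zpowers_le.2 hx
  have key : ∀ g : ↥(K ⊔ zpowers x), ∃ k : ↥K, ∃ j : Fin n, (k : X) * x ^ (j : ℕ) = g := by
    rintro ⟨g, hg⟩
    have hg' : g ∈ (↑(K ⊔ zpowers x) : Set X) := hg
    rw [Subgroup.coe_mul_of_right_le_normalizer_left K (zpowers x) hle] at hg'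
    obtain ⟨k, hk, y, hy, rfl⟩ := hg'
    obtain ⟨i, rfl⟩ := (mem_powers_iff_mem_zpowers.2 hy : y ∈ Submonoid.powers x)
    refine ⟨⟨k * (x ^ n) ^ (i / n), mul_mem hk (pow_mem hp _)⟩, ⟨i % n, Nat.mod_lt _ hn⟩, ?_⟩
    show k * (x ^ n) ^ (i / n) * x ^ (i % n) = k * x ^ i
    rw [← pow_mul, mul_assoc, ← pow_add, Nat.div_add_mod]
  choose k j hkj using key
  have hinj : Function.Injective fun g => (k g, j g) := by
    intro a b h
    have h1 := congrArg Prod.fst h
    have h2 := congrArg Prod.snd h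
    exact Subtype.ext (by rw [← hkj a, ← hkj b]; simp only at h1 h2; rw [h1, h2])
  have := Nat.card_le_card_of_injective _ hinj
  rwa [Nat.card_prod, Nat.card_fin] at this

variable {t q e u r : X}

theorem card_le [Finite X] (h : Rel t q e u r) :
    Nat.card ↥(closure ({q, e, u, r} : Set X)) ≤ 192 := by
  set a := u * q * (u * u) with ha
  set d := u * e * (u * u) with hd
  have hui : u⁻¹ = u * u := inv_eq_of_mul_eq_one_right (by rw [← mul_assoc, h.uuu])
  have hri : r⁻¹ = r := inv_eq_of_mul_eq_one_right h.rr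
  have hqt : t * q = q * t := by rw [← h.qq, mul_assoc]
  have het : t * e = e * t := by rw [← h.ee, mul_assoc]
  have hq4 : q ^ 4 = 1 := by
    rw [show (4 : ℕ) = 2 * 2 from rfl, pow_mul, pow_two, pow_two, h.qq, h.tt]
  have hcq : u * q * u⁻¹ = a := by rw [hui, ha]
  have hce : u * e * u⁻¹ = d := by rw [hui, hd]
  have haa : a * a = t := by
    rw [← hcq, conj_mul, h.qq, h.ut, mul_inv_cancel_right]
  have hdd : d * d = t := by
    rw [← hce, conj_mul, h.ee, h.ut, mul_inv_cancel_right]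
  -- the conjugates of `a` and `d` by `u`
  have hb : u⁻¹ * q * u = (q * a)⁻¹ := by
    rw [hui]; exact eq_inv_of_mul_eq_one_right h.qab
  have hc : u⁻¹ * e * u = (e * d)⁻¹ := by
    rw [hui]; exact eq_inv_of_mul_eq_one_right h.edc
  have hua : u * a * u⁻¹ = (q * a)⁻¹ := by
    rw [← hb, ← hcq]
    have e3 : u * u = u⁻¹ := hui.symm
    calc u * (u * q * u⁻¹) * u⁻¹ = u * u * q * (u * u)⁻¹ := by group
      _ = u⁻¹ * q * u := by rw [e3, inv_inv]
  have hud : u * d * u⁻¹ = (e * d)⁻¹ := by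
    rw [← hc, ← hce]
    have e3 : u * u = u⁻¹ := hui.symm
    calc u * (u * e * u⁻¹) * u⁻¹ = u * u * e * (u * u)⁻¹ := by group
      _ = u⁻¹ * e * u := by rw [e3, inv_inv]
  have hrq : r * q * r⁻¹ = q⁻¹ := by
    rw [hri]; exact eq_inv_of_mul_eq_one_left h.rqrq
  have hre : r * e * r⁻¹ = e⁻¹ := by
    rw [hri]; exact eq_inv_of_mul_eq_one_left h.rere
  have hru : r * u * r⁻¹ = u⁻¹ := by
    rw [hri]; exact eq_inv_of_mul_eq_one_left h.ruru
  have hra : r * a * r⁻¹ = q * a := by
    calc r * a * r⁻¹ = (r * u * r⁻¹) * (r * q * r⁻¹) * (r * u * r⁻¹)⁻¹ := by rw [← hcq]; group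
      _ = (u⁻¹ * q * u)⁻¹ := by rw [hru, hrq]; group
      _ = q * a := by rw [hb, inv_inv]
  have hrd : r * d * r⁻¹ = e * d := by
    calc r * d * r⁻¹ = (r * u * r⁻¹) * (r * e * r⁻¹) * (r * u * r⁻¹)⁻¹ := by rw [← hce]; group
      _ = (u⁻¹ * e * u)⁻¹ := by rw [hru, hre]; group
      _ = e * d := by rw [hc, inv_inv]
  set K1 := zpowers q ⊔ zpowers a with hK1
  set K2 := K1 ⊔ zpowers e with hK2
  set K3 := K2 ⊔ zpowers d with hK3
  set K4 := K3 ⊔ zpowers u with hK4
  have q1 : q ∈ K1 := mem_sup_left (mem_zpowers q)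
  have a1 : a ∈ K1 := mem_sup_right (mem_zpowers a)
  have q2 : q ∈ K2 := mem_sup_left q1
  have a2 : a ∈ K2 := mem_sup_left a1
  have e2 : e ∈ K2 := mem_sup_right (mem_zpowers e)
  have t2 : t ∈ K2 := h.qq ▸ mul_mem q2 q2
  have q3 : q ∈ K3 := mem_sup_left q2
  have a3 : a ∈ K3 := mem_sup_left a2
  have e3 : e ∈ K3 := mem_sup_left e2
  have d3 : d ∈ K3 := mem_sup_right (mem_zpowers d)
  have n1 : a ∈ normalizer (zpowers q : Set X) := mem_normalizer_of_map_le (conj_zpowers_le (by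
    have : a * q * a⁻¹ = q * t⁻¹ := by
      rw [eq_mul_inv_iff_mul_eq]
      calc a * q * a⁻¹ * t = a * q * t * a⁻¹ := by
            rw [mul_assoc (a * q), show a⁻¹ * t = t * a⁻¹ by rw [← haa]; group]; group
        _ = q := by rw [← h.qa, mul_inv_cancel_right]
    rw [this, ← h.qq]
    exact mul_mem (mem_zpowers q) (inv_mem (mul_mem (mem_zpowers q) (mem_zpowers q)))))
  have n2 : e ∈ normalizer (K1 : Set X) := mem_normalizer_of_map_le (conj_sup_le (conj_zpowers_le
      (by rw [← h.qe, mul_inv_cancel_right]; exact q1))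
      (by rw [← h.ae, mul_inv_cancel_right]; exact a1))
  have hda : d * a = a * d := by
    have : e * q = q * e := h.qe.symm
    calc d * a = u * (e * q) * u⁻¹ := by rw [← hcq, ← hce]; group
      _ = u * (q * e) * u⁻¹ := by rw [this]
      _ = a * d := by rw [← hcq, ← hce]; group
  have n3 : d ∈ normalizer (K2 : Set X) := mem_normalizer_of_map_le (conj_sup_le (conj_sup_le
      (conj_zpowers_le (by rw [← h.qd, mul_inv_cancel_right]; exact q2))
      (by rw [hda, mul_inv_cancel_right]; exact a2))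
      (by
        have : d * e * d⁻¹ = e * t⁻¹ := by
          rw [eq_mul_inv_iff_mul_eq]
          calc d * e * d⁻¹ * t = d * e * t * d⁻¹ := by
                rw [mul_assoc (d * e), show d⁻¹ * t = t * d⁻¹ by rw [← hdd]; group]; group
            _ = e := by rw [← h.ed, mul_inv_cancel_right]
        rw [this]
        exact mul_mem e2 (inv_mem t2)))
  have n4 : u ∈ normalizer (K3 : Set X) := mem_normalizer_of_map_le (conj_sup_le (conj_sup_le
      (conj_sup_le (conj_zpowers_le (by rw [hcq]; exact a3))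
        (by rw [hua]; exact inv_mem (mul_mem q3 a3)))
      (by rw [hce]; exact d3))
      (by rw [hud]; exact inv_mem (mul_mem e3 d3)))
  have n5 : r ∈ normalizer (K4 : Set X) := mem_normalizer_of_map_le (conj_sup_le (conj_sup_le
      (conj_sup_le (conj_sup_le (conj_zpowers_le (by rw [hrq]; exact inv_mem (mem_sup_left q3)))
        (by rw [hra]; exact mem_sup_left (mul_mem q3 a3)))
      (by rw [hre]; exact inv_mem (mem_sup_left e3)))
      (by rw [hrd]; exact mem_sup_left (mul_mem e3 d3)))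
      (by rw [hru]; exact inv_mem (mem_sup_right (mem_zpowers u))))
  have c0 : Nat.card ↥(zpowers q) ≤ 4 := by
    rw [Nat.card_zpowers]; exact Nat.le_of_dvd (by norm_num) (orderOf_dvd_of_pow_eq_one hq4)
  have c1 := card_adjoin_le (n := 2) (by norm_num) n1 (by
    rw [pow_two, haa, ← h.qq]; exact mul_mem (mem_zpowers q) (mem_zpowers q))
  have c2 := card_adjoin_le (n := 2) (by norm_num) n2 (by
    rw [pow_two, h.ee, ← h.qq]; exact mul_mem q1 q1)
  have c3 := card_adjoin_le (n := 2) (by norm_num) n3 (by rw [pow_two, hdd]; exact t2)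
  have c4 := card_adjoin_le (n := 3) (by norm_num) n4 (by
    rw [pow_succ, pow_two, h.uuu]; exact one_mem K3)
  have c5 := card_adjoin_le (n := 2) (by norm_num) n5 (by rw [pow_two, h.rr]; exact one_mem K4)
  refine le_trans (Subgroup.card_le_of_le ((closure_le (K4 ⊔ zpowers r)).2 ?_)) ?_
  · rintro x (rfl | rfl | rfl | rfl)
    · exact mem_sup_left (mem_sup_left q3)
    · exact mem_sup_left (mem_sup_left e3)
    · exact mem_sup_left (mem_sup_right (mem_zpowers _))
    · exact mem_sup_right (mem_zpowers _)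
  · simp only [← hK1, ← hK2, ← hK3, ← hK4] at c1 c2 c3 c4
    omega

end Bound

section Model

/-- The table indices of the generators. -/
def genI (k : ℕ) : Fin 192 := [(0 : Fin 192), 21, 170, 6, 15].getD k 0

/-- The value of a word, five-adic digits. -/
def evW : ℕ → ℕ → Fin 192
  | 0, _ => 0
  | f + 1, v => if v = 0 then 0 else tm (genI (v % 5)) (evW f (v / 5))

/-- A word for each index. -/
def wordTab : List ℕ := [
    0, 6, 84, 2316, 333, 2242, 3, 358, 431, 10831, 2792, 2216, 486, 448, 542, 4,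
    334, 67, 83, 281, 22, 1, 331, 48, 417, 2941, 1683, 108, 1736, 31, 14, 13,
    446, 488, 11586, 1792, 17, 433, 81, 558, 2442, 2167, 96, 8466, 11, 2081, 1681, 346,
    106, 242, 36531, 2292, 2116, 91, 1833, 586, 2933, 12086, 116, 458, 7281, 1691, 566, 2211,
    41, 221, 55836, 2308, 1058, 11542, 1111, 2836, 12166, 211, 11166, 1836, 5281, 2208, 441, 1071,
    291, 461, 1043, 459, 6066, 10586, 1471, 2321, 208, 2416, 1461, 5217, 8458, 14668, 583, 1031,
    341, 366, 58, 581, 92, 2117, 1213, 2291, 1793, 18, 2092, 117, 7306, 423, 2168, 2233,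
    1056, 214, 88, 367, 11167, 113, 44, 2088, 442, 8, 68, 11541, 206, 73, 12167, 543,
    292, 483, 464, 11461, 294, 456, 1472, 418, 2417, 338, 1456, 23, 567, 2206, 222, 42,
    2433, 11041, 89, 2169, 2241, 213, 2156, 2317, 406, 12211, 463, 2791, 481, 293, 2086, 347,
    1656, 111, 241, 43, 1211, 8406, 56, 9, 568, 21, 2, 69, 2711, 416, 336, 19,
    1666, 1791, 1693, 16, 11211, 86, 443, 2166, 2441, 97, 8961, 541, 71, 66, 588, 217]

theorem chk_words : (allN 192 fun i => Nat.beq (evW 8 (wordTab.getD i 0)).val i) = true := by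
  decide +kernel

theorem chk_rel : (Nat.beq (T 21 21) 1 && Nat.beq (T 170 170) 1 && Nat.beq (T 1 1) 0 &&
    Nat.beq (T (T 6 6) 6) 0 && Nat.beq (T 15 15) 0 && Nat.beq (T (T (T 15 6) 15) 6) 0 &&
    Nat.beq (T (T (T 15 21) 15) 21) 0 && Nat.beq (T (T (T 15 170) 15) 170) 0 &&
    Nat.beq (T 6 1) (T 1 6) && Nat.beq (T 21 170) (T 170 21) &&
    Nat.beq (T 21 (T (T 6 21) (T 6 6))) (T (T (T (T 6 21) (T 6 6)) 21) 1) &&
    Nat.beq (T 170 (T (T 6 170) (T 6 6))) (T (T (T (T 6 170) (T 6 6)) 170) 1) &&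
    Nat.beq (T 21 (T (T 6 170) (T 6 6))) (T (T (T 6 170) (T 6 6)) 21) &&
    Nat.beq (T (T (T 6 21) (T 6 6)) 170) (T 170 (T (T 6 21) (T 6 6))) &&
    Nat.beq (T (T 21 (T (T 6 21) (T 6 6))) (T (T (T 6 6) 21) 6)) 0 &&
    Nat.beq (T (T 170 (T (T 6 170) (T 6 6))) (T (T (T 6 6) 170) 6)) 0 &&
    Nat.beq (T 0 0) 0) = true := by decide +kernel

variable {X : Type*} [Group X] {m : Fin 192 → X}

theorem one_of (hm : ∀ i j, m i * m j = m (tm i j)) : m 0 = 1 := by
  have h := chk_rel
  simp only [Bool.and_eq_true, Nat.beq_eq] at h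
  have h0 : tm 0 0 = 0 := Fin.ext h.2
  exact mul_eq_left.1 ((hm 0 0).trans (congrArg m h0))

theorem rel_model (hm : ∀ i j, m i * m j = m (tm i j)) :
    Rel (m 1) (m (genI 1)) (m (genI 2)) (m (genI 3)) (m (genI 4)) := by
  have h := chk_rel
  simp only [Bool.and_eq_true, Nat.beq_eq] at h
  obtain ⟨⟨⟨⟨⟨⟨⟨⟨⟨⟨⟨⟨⟨⟨⟨⟨h1, h2⟩, h3⟩, h4⟩, h5⟩, h6⟩, h7⟩, h8⟩, h9⟩, h10⟩, h11⟩, h12⟩, h13⟩,
    h14⟩, h15⟩, h16⟩, -⟩ := h
  constructor <;> simp only [hm, ← one_of hm] <;> apply congrArg m <;> apply Fin.ext <;> assumption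

theorem evW_mem (hm : ∀ i j, m i * m j = m (tm i j)) (f v : ℕ) :
    m (evW f v) ∈ closure ({m (genI 1), m (genI 2), m (genI 3), m (genI 4)} : Set X) := by
  induction f generalizing v with
  | zero => rw [evW, one_of hm]; exact one_mem _
  | succ f ih =>
    rw [evW]
    split
    · rw [one_of hm]; exact one_mem _
    rw [← hm]
    refine mul_mem ?_ (ih _)
    rcases (show v % 5 = 0 ∨ v % 5 = 1 ∨ v % 5 = 2 ∨ v % 5 = 3 ∨ v % 5 = 4 by omega) with
      e | e | e | e | e <;> rw [e]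
    · rw [show genI 0 = 0 from rfl, one_of hm]; exact one_mem _
    all_goals exact subset_closure (by simp)

end Model

/-- A group of order 192 with these generators is the centralizer of a 2-central involution of
`M₁₂`. -/
theorem exists_equiv {G : Type*} [Group G] [Finite G] (t q e u r : G)
    (hqq : q * q = t) (hee : e * e = t) (htt : t * t = 1) (huuu : u * u * u = 1) (hrr : r * r = 1)
    (hru : r * u * r = u⁻¹) (hrq : r * q * r = q⁻¹) (hre : r * e * r = e⁻¹) (hut : u * t = t * u)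
    (hqe : q * e = e * q) (hqa : q * (u * q * u⁻¹) = (u * q * u⁻¹) * q * t)
    (hed : e * (u * e * u⁻¹) = (u * e * u⁻¹) * e * t)
    (hqd : q * (u * e * u⁻¹) = (u * e * u⁻¹) * q) (hae : (u * q * u⁻¹) * e = e * (u * q * u⁻¹))
    (hqab : q * (u * q * u⁻¹) * (u⁻¹ * q * u) = 1) (hedc : e * (u * e * u⁻¹) * (u⁻¹ * e * u) = 1)
    (hcard : Nat.card ↥(Subgroup.closure ({q, e, u, r} : Set G)) = 192) :
    ∃ u₀ : ↥Cfsg.Spor.M12, Cfsg.IsTwoCentralInvolution u₀ ∧
      Nonempty (↥(Subgroup.closure ({q, e, u, r} : Set G)) ≃*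
        ↥(Subgroup.centralizer ({u₀} : Set ↥Cfsg.Spor.M12))) := by
  haveI : Fact (Nat.Prime 2) := ⟨Nat.prime_two⟩
  haveI : Finite ↥Cfsg.Spor.M12 := inferInstance
  have hui : u⁻¹ = u * u := inv_eq_of_mul_eq_one_right (by rw [← mul_assoc, huuu])
  have hR : Rel t q e u r := by
    refine ⟨hqq, hee, htt, huuu, hrr, by rw [hru, inv_mul_cancel], by rw [hrq, inv_mul_cancel],
      by rw [hre, inv_mul_cancel], hut, hqe, ?_, ?_, ?_, ?_, ?_, ?_⟩ <;>
      rw [← hui] <;> assumption
  -- a 2-central involution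
  obtain ⟨P⟩ := (inferInstance : Nonempty (Sylow 2 ↥Cfsg.Spor.M12))
  have h2 : 2 ∣ Nat.card ↥Cfsg.Spor.M12 := by rw [Golay.card_spor_M12]; norm_num
  haveI : Nontrivial ↥(P : Subgroup ↥Cfsg.Spor.M12) :=
    (Subgroup.nontrivial_iff_ne_bot _).2 (P.ne_bot_of_dvd_card h2)
  haveI := P.isPGroup'.center_nontrivial
  obtain ⟨n, hn, hc⟩ := (P.isPGroup'.to_subgroup
    (Subgroup.center ↥(P : Subgroup ↥Cfsg.Spor.M12))).nontrivial_iff_card.mp inferInstance
  obtain ⟨c, hc'⟩ := exists_prime_orderOf_dvd_card'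
    (G := ↥(Subgroup.center ↥(P : Subgroup ↥Cfsg.Spor.M12))) 2 (hc ▸ dvd_pow_self 2 hn.ne')
  set u₀ : ↥Cfsg.Spor.M12 := ((c : ↥(P : Subgroup ↥Cfsg.Spor.M12)) : ↥Cfsg.Spor.M12) with hu₀def
  have hu₀ : Cfsg.IsTwoCentralInvolution u₀ :=
    ⟨by rw [hu₀def, Subgroup.orderOf_coe, Subgroup.orderOf_coe]; exact hc', P,
      (c : ↥(P : Subgroup ↥Cfsg.Spor.M12)).2,
      fun x hx => congrArg Subtype.val (Subgroup.mem_center_iff.1 c.2 ⟨x, hx⟩)⟩
  obtain ⟨m, hm, hminj, hmem⟩ := exists_code_model u₀ hu₀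
  refine ⟨u₀, hu₀, ?_⟩
  have hM := rel_model hm
  -- the pairs
  set Γ := closure ({(q, m (genI 1)), (e, m (genI 2)), (u, m (genI 3)), (r, m (genI 4))} :
    Set (G × ↥Cfsg.Spor.M12)) with hΓ
  have hΓle : Nat.card ↥Γ ≤ 192 := by
    refine card_le (t := (t, m 1)) ?_
    constructor <;> apply Prod.ext <;> first
      | exact hR.qq | exact hM.qq | exact hR.ee | exact hM.ee | exact hR.tt | exact hM.tt
      | exact hR.uuu | exact hM.uuu | exact hR.rr | exact hM.rr | exact hR.ruru | exact hM.ruru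
      | exact hR.rqrq | exact hM.rqrq | exact hR.rere | exact hM.rere | exact hR.ut | exact hM.ut
      | exact hR.qe | exact hM.qe | exact hR.qa | exact hM.qa | exact hR.ed | exact hM.ed
      | exact hR.qd | exact hM.qd | exact hR.ae | exact hM.ae | exact hR.qab | exact hM.qab
      | exact hR.edc | exact hM.edc
  have h₁ : Γ.map (MonoidHom.fst G ↥Cfsg.Spor.M12) = closure ({q, e, u, r} : Set G) := by
    rw [hΓ, MonoidHom.map_closure]
    simp [Set.image_insert_eq, Set.image_singleton]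
  have h₂ : Γ.map (MonoidHom.snd G ↥Cfsg.Spor.M12) =
      Subgroup.centralizer ({u₀} : Set ↥Cfsg.Spor.M12) := by
    rw [hΓ, MonoidHom.map_closure]
    simp only [Set.image_insert_eq, Set.image_singleton, MonoidHom.coe_snd]
    refine le_antisymm ((closure_le _).2 ?_) fun x hx => ?_
    · rintro x (rfl | rfl | rfl | rfl) <;> exact (hmem _).2 ⟨_, rfl⟩
    · obtain ⟨i, rfl⟩ := (hmem x).1 hx
      have hw := allN_iff.1 chk_words i i.2
      rw [Nat.beq_eq] at hw
      have hwi : evW 8 (wordTab.getD i 0) = i := Fin.ext hw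
      rw [← hwi]
      exact evW_mem hm _ _
  have hc₂ : Nat.card ↥(Subgroup.centralizer ({u₀} : Set ↥Cfsg.Spor.M12)) = 192 := by
    rw [← Nat.card_congr (Equiv.ofBijective
      (fun i : Fin 192 => (⟨m i, (hmem _).2 ⟨i, rfl⟩⟩ :
        ↥(Subgroup.centralizer ({u₀} : Set ↥Cfsg.Spor.M12))))
      ⟨fun i j h => hminj (congrArg Subtype.val h), fun x => by
        obtain ⟨i, hi⟩ := (hmem x.1).1 x.2; exact ⟨i, Subtype.ext hi⟩⟩), Nat.card_fin]
  have b₁ : Function.Bijective ((MonoidHom.fst G ↥Cfsg.Spor.M12).subgroupMap Γ) := by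
    refine (Nat.bijective_iff_surjective_and_card _).2 ⟨MonoidHom.subgroupMap_surjective _ _, ?_⟩
    refine le_antisymm ?_ (Nat.card_le_card_of_surjective _ (MonoidHom.subgroupMap_surjective _ _))
    rw [h₁, hcard]; exact hΓle
  have b₂ : Function.Bijective ((MonoidHom.snd G ↥Cfsg.Spor.M12).subgroupMap Γ) := by
    refine (Nat.bijective_iff_surjective_and_card _).2 ⟨MonoidHom.subgroupMap_surjective _ _, ?_⟩
    refine le_antisymm ?_ (Nat.card_le_card_of_surjective _ (MonoidHom.subgroupMap_surjective _ _))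
    rw [h₂, hc₂]; exact hΓle
  exact ⟨(MulEquiv.subgroupCongr h₁.symm).trans ((MulEquiv.ofBijective _ b₁).symm.trans
    ((MulEquiv.ofBijective _ b₂).trans (MulEquiv.subgroupCongr h₂)))⟩

end Cfsg.Agent.Lib.ThreeLocal66.ModelM12
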