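import Cfsg.Agent.Lib.ThreeLocal66.OddTwo
import Cfsg.Agent.Lib.ThreeLocal66.ModelM12
import Cfsg.Agent.Lib.OctahedralCore76

/-!
# The two possible involution centralisers: `GL(2,3)` and the one of `M₁₂`
-/

namespace Cfsg.Agent.Lib.ThreeLocal66

open Subgroup

variable {G : Type*} [Group G] [Finite G] {t r u q g : G} {P N : Subgroup G}

theorem Ker.eq_P (K' : Ker t r u P N) (h : ∀ x ∈ N, Odd (orderOf x) → x = 1) : N = P := by
  refine le_antisymm (fun n hn => ?_) K'.PN
  obtain ⟨a, ha, b, hb, hbo, rfl⟩ := K'.split n hn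
  rw [h b hb hbo, mul_one]; exact ha

/-- `C(t)` is generated by `R0`, `u` and `r`. -/
theorem Ker.cent_eq (K' : Ker t r u P N) (C : Core t r u q g P) (hNP : N = P) (H : Subgroup G)
    (hR0 : C.R0 ≤ H) (hu : u ∈ H) (hr : r ∈ H) (hle : ∀ x ∈ H, x * t = t * x) :
    H = Subgroup.centralizer {t} := by
  refine le_antisymm (fun x hx => mem_centralizer_singleton_iff.2 (hle x hx)) fun x hx => ?_
  have hPH : P ≤ H := C.top_R0 hR0 fun p hp => H.mul_mem (H.mul_mem hu (hR0 hp)) (H.inv_mem hu)
  obtain ⟨e, he, hxe⟩ := K'.six x (mem_centralizer_singleton_iff.1 hx)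
  have heH : e ∈ H := by
    rcases he with rfl | rfl | rfl | rfl | rfl | rfl
    exacts [one_mem _, hu, H.inv_mem hu, hr, H.mul_mem hu hr, H.mul_mem (H.inv_mem hu) hr]
  have := H.mul_mem (hPH (hNP ▸ hxe)) heH
  rwa [inv_mul_cancel_right] at this

theorem Ker.card_cent (K' : Ker t r u P N) (C : Core t r u q g P) (hNP : N = P) :
    Nat.card (Subgroup.centralizer ({t} : Set G)) = 12 * Nat.card (Core.K r P) ^ 2 := by
  rw [K'.card, hNP, C.card_P]; ring

namespace Hyp

variable (H : Hyp t r u q g) (C : Core t r u q g P) (K' : Ker t r u P N)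
include H C K'

/-- Two fixed points: `C(t) ≅ GL(2,3)`. -/
theorem gl_case (hNP : N = P) (hn : Nat.card (Core.K r P) = 2) :
    Nonempty (Subgroup.centralizer ({t} : Set G) ≃* GL (Fin 2) (ZMod 3)) := by
  set X : Subgroup G := Subgroup.centralizer {t} with hX
  set b := u⁻¹ * q * u with hb
  have hbt : b * t = t * b := C.tP _ (C.uP' C.q_mem)
  have hui : u⁻¹ * t = t * u⁻¹ := (show Commute u t from C.ut).inv_left.eq
  set M := Subgroup.closure ({r, q, b, u⁻¹} : Set G) with hM
  have hle : M ≤ X := by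
    rw [hM, closure_le]
    rintro x (rfl | rfl | rfl | rfl) <;>
      exact mem_centralizer_singleton_iff.2 (by first | exact C.rt | exact C.qt | exact hbt | exact hui)
  have hqM : q ∈ M := subset_closure (by simp)
  have htM : t ∈ M := C.qq ▸ M.mul_mem hqM hqM
  have hMX : M = X := by
    refine K'.cent_eq C hNP M (fun p hp => ?_) ?_ (subset_closure (by simp))
      fun x hx => mem_centralizer_singleton_iff.1 (hle hx)
    · rcases C.R0_two hn hp with rfl | rfl | rfl | rfl
      exacts [one_mem _, htM, hqM, M.mul_mem hqM htM]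
    · exact inv_inv u ▸ M.inv_mem (subset_closure (by simp))
  have hqi : q⁻¹ = q * t := C.q_inv
  have ha : u⁻¹ * b * u⁻¹⁻¹ = u * q * u⁻¹ := by
    rw [hb, inv_inv]
    calc u⁻¹ * (u⁻¹ * q * u) * u = (u * u)⁻¹ * q * (u * u) := by group
      _ = u * q * u⁻¹ := by rw [← C.uu_eq, inv_inv]
  set a := u * q * u⁻¹ with ha'
  have hat : a * t = t * a := C.tP _ (C.uP q C.q_mem)
  have hqab : b = (q * a)⁻¹ := eq_inv_of_mul_eq_one_right H.qn
  have hqa : q * a = a * q * t := H.qv
  have haa : a * a = t := by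
    rw [ha', show u * q * u⁻¹ * (u * q * u⁻¹) = u * (q * q) * u⁻¹ by group, C.qq, C.conj_u_t]
  have hbb : b * b = t := by
    rw [hb, show u⁻¹ * q * u * (u⁻¹ * q * u) = u⁻¹ * (q * q) * u by group, C.qq, mul_assoc, ← C.ut,
      inv_mul_cancel_left]
  have hbqb : b * q * b⁻¹ = q⁻¹ := by
    clear_value a b
    rw [hqab, inv_inv, hqi, mul_inv_rev]
    calc a⁻¹ * q⁻¹ * q * (q * a) = a⁻¹ * (q * a) := by group
      _ = q * t := by rw [hqa, mul_assoc a, inv_mul_cancel_left]
  have hij : a = q * b := by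
    clear_value a b
    have h1 : q * a * b = 1 := by rw [hb, ha']; exact H.qn
    have ht4 : q * b * (q * b) = t := by
      calc q * b * (q * b) = q * (b * q * b⁻¹) * (b * b) := by group
        _ = t := by rw [hbqb, mul_inv_cancel, one_mul, hbb]
    calc a = q⁻¹ * (q * a * b) * b⁻¹ := by group
      _ = (q * t) * (b * t) := by
        rw [h1, mul_one, hqi]
        congr 1
        refine inv_eq_of_mul_eq_one_right ?_
        rw [← mul_assoc, hbb, C.tt]
      _ = q * b * (t * t) := by rw [mul_assoc q t, ← mul_assoc t b, ← hbt]; group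
      _ = q * b := by rw [C.tt, mul_one]
  let r' : X := ⟨r, hMX ▸ (subset_closure (by simp) : r ∈ M)⟩
  let q' : X := ⟨q, hMX ▸ hqM⟩
  let b' : X := ⟨b, hMX ▸ (subset_closure (by simp) : b ∈ M)⟩
  let v' : X := ⟨u⁻¹, hMX ▸ (subset_closure (by simp) : u⁻¹ ∈ M)⟩
  have hrel : OctahedralCore76.GLRel q' b' v' r' := by
    refine ⟨⟨?_, ?_, ?_, ?_, ?_, ?_⟩, ?_, ?_, ?_⟩ <;> apply Subtype.ext
    · show q ^ 4 = 1; exact H.q_four
    · show b * b = q * q; rw [hbb, C.qq]
    · show b * q * b⁻¹ = q⁻¹; exact hbqb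
    · show u⁻¹ ^ 3 = 1; rw [inv_pow, C.pow_three_one, inv_one]
    · show u⁻¹ * q * u⁻¹⁻¹ = b; rw [inv_inv]
    · show u⁻¹ * b * u⁻¹⁻¹ = q * b; rw [ha]; exact hij
    · exact C.rr
    · show r * q * r⁻¹ = q⁻¹; rw [C.r_inv]; exact C.rqr
    · show r * u⁻¹ * r⁻¹ = u⁻¹⁻¹
      rw [C.rho_inv (u) |> fun e => (show r * u⁻¹ * r⁻¹ = (r * u * r)⁻¹ by rw [← e, C.r_inv]), C.rur]
  refine OctahedralCore76.nonempty_gl_equiv hrel ?_ ?_
  · apply Subgroup.map_injective X.subtype_injective
    rw [MonoidHom.map_closure, ← MonoidHom.range_eq_map, range_subtype]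
    simp only [Set.image_insert_eq, Set.image_singleton]
    exact hMX
  · rw [K'.card_cent C hNP, hn]; norm_num

/-- Four fixed points: `C(t)` is the centraliser of a central involution in `M₁₂`. -/
theorem m12_case (hNP : N = P) (hn : Nat.card (Core.K r P) = 4) :
    ∃ u₀ : ↥Cfsg.Spor.M12, Cfsg.IsTwoCentralInvolution u₀ ∧
      Nonempty (Subgroup.centralizer ({t} : Set G) ≃*
        ↥(Subgroup.centralizer ({u₀} : Set ↥Cfsg.Spor.M12))) := by
  classical
  obtain ⟨b, hbK, hbz, hN, hb1, hbt', hW, hY, -⟩ := C.fixed_data (le_of_eq hn.symm)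
  have hbP : b ∈ P := hbK.1
  have hb2 : b * b = 1 := hbz.sq
  have hbi : b⁻¹ = b := inv_eq_of_mul_eq_one_right hb2
  have hbt : b * t = t * b := C.tP b hbP
  set a := u * q * u⁻¹ with ha
  set c := u⁻¹ * q * u with hc
  set γ := u * b * u⁻¹ with hγ
  have haP : a ∈ P := C.uP q C.q_mem
  have hγP : γ ∈ P := C.uP b hbP
  have hcP : c ∈ P := C.uP' C.q_mem
  have hat := C.tP a haP
  have hγt := C.tP γ hγP
  have hct := C.tP c hcP
  have hqa : q * a = a * q * t := H.qv
  have hqac : q * a * c = 1 := H.qn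
  have hγ2 : γ * γ = 1 := by
    rw [hγ, show u * b * u⁻¹ * (u * b * u⁻¹) = u * (b * b) * u⁻¹ by group, hb2, mul_one,
      mul_inv_cancel]
  have hs2 : u⁻¹ * b * u = γ * b := by
    rw [eq_inv_of_mul_eq_one_right hN, mul_inv_rev, hbi, inv_eq_of_mul_eq_one_right hγ2]
  have hbγ : b * γ = γ * b := by
    have h1 : (γ * b) * (γ * b) = 1 := by
      rw [← hs2, show u⁻¹ * b * u * (u⁻¹ * b * u) = u⁻¹ * (b * b) * u by group, hb2, mul_one,
        inv_mul_cancel]
    calc b * γ = (γ * b)⁻¹ := by rw [mul_inv_rev, hbi, inv_eq_of_mul_eq_one_right hγ2]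
      _ = γ * b := inv_eq_of_mul_eq_one_right h1
  -- `b` commutes with `q`
  have hqb : q * b = b * q := by
    rcases hW q C.q_mem with h | h
    · rw [hbi] at h
      exact (calc b * q = b * q * b * b := by rw [mul_assoc (b * q), hb2, mul_one]
        _ = q * b := by rw [mul_inv_eq_one.1 h]).symm
    · exfalso
      rw [hbi] at h
      have h' : b * q * b = t * q := by rw [← h, inv_mul_cancel_right]
      have e : r * (q * b) * r * (q * b) = t := by
        rw [C.rho_mul, C.rqr, C.rho_K hbK]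
        calc q⁻¹ * b * (q * b) = q⁻¹ * (b * q * b) := by group
          _ = t := by rw [h', ← C.qt, inv_mul_cancel_left]
      exact C.t_ne (e ▸ C.exact_inv (P.mul_mem C.q_mem hbP) (Or.inr e))
  -- the fixed points of `r`
  have hK : ∀ k ∈ Core.K r P, k = 1 ∨ k = t ∨ k = b ∨ k = b * t := by
    have h4 : ({1, t, b, b * t} : Finset G).card = 4 := by
      have h1 : b * t ≠ 1 := fun e => hbt' (by
        rw [eq_inv_of_mul_eq_one_left e, C.t_inv])
      have h2 : b * t ≠ t := fun e => hb1 (mul_eq_right.1 e)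
      have h3 : b * t ≠ b := fun e => C.t_ne (mul_eq_left.1 e)
      rw [Finset.card_insert_of_notMem (by simp [C.t_ne.symm, hb1.symm, h1.symm]),
        Finset.card_insert_of_notMem (by simp [Ne.symm hbt', h2.symm]),
        Finset.card_insert_of_notMem (by simp [h3.symm]), Finset.card_singleton]
    have hsub : (({1, t, b, b * t} : Finset G) : Set G) ⊆ (Core.K r P : Set G) := by
      intro x hx
      rcases (by simpa using hx : x = 1 ∨ x = t ∨ x = b ∨ x = b * t) with rfl | rfl | rfl | rfl
      exacts [one_mem _, C.t_memK, hbK, mul_mem hbK C.t_memK]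
    have heq := Set.eq_of_subset_of_ncard_le hsub (by
      rw [Set.ncard_coe_finset, h4, ← Nat.card_coe_set_eq]; exact le_of_eq hn) (Set.toFinite _)
    intro k hk
    have : k ∈ (({1, t, b, b * t} : Finset G) : Set G) := heq ▸ hk
    simpa using this
  have hR0 : ∀ (M : Subgroup G), q ∈ M → b ∈ M → t ∈ M → C.R0 ≤ M := by
    intro M h1 h2 h3 p hp
    have hmem : ∀ k ∈ Core.K r P, k ∈ M := fun k hk => by
      rcases hK k hk with rfl | rfl | rfl | rfl
      exacts [one_mem _, h3, h2, M.mul_mem h2 h3]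
    rcases C.R0_cases hp with h | h
    · exact hmem p h
    · have := M.mul_mem h1 (hmem _ h)
      rwa [mul_inv_cancel_left] at this
  -- `b` does not commute with `a`
  have hba : b * a = a * b * t := by
    rcases hW a haP with h | h
    · exfalso
      rw [hbi] at h
      have hab : Commute b a := (calc b * a = b * a * b * b := by rw [mul_assoc (b * a), hb2, mul_one]
        _ = a * b := by rw [mul_inv_eq_one.1 h])
      have hgen : P ≤ Subgroup.centralizer {b} := by
        refine le_trans (C.top_R0 (H := Subgroup.closure ({t, q, b, a, γ} : Set G)) ?_ ?_)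
          ((closure_le _).2 ?_)
        · exact hR0 _ (subset_closure (by simp)) (subset_closure (by simp))
            (subset_closure (by simp))
        · intro p hp
          have key : ∀ k ∈ Core.K r P, u * k * u⁻¹ ∈ Subgroup.closure ({t, q, b, a, γ} : Set G) :=
            fun k hk => by
            rcases hK k hk with rfl | rfl | rfl | rfl
            · simp
            · rw [C.conj_u_t]; exact subset_closure (by simp)
            · exact subset_closure (by simp [hγ])
            · rw [show u * (b * t) * u⁻¹ = (u * b * u⁻¹) * (u * t * u⁻¹) by group, C.conj_u_t, ← hγ]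
              exact mul_mem (subset_closure (by simp)) (subset_closure (by simp))
          rcases C.R0_cases hp with h' | h'
          · exact key p h'
          · rw [show u * p * u⁻¹ = (u * q * u⁻¹) * (u * (q⁻¹ * p) * u⁻¹) by group, ← ha]
            exact mul_mem (subset_closure (by simp)) (key _ h')
        · rintro x (hx | hx | hx | hx | hx) <;> rw [hx] <;>
            refine mem_centralizer_singleton_iff.2 ?_
          exacts [hbt.symm, hqb, rfl, hab.symm.eq, hbγ.symm]
      have hle : P ≤ CP P b ⊓ CP P γ := fun p hp => by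
        have h1 := mem_centralizer_singleton_iff.1 (hgen hp)
        have h2 := mem_centralizer_singleton_iff.1 (hgen (C.uP' hp))
        refine ⟨mem_CP.2 ⟨hp, h1⟩, mem_CP.2 ⟨hp, ?_⟩⟩
        rw [hγ]
        calc p * (u * b * u⁻¹) = u * ((u⁻¹ * p * u) * b) * u⁻¹ := by group
          _ = _ := by rw [h2]; group
      have h1 := (card_le_of_le hle).trans hY
      rw [C.card_P, hn] at h1
      omega
    · rw [hbi] at h
      calc b * a = (b * a * b * a⁻¹) * a * b := by
            rw [inv_mul_cancel_right, mul_assoc (b * a), hb2, mul_one]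
        _ = a * b * t := by rw [h, mul_assoc, ← C.tP _ (P.mul_mem haP hbP)]
  -- the consequences of conjugating by `u`
  have huu : u * a * u⁻¹ = c := by
    rw [ha, hc]
    calc u * (u * q * u⁻¹) * u⁻¹ = (u * u) * q * (u * u)⁻¹ := by group
      _ = u⁻¹ * q * u := by rw [← C.uu_eq, inv_inv]
  have huc : u * c * u⁻¹ = q := by rw [hc]; group
  have hug : u * γ * u⁻¹ = γ * b := by
    rw [← hs2, hγ]
    calc u * (u * b * u⁻¹) * u⁻¹ = (u * u) * b * (u * u)⁻¹ := by group
      _ = u⁻¹ * b * u := by rw [← C.uu_eq, inv_inv]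
  have hgb : u * (γ * b) * u⁻¹ = b := by rw [← hs2]; group
  have hut : ∀ x, u * (x * t) * u⁻¹ = (u * x * u⁻¹) * t := fun x => by
    rw [show u * (x * t) * u⁻¹ = (u * x * u⁻¹) * (u * t * u⁻¹) by group, C.conj_u_t]
  have hσ : ∀ x y, u * (x * y) * u⁻¹ = (u * x * u⁻¹) * (u * y * u⁻¹) := fun x y => by group
  have hγc : γ * c = c * γ * t := by
    have h := congrArg (fun z => u * z * u⁻¹) hba
    simp only [hut, hσ, huu, ← hγ] at h
    exact h
  have hγa : γ * a = a * γ := by
    have h := congrArg (fun z => u * z * u⁻¹) hqb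
    simp only [hσ, ← hγ, ← ha] at h
    exact h.symm
  have hγq : γ * q = q * γ * t := by
    have h := congrArg (fun z => u * z * u⁻¹) hγc
    simp only [hσ, hug, huc] at h
    rw [show u * t * u⁻¹ = t from C.conj_u_t] at h
    calc γ * q = γ * b * q * b := by
          rw [mul_assoc γ b q, ← hqb, mul_assoc γ, mul_assoc q, hb2, mul_one]
      _ = q * γ * t := by
          rw [h, mul_assoc _ t b, ← hbt, ← mul_assoc _ b t, mul_assoc q _ b, mul_assoc γ b b, hb2,
            mul_one]
  have hbc : b * c = c * b * t := by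
    have hci : c = (q * a)⁻¹ := eq_inv_of_mul_eq_one_right hqac
    have e : b * (q * a) * b⁻¹ = q * a * t := by
      calc b * (q * a) * b⁻¹ = (b * q) * a * b⁻¹ := by group
        _ = q * (b * a) * b⁻¹ := by rw [← hqb]; group
        _ = q * (a * (b * t)) * b⁻¹ := by rw [hba]; group
        _ = q * (a * (t * b)) * b⁻¹ := by rw [hbt]
        _ = _ := by group
    have e2 : b * c * b⁻¹ = c * t := by
      calc b * c * b⁻¹ = (b * (q * a) * b⁻¹)⁻¹ := by rw [hci]; group
        _ = c * t := by
          rw [e, mul_inv_rev, ← hci, C.t_inv]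
          exact (C.tP c hcP).symm
    calc b * c = b * c * b⁻¹ * b := by group
      _ = c * b * t := by rw [e2, mul_assoc, ← hbt, ← mul_assoc]
  set e := q * b * t with he
  have heP : e ∈ P := P.mul_mem (P.mul_mem C.q_mem hbP) C.t_mem
  have hσe : u * e * u⁻¹ = a * γ * t := by rw [he, hut, hσ, ← ha, ← hγ]
  have hσσe : u⁻¹ * e * u = c * (γ * b) * t := by
    have e0 : u⁻¹ * t * u = t := by rw [mul_assoc, ← C.ut, inv_mul_cancel_left]
    rw [he, show u⁻¹ * (q * b * t) * u = (u⁻¹ * q * u) * (u⁻¹ * b * u) * (u⁻¹ * t * u) by group,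
      e0, ← hc, hs2]
  -- normal forms in the order `q, a, c, γ, b, t`
  have push : ∀ {x y z : G}, x * y = z → ∀ w, x * (y * w) = z * w := fun h w => by
    rw [← mul_assoc, h]
  have haq : a * q = q * a * t := by
    calc a * q = a * q * (t * t) := by rw [C.tt, mul_one]
      _ = q * a * t := by rw [← mul_assoc, ← hqa]
  have n1 := push (hqb.symm : b * q = q * b)
  have n2 := push hba
  have n3 := push hbc
  have n4 := push hγq
  have n5 := push hγa
  have n6 := push hγc
  have n7 := push hbγ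
  have n8 := push haq
  have n9 := push hb2
  have n10 := push hγ2
  have n11 := push C.qq
  have n12 : ∀ w, q * (a * (c * w)) = w := fun w => by
    rw [← mul_assoc q a, ← mul_assoc, hqac, one_mul]
  have tq := push C.qt.symm
  have ta := push hat.symm
  have tc := push hct.symm
  have tg := push hγt.symm
  have tb := push hbt.symm
  have t2 := push C.tt
  have hext : ∀ {x y : G}, (∀ w, x * w = y * w) → x = y := fun h => mul_right_cancel (h 1)
  set M := Subgroup.closure ({q, e, u, r} : Set G) with hM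
  have hle : ∀ x ∈ M, x * t = t * x := by
    have : M ≤ Subgroup.centralizer {t} := by
      rw [hM, closure_le]
      rintro x (hx | hx | hx | hx) <;> rw [hx] <;> refine mem_centralizer_singleton_iff.2 ?_
      exacts [C.qt, C.tP e heP, C.ut, C.rt]
    exact fun x hx => mem_centralizer_singleton_iff.1 (this hx)
  have hqM : q ∈ M := subset_closure (by simp)
  have htM : t ∈ M := C.qq ▸ M.mul_mem hqM hqM
  have hbM : b ∈ M := by
    have := M.mul_mem (M.mul_mem (M.inv_mem hqM) (subset_closure (by simp) : e ∈ M)) (M.inv_mem htM)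
    rwa [he, show q⁻¹ * (q * b * t) * t⁻¹ = b by group] at this
  have hMX : M = Subgroup.centralizer {t} :=
    K'.cent_eq C hNP M (hR0 M hqM hbM htM) (subset_closure (by simp)) (subset_closure (by simp)) hle
  have hee : e * e = t := hext fun w => by
    rw [he]; simp only [mul_assoc, one_mul, n1, n2, n3, n4, n5, n6, n7, n8, n9, n10, n11, n12, tq, ta, tc, tg, tb, t2]
  have hre : r * e * r = e⁻¹ := by
    have h1 : e⁻¹ = q * b := inv_eq_of_mul_eq_one_right (hext fun w => by
      rw [he]; simp only [mul_assoc, one_mul, n1, n2, n3, n4, n5, n6, n7, n8, n9, n10, n11, n12, tq, ta, tc, tg, tb, t2])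
    rw [h1, he, C.rho_mul, C.rho_mul, C.rqr, C.rho_K hbK, C.rho_K C.t_memK, C.q_inv]
    refine hext fun w => ?_
    simp only [mul_assoc, one_mul, n1, n2, n3, n4, n5, n6, n7, n8, n9, n10, n11, n12, tq, ta, tc, tg, tb, t2]
  have hqe : q * e = e * q := hext fun w => by
    rw [he]; simp only [mul_assoc, one_mul, n1, n2, n3, n4, n5, n6, n7, n8, n9, n10, n11, n12, tq, ta, tc, tg, tb, t2]
  have hed : e * (u * e * u⁻¹) = (u * e * u⁻¹) * e * t := hext fun w => by
    rw [hσe, he]; simp only [mul_assoc, one_mul, n1, n2, n3, n4, n5, n6, n7, n8, n9, n10, n11, n12, tq, ta, tc, tg, tb, t2]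
  have hqd : q * (u * e * u⁻¹) = (u * e * u⁻¹) * q := hext fun w => by
    rw [hσe]; simp only [mul_assoc, one_mul, n1, n2, n3, n4, n5, n6, n7, n8, n9, n10, n11, n12, tq, ta, tc, tg, tb, t2]
  have hae : (u * q * u⁻¹) * e = e * (u * q * u⁻¹) := hext fun w => by
    rw [← ha, he]; simp only [mul_assoc, one_mul, n1, n2, n3, n4, n5, n6, n7, n8, n9, n10, n11, n12, tq, ta, tc, tg, tb, t2]
  have hedc : e * (u * e * u⁻¹) * (u⁻¹ * e * u) = 1 := hext fun w => by
    rw [hσe, hσσe, he]; simp only [mul_assoc, one_mul, n1, n2, n3, n4, n5, n6, n7, n8, n9, n10, n11, n12, tq, ta, tc, tg, tb, t2]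
  obtain ⟨u₀, hu₀, φ⟩ := ModelM12.exists_equiv t q e u r C.qq hee C.tt C.uuu C.rr C.rur C.rqr
    hre C.ut hqe H.qv hed hqd hae H.qn hedc
    (by rw [← hM, hMX, K'.card_cent C hNP, hn]; norm_num)
  obtain ⟨φ⟩ := φ
  exact ⟨u₀, hu₀, ⟨(MulEquiv.subgroupCongr (hM.symm.trans hMX)).symm.trans φ⟩⟩

omit C K' in
/-- The two shapes of `C(t)`. -/
theorem cent_shape (O : OddHyp t r u) :
    Nonempty (Subgroup.centralizer ({t} : Set G) ≃* GL (Fin 2) (ZMod 3)) ∨
    ∃ u₀ : ↥Cfsg.Spor.M12, Cfsg.IsTwoCentralInvolution u₀ ∧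
      Nonempty (Subgroup.centralizer ({t} : Set G) ≃*
        ↥(Subgroup.centralizer ({u₀} : Set ↥Cfsg.Spor.M12))) := by
  obtain ⟨P, N, C, K'⟩ := H.exists_build
  have h2 : 2 ∣ Nat.card (Core.K r P) := by
    have h := orderOf_dvd_natCard (Core.K r P) C.t_memK
    rwa [orderOf_eq_prime (p := 2) (by rw [pow_two, C.tt]) C.t_ne] at h
  obtain ⟨k, hk⟩ := (C.two.to_le (fun x hx => hx.1 : Core.K r P ≤ P)).exists_card_eq
  have h4 := C.card_K_le
  have hk' : Nat.card (Core.K r P) = 2 ∨ Nat.card (Core.K r P) = 4 := by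
    obtain ⟨m, hm⟩ := h2
    have := Nat.card_pos (α := Core.K r P)
    rcases Nat.lt_or_ge k 3 with h | h
    · interval_cases k <;> omega
    · have := Nat.pow_le_pow_right (show 0 < 2 by norm_num) h
      omega
  rcases hk' with h | h
  · exact Or.inl (H.gl_case C K' (K'.eq_P fun x hx ho => K'.odd_trivial_of_two C O h hx ho) h)
  · exact Or.inr (H.m12_case C K'
      (K'.eq_P fun x hx ho => K'.odd_trivial_of_four C (le_of_eq h.symm) hx ho) h)

end Hyp

end Cfsg.Agent.Lib.ThreeLocal66
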