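import Cfsg.Agent.Lib.ThreeLocal66.Width

/-!
# The bound `|C_P(r)| ≤ 4`

A fixed involution `c` of `g` with trivial `u`-orbit product generates an elementary abelian group
normalised by the abelian group `⟨u, g u g⁻¹⟩`, which is impossible; so orbit products are `t`, and
`b = c t` has closed orbit.
-/

namespace Cfsg.Agent.Lib.ThreeLocal66

open Subgroup

variable {G : Type*} [Group G] [Finite G] {t r u q g : G} {P : Subgroup G}

namespace Core

variable (C : Core t r u q g P)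
include C

omit [Finite G] in
theorem ne_t_of_fixed {c : G} (hg : g * c * g⁻¹ = c) : c ≠ t := by
  rintro rfl
  rw [C.gtr] at hg
  exact C.r_not (hg ▸ C.t_mem)

/-- A fixed involution cannot have a closed orbit. -/
theorem no_closed_fixed {c : G} (hc : Zw t r c) (hK : c ∈ K r P) (hg : g * c * g⁻¹ = c)
    (h1 : c ≠ 1) (hN : c * (u * c * u⁻¹) * (u⁻¹ * c * u) = 1) : False := by
  set Z := g * u * g⁻¹ with hZ
  set a := u * c * u⁻¹ with ha
  set z := Z * c * Z⁻¹ with hz
  have hc2 : c * c = 1 := hc.sq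
  have hcinv : c⁻¹ = c := inv_eq_of_mul_eq_one_right hc2
  have hgc : g⁻¹ * c * g = c := by nth_rewrite 1 [← hg]; group
  have hs2 : u⁻¹ * c * u = c * a := by
    have h2 : (u⁻¹ * c * u) * (u⁻¹ * c * u) = 1 := by
      rw [show (u⁻¹ * c * u) * (u⁻¹ * c * u) = u⁻¹ * (c * c) * u by group, hc2, mul_one,
        inv_mul_cancel]
    calc u⁻¹ * c * u = (c * a * (u⁻¹ * c * u)) * (u⁻¹ * c * u) := by rw [hN, one_mul]
      _ = c * a := by rw [mul_assoc (c * a), h2, mul_one]
  have ha2 : a * a = 1 := by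
    rw [ha, show u * c * u⁻¹ * (u * c * u⁻¹) = u * (c * c) * u⁻¹ by group, hc2, mul_one,
      mul_inv_cancel]
  have hz2 : z * z = 1 := by
    rw [hz, show Z * c * Z⁻¹ * (Z * c * Z⁻¹) = Z * (c * c) * Z⁻¹ by group, hc2, mul_one,
      mul_inv_cancel]
  have hainv : a⁻¹ = a := inv_eq_of_mul_eq_one_right ha2
  have hzinv : z⁻¹ = z := inv_eq_of_mul_eq_one_right hz2
  have hca : c * a = a * c := by
    have h2 : (c * a) * (c * a) = 1 := by
      rw [← hs2, show (u⁻¹ * c * u) * (u⁻¹ * c * u) = u⁻¹ * (c * c) * u by group, hc2, mul_one,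
        inv_mul_cancel]
    calc c * a = (c * a)⁻¹ := (inv_eq_of_mul_eq_one_right h2).symm
      _ = a * c := by rw [mul_inv_rev, hcinv, hainv]
  have haT : a * t = t * a := C.tP a (C.uP c hK.1)
  have har : r * a * r = a * c := by rw [ha, C.u_rho, C.rho_K hK, hs2, hca]
  -- `z` is the image of `a` under `g`
  have hzg : z = g * a * g⁻¹ := by
    calc z = g * (u * (g⁻¹ * c * g) * u⁻¹) * g⁻¹ := by rw [hz, hZ]; group
      _ = g * a * g⁻¹ := by rw [hgc]
  have gmul : ∀ x y : G, g * (x * y) * g⁻¹ = (g * x * g⁻¹) * (g * y * g⁻¹) := fun x y => by group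
  have hzc : z * c = c * z := by
    rw [hzg]
    nth_rewrite 1 [← hg]; nth_rewrite 2 [← hg]
    rw [← gmul, ← gmul, hca]
  have hzr : z * r = r * z := by rw [hzg, ← C.gtr, ← gmul, ← gmul, haT]
  have htz : t * z * t = z * c := by
    rw [hzg, ← C.grt, ← gmul, ← gmul, har, gmul, hg]
  have hcD := hc.mem
  have hct : c * t = t * c := (mem_Dg.1 hcD).1
  have hcr : c * r = r * c := (mem_Dg.1 hcD).2
  -- `z` fixes `r` and moves `t` to `t c`, so it normalises `C(t, r)`
  have hztz : z * t * z⁻¹ = t * c := by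
    calc z * t * z⁻¹ = t * (t * z * t) * z⁻¹ := by
          rw [← mul_assoc t, ← mul_assoc t, C.tt, one_mul]
      _ = t * (z * c) * z⁻¹ := by rw [htz]
      _ = _ := by rw [hzc]; group
  have hzrz : z * r * z⁻¹ = r := by rw [hzr, mul_inv_cancel_right]
  have hzD : ∀ x, x * r = r * x → x * (t * c) = t * c * x → x ∈ Dg t r := by
    let φ := (MulAut.conj z).toMonoidHom
    have hle : Dg t r ≤ (Dg t r).map φ := by
      intro x hx
      refine ⟨z⁻¹ * x * z, mem_Dg.2 ⟨?_, ?_⟩, by simp [φ, mul_assoc]⟩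
      · calc z⁻¹ * x * z * t = z⁻¹ * (x * (z * t * z⁻¹)) * z := by group
          _ = z⁻¹ * ((z * t * z⁻¹) * x) * z := by
              rw [hztz, ((show Commute x t from (mem_Dg.1 hx).1).mul_right (hc.comm x hx)).eq]
          _ = _ := by group
      · calc z⁻¹ * x * z * r = z⁻¹ * (x * (z * r * z⁻¹)) * z := by group
          _ = z⁻¹ * ((z * r * z⁻¹) * x) * z := by rw [hzrz, (mem_Dg.1 hx).2]
          _ = _ := by group
    have heq : Dg t r = (Dg t r).map φ :=
      eq_of_le_of_card_ge hle (by rw [card_map_of_injective (MulAut.conj z).injective])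
    intro x hxr hxtc
    rw [heq]
    refine ⟨z⁻¹ * x * z, mem_Dg.2 ⟨?_, ?_⟩, by simp [φ, mul_assoc]⟩
    · calc z⁻¹ * x * z * t = z⁻¹ * (x * (z * t * z⁻¹)) * z := by group
        _ = z⁻¹ * ((z * t * z⁻¹) * x) * z := by rw [hztz, hxtc]
        _ = _ := by group
    · calc z⁻¹ * x * z * r = z⁻¹ * (x * (z * r * z⁻¹)) * z := by group
        _ = z⁻¹ * ((z * r * z⁻¹) * x) * z := by rw [hzrz, hxr]
        _ = _ := by group
  -- the commutator
  set d := a * z * a * z with hd
  have ht : ∀ x y : G, t * (x * y) * t = (t * x * t) * (t * y * t) := fun x y => by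
    calc t * (x * y) * t = t * x * (t * t) * y * t := by rw [C.tt, mul_one, mul_assoc t x y]
      _ = _ := by group
  have htat : t * a * t = a := by rw [← haT, mul_assoc, C.tt, mul_one]
  have hdt : d * t = t * d := by
    have e : t * d * t = d := by
      rw [hd, ht, ht, ht, htat, htz, hzc]
      calc a * (c * z) * a * (c * z) = a * c * (z * a) * (c * z) := by group
        _ = c * a * z * a * (c * z) := by rw [← hca]; group
        _ = c * a * z * (a * c) * z := by group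
        _ = c * a * (z * c) * a * z := by rw [← hca]; group
        _ = c * (a * c) * z * a * z := by rw [hzc]; group
        _ = (c * c) * a * z * a * z := by rw [← hca]; group
        _ = _ := by rw [hc2, one_mul]
    calc d * t = (t * d * t) * t := by rw [e]
      _ = t * d := by rw [mul_assoc (t * d), C.tt, mul_one]
  have hrzr : r * z * r = z := by rw [← hzr, mul_assoc, C.rr, mul_one]
  have hdr' : r * d * r = d := by
    rw [hd, C.rho_mul, C.rho_mul, C.rho_mul, har, hrzr]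
    calc a * c * z * (a * c) * z = a * (c * z) * (a * c) * z := by group
      _ = a * z * (c * a) * c * z := by rw [← hzc]; group
      _ = a * z * a * (c * c) * z := by rw [hca]; group
      _ = _ := by rw [hc2, mul_one]
  have hdr : d * r = r * d := by
    calc d * r = (r * d * r) * r := by rw [hdr']
      _ = r * d := by rw [mul_assoc (r * d), C.rr, mul_one]
  -- conjugates under `u` and `Z`
  set y := u * z * u⁻¹ with hy
  have hyZ : y = Z * a * Z⁻¹ := by
    calc y = (u * Z) * c * (u * Z)⁻¹ := by rw [hy, hz]; group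
      _ = (Z * u) * c * (Z * u)⁻¹ := by rw [C.gu]
      _ = _ := by rw [ha]; group
  have hyz : y * z = z * y := by
    rw [hyZ, hz, show Z * a * Z⁻¹ * (Z * c * Z⁻¹) = Z * (a * c) * Z⁻¹ by group,
      show Z * c * Z⁻¹ * (Z * a * Z⁻¹) = Z * (c * a) * Z⁻¹ by group, hca]
  have hy2 : y * y = 1 := by
    rw [hy, show u * z * u⁻¹ * (u * z * u⁻¹) = u * (z * z) * u⁻¹ by group, hz2, mul_one,
      mul_inv_cancel]
  have hyinv : y⁻¹ = y := inv_eq_of_mul_eq_one_right hy2
  have hZ3 : Z * Z * Z = 1 := by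
    rw [hZ, show g * u * g⁻¹ * (g * u * g⁻¹) * (g * u * g⁻¹) = g * (u * u * u) * g⁻¹ by group,
      C.uuu, mul_one, mul_inv_cancel]
  have hZt : t * Z * t = Z⁻¹ := by
    rw [hZ, ← C.grt, ← gmul, ← gmul, C.rur]; group
  have hZz : Z * z * Z⁻¹ = z * c := by
    have hZinv : Z⁻¹ = Z * Z := inv_eq_of_mul_eq_one_right (by rw [← mul_assoc]; exact hZ3)
    have htct : t * c * t = c := by rw [← hct, mul_assoc, C.tt, mul_one]
    calc Z * z * Z⁻¹ = (Z * Z) * c * (Z * Z)⁻¹ := by rw [hz]; group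
      _ = (t * Z * t) * c * (t * Z * t)⁻¹ := by rw [← hZinv, hZt]
      _ = t * (Z * (t * c * t) * Z⁻¹) * t := by rw [mul_inv_rev, mul_inv_rev, C.t_inv]; group
      _ = t * z * t := by rw [htct]
      _ = z * c := htz
  have hrZ : Z * r = r * Z := by rw [hZ, ← C.gtr, ← gmul, ← gmul, C.ut]
  -- `σ d` and `ζ d`
  set sd := u * d * u⁻¹ with hsd
  have hzd : Z * d * Z⁻¹ = z * sd⁻¹ * z := by
    have e1 : Z * d * Z⁻¹ = y * (z * c) * y * (z * c) := by
      rw [hd, show Z * (a * z * a * z) * Z⁻¹ =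
        (Z * a * Z⁻¹) * (Z * z * Z⁻¹) * (Z * a * Z⁻¹) * (Z * z * Z⁻¹) by group, ← hyZ, hZz]
    have hsd' : sd = c * y * c * y := by
      have e : r * d * r = (u⁻¹ * c * u) * z * (u⁻¹ * c * u) * z := by
        rw [hd, C.rho_mul, C.rho_mul, C.rho_mul, har, hrzr, hs2, hca]
      rw [hdr'] at e
      rw [hsd, e, hy]; group
    have e3 : sd⁻¹ = y * c * y * c := by
      rw [hsd']
      refine inv_eq_of_mul_eq_one_right ?_
      rw [show c * y * c * y * (y * c * y * c) = c * y * c * (y * y) * c * y * c by group, hy2,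
        mul_one, show c * y * c * c * y * c = c * y * (c * c) * y * c by group, hc2, mul_one,
        show c * y * y * c = c * (y * y) * c by group, hy2, mul_one, hc2]
    rw [e1, e3]
    have k1 : ∀ X, z * (y * X) = y * (z * X) := fun X => by rw [← mul_assoc, ← hyz, mul_assoc]
    have k2 : ∀ X, z * (c * X) = c * (z * X) := fun X => by rw [← mul_assoc, hzc, mul_assoc]
    have k3 : z * (z * (1 : G)) = 1 := by rw [mul_one, hz2]
    calc y * (z * c) * y * (z * c) = y * (z * (c * (y * (z * (c * 1))))) := by group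
      _ = y * (c * (y * (c * (z * (z * 1))))) := by simp only [k1, k2]
      _ = z * (y * (c * (y * (c * (z * 1))))) := by simp only [k1, k2]
      _ = _ := by group
  have hsdt : sd * t = t * sd := by
    have hu := C.conj_u_t
    calc sd * t = u * d * u⁻¹ * (u * t * u⁻¹) := by rw [hsd, hu]
      _ = u * (d * t) * u⁻¹ := by group
      _ = u * (t * d) * u⁻¹ := by rw [hdt]
      _ = (u * t * u⁻¹) * (u * d * u⁻¹) := by group
      _ = t * sd := by rw [hu, hsd]
  have hsdD : sd ∈ Dg t r := by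
    have h1 : Z * d * Z⁻¹ ∈ Dg t r := by
      refine hzD _ ?_ ?_
      · have e : Z⁻¹ * r = r * Z⁻¹ := (Commute.inv_left (show Commute Z r from hrZ)).eq
        rw [mul_assoc _ Z⁻¹, e, ← mul_assoc, mul_assoc Z d r, hdr, ← mul_assoc, hrZ]; group
      · have hsi : sd⁻¹ * t = t * sd⁻¹ := (Commute.inv_left (show Commute sd t from hsdt)).eq
        have e : t * c = z * t * z := by rw [← hztz, hzinv]
        rw [hzd, e]
        calc z * sd⁻¹ * z * (z * t * z) = z * sd⁻¹ * (z * z) * t * z := by group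
          _ = z * (t * sd⁻¹) * z := by rw [hz2, mul_one, mul_assoc z _ t, hsi]
          _ = z * t * (z * z) * sd⁻¹ * z := by rw [hz2, mul_one]; group
          _ = _ := by group
    rw [hzd] at h1
    -- `z` normalises `C(t, r)`
    have h2 : sd⁻¹ ∈ Dg t r := by
      refine mem_Dg.2 ⟨(Commute.inv_left (show Commute sd t from hsdt)).eq, ?_⟩
      have h3 := (mem_Dg.1 h1).2
      have hzr' : z⁻¹ * r = r * z⁻¹ := (Commute.inv_left (show Commute z r from hzr)).eq
      calc sd⁻¹ * r = z⁻¹ * (z * sd⁻¹ * z) * z⁻¹ * r := by group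
        _ = z⁻¹ * ((z * sd⁻¹ * z) * r) * z⁻¹ := by rw [mul_assoc _ z⁻¹ r, hzr']; group
        _ = (z⁻¹ * r) * (z * sd⁻¹ * z) * z⁻¹ := by rw [h3]; group
        _ = r * sd⁻¹ := by rw [hzr']; group
    simpa using inv_mem h2
  have hdu : d * u = u * d := by
    have h := (mem_Dg.1 hsdD).2
    have e1 : r * sd * r = sd := by rw [← h, mul_assoc, C.rr, mul_one]
    rw [hsd, C.u_rho, hdr'] at e1
    have e2 : u * (u * d * u⁻¹) * u⁻¹ = u⁻¹ * d * u := by
      calc u * (u * d * u⁻¹) * u⁻¹ = (u * u) * d * (u * u)⁻¹ := by group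
        _ = _ := by rw [← C.uu_eq, inv_inv]
    rw [e1] at e2
    have e3 : u * d * u⁻¹ = d := mul_left_cancel (mul_right_cancel e2)
    calc d * u = (u * d * u⁻¹) * u := by rw [e3]
      _ = u * d := inv_mul_cancel_right _ _
  -- hence `d = 1`
  have hd1 : d = 1 := by
    obtain ⟨e, he, hde⟩ := C.cu d hdt hdu
    have he1 : e = 1 := by
      have her : r * e * r = e := by
        rcases hde with h | h
        · rw [← h]; exact hdr'
        · have : e = d * t := by rw [h, mul_assoc, C.tt, mul_one]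
          rw [this, C.rho_mul, hdr', C.rho_K C.t_memK]
      rcases he with h | h | h
      · exact h
      · exfalso
        rw [h, C.rur] at her
        apply C.u_ne
        calc u = u⁻¹ * u * u := by group
          _ = u * u * u := by rw [her]
          _ = 1 := C.uuu
      · exfalso
        rw [h, C.rho_inv, C.rur, inv_inv] at her
        apply C.u_ne
        calc u = u⁻¹ * u * u := by group
          _ = u * u * u := by rw [← her]
          _ = 1 := C.uuu
    rw [he1] at hde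
    rcases hde with h | h
    · exact h
    · exfalso
      rw [one_mul] at h
      have hinv : z * d * z = d⁻¹ := by
        refine (inv_eq_of_mul_eq_one_right ?_).symm
        rw [hd, show a * z * a * z * (z * (a * z * a * z) * z) =
          a * z * a * (z * z) * a * z * a * (z * z) by group, hz2, mul_one, mul_one,
          show a * z * a * a * z * a = a * z * (a * a) * z * a by group, ha2, mul_one,
          show a * z * z * a = a * (z * z) * a by group, hz2, mul_one, ha2]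
      rw [h, C.t_inv] at hinv
      have : t * c = t := by rw [← hztz, hzinv, hinv]
      exact h1 (mul_eq_left.1 this)
  -- all commute
  have haz : a * z = z * a := by
    calc a * z = (a * z * a * z) * (z * a) := by
          calc a * z = a * z * (a * (z * z) * a) := by rw [hz2, mul_one, ha2, mul_one]
            _ = _ := by group
      _ = z * a := by rw [← hd, hd1, one_mul]
  have hcy : c * y = y * c := by
    have e : (u⁻¹ * c * u) * z = z * (u⁻¹ * c * u) := by
      rw [hs2, mul_assoc, haz, ← mul_assoc, ← hzc, mul_assoc]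
    calc c * y = u * ((u⁻¹ * c * u) * z) * u⁻¹ := by rw [hy]; group
      _ = u * (z * (u⁻¹ * c * u)) * u⁻¹ := by rw [e]
      _ = _ := by rw [hy]; group
  have hay : a * y = y * a := by
    rw [hy, ha, show u * c * u⁻¹ * (u * z * u⁻¹) = u * (c * z) * u⁻¹ by group,
      show u * z * u⁻¹ * (u * c * u⁻¹) = u * (z * c) * u⁻¹ by group, hzc]
  -- `z a` is fixed by `Z u`
  set w := Z * u with hw
  have hwc : w * c * w⁻¹ = y := by rw [hyZ, hw, ha]; group
  have hua : u * a * u⁻¹ = c * a := by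
    rw [← hs2, ha]
    calc u * (u * c * u⁻¹) * u⁻¹ = (u * u) * c * (u * u)⁻¹ := by group
      _ = _ := by rw [← C.uu_eq, inv_inv]
  have hwa : w * a * w⁻¹ = z * y := by
    calc w * a * w⁻¹ = Z * (u * a * u⁻¹) * Z⁻¹ := by rw [hw]; group
      _ = Z * (c * a) * Z⁻¹ := by rw [hua]
      _ = (Z * c * Z⁻¹) * (Z * a * Z⁻¹) := by group
      _ = z * y := by rw [← hz, ← hyZ]
  have huy : u * y * u⁻¹ = y * z := by
    calc u * y * u⁻¹ = (u * Z) * a * (u * Z)⁻¹ := by rw [hyZ]; group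
      _ = (Z * u) * a * (Z * u)⁻¹ := by rw [C.gu]
      _ = Z * (u * a * u⁻¹) * Z⁻¹ := by group
      _ = Z * (c * a) * Z⁻¹ := by rw [hua]
      _ = (Z * c * Z⁻¹) * (Z * a * Z⁻¹) := by group
      _ = z * y := by rw [← hz, ← hyZ]
      _ = y * z := hyz.symm
  have hwz : w * z * w⁻¹ = Z * y * Z⁻¹ := by rw [hw, hy]; group
  have hZy : Z * y * Z⁻¹ = y * a := by
    calc Z * y * Z⁻¹ = Z * (u * z * u⁻¹) * Z⁻¹ := by rw [hy]
      _ = (Z * u) * z * (Z * u)⁻¹ := by group
      _ = (u * Z) * z * (u * Z)⁻¹ := by rw [C.gu]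
      _ = u * (Z * z * Z⁻¹) * u⁻¹ := by group
      _ = u * (z * c) * u⁻¹ := by rw [hZz]
      _ = y * a := by rw [hy, ha]; group
  set y₀ := z * a with hy0
  have hy0w : w * y₀ * w⁻¹ = y₀ := by
    calc w * y₀ * w⁻¹ = (w * z * w⁻¹) * (w * a * w⁻¹) := by rw [hy0]; group
      _ = y * a * (z * y) := by rw [hwz, hZy, hwa]
      _ = (a * y) * (y * z) := by rw [hay, hyz]
      _ = a * (y * y) * z := by group
      _ = y₀ := by rw [hy2, mul_one, haz]
  have hcomm_of : ∀ m x : G, m * x * m⁻¹ = x → x * m = m * x := fun m x h => by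
    calc x * m = (m * x * m⁻¹) * m := by rw [h]
      _ = m * x := inv_mul_cancel_right _ _
  have hy02 : y₀ * y₀ = 1 := by
    calc y₀ * y₀ = (z * z) * (a * a) := (show Commute a z from haz).mul_mul_mul_comm z a
      _ = 1 := by rw [hz2, ha2, one_mul]
  have hy0_1 : y₀ = 1 := by
    by_contra hne
    set y₁ := u * y₀ * u⁻¹ with hy1
    have hy1e : y₁ = y * (c * a) := by
      calc y₁ = (u * z * u⁻¹) * (u * a * u⁻¹) := by rw [hy1, hy0]; group
        _ = _ := by rw [← hy, hua]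
    have hy12 : y₁ * y₁ = 1 := by
      rw [hy1, show u * y₀ * u⁻¹ * (u * y₀ * u⁻¹) = u * (y₀ * y₀) * u⁻¹ by group, hy02, mul_one,
        mul_inv_cancel]
    have hy11 : y₁ ≠ 1 := fun h => hne (conj_eq_one_iff.1 h)
    have hwu : w * u = u * w := by rw [hw, ← mul_assoc u, ← C.gu]
    have hy1w : w * y₁ * w⁻¹ = y₁ := by
      calc w * y₁ * w⁻¹ = (w * u) * y₀ * (w * u)⁻¹ := by rw [hy1]; group
        _ = (u * w) * y₀ * (u * w)⁻¹ := by rw [hwu]
        _ = u * (w * y₀ * w⁻¹) * u⁻¹ := by group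
        _ = y₁ := by rw [hy0w]
    have hcomm01 : y₀ * y₁ = y₁ * y₀ := by
      have k : ∀ m, c * m = m * c → a * m = m * a → y * m = m * y → y₁ * m = m * y₁ := by
        intro m h1 h2 h3
        rw [hy1e]
        exact ((show Commute y m from h3).mul_left ((show Commute c m from h1).mul_left h2)).eq
      rw [hy0]
      have e1 := k z hzc.symm haz hyz
      have e2 := k a hca rfl hay.symm
      exact ((show Commute y₁ z from e1).mul_right e2).eq.symm
    have heq := C.pairW w (Or.inl rfl) y₀ y₁ hy02 hy12 hne hy11 hcomm01 (hcomm_of w _ hy0w)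
      (hcomm_of w _ hy1w)
    have hu0 : y₀ * u = u * y₀ := hcomm_of u _ (hy1.symm.trans heq.symm)
    refine hne (C.hQ y₀ hy02 hu0 ?_)
    have hw0 := hcomm_of w _ hy0w
    have e : Z = w * u⁻¹ := by rw [hw]; group
    show y₀ * Z = Z * y₀
    rw [e]
    exact ((show Commute y₀ w from hw0).mul_right (show Commute y₀ u from hu0).inv_right).eq
  have hza : z = a := by
    rw [hy0] at hy0_1
    rw [← hainv]; exact eq_inv_of_mul_eq_one_left hy0_1
  -- so `c` is fixed by `Z⁻¹ u`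
  set w' := Z⁻¹ * u with hw'
  have hw'c : w' * c * w'⁻¹ = c := by
    calc w' * c * w'⁻¹ = Z⁻¹ * a * Z := by rw [hw', ha]; group
      _ = Z⁻¹ * z * Z := by rw [hza]
      _ = c := by rw [hz]; group
  have hw'u : w' * u = u * w' := by
    rw [hw']
    have : Z⁻¹ * u = u * Z⁻¹ := (Commute.inv_left (show Commute Z u from C.gu)).eq
    rw [mul_assoc, ← mul_assoc u, ← this, mul_assoc]
  have hw'a : w' * a * w'⁻¹ = a := by
    calc w' * a * w'⁻¹ = (w' * u) * c * (w' * u)⁻¹ := by rw [ha]; group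
      _ = (u * w') * c * (u * w')⁻¹ := by rw [hw'u]
      _ = u * (w' * c * w'⁻¹) * u⁻¹ := by group
      _ = a := by rw [hw'c]
  have ha1 : a ≠ 1 := fun h => h1 (conj_eq_one_iff.1 h)
  have heq := C.pairW w' (Or.inr rfl) c a hc2 ha2 h1 ha1 hca (hcomm_of w' _ hw'c)
    (hcomm_of w' _ hw'a)
  rcases C.fixed_P hK.1 (hcomm_of u _ heq.symm) with h | h
  · exact h1 h
  · exact C.ne_t_of_fixed hg h

omit [Finite G] in
theorem norm_cases {p : G} (hp : p ∈ P) :
    p * (u * p * u⁻¹) * (u⁻¹ * p * u) = 1 ∨ p * (u * p * u⁻¹) * (u⁻¹ * p * u) = t :=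
  C.nrm p hp

omit [Finite G] in
theorem norm_mul_t {c : G} (hc : c ∈ P)
    (h : c * (u * c * u⁻¹) * (u⁻¹ * c * u) = t) :
    c * t * (u * (c * t) * u⁻¹) * (u⁻¹ * (c * t) * u) = 1 := by
  have e1 : u * (c * t) * u⁻¹ = u * c * u⁻¹ * t := by
    calc u * (c * t) * u⁻¹ = (u * c * u⁻¹) * (u * t * u⁻¹) := by group
      _ = _ := by rw [C.conj_u_t]
  have hut : u⁻¹ * t * u = t := by rw [mul_assoc, ← C.ut, inv_mul_cancel_left]
  have e2 : u⁻¹ * (c * t) * u = u⁻¹ * c * u * t := by
    calc u⁻¹ * (c * t) * u = (u⁻¹ * c * u) * (u⁻¹ * t * u) := by group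
      _ = _ := by rw [hut]
  have ha := C.uP c hc
  have hb := C.uP' hc
  rw [e1, e2]
  calc c * t * (u * c * u⁻¹ * t) * (u⁻¹ * c * u * t)
      = c * (t * (u * c * u⁻¹)) * t * (u⁻¹ * c * u * t) := by group
    _ = c * (u * c * u⁻¹) * (t * t) * (u⁻¹ * c * u * t) := by rw [← C.tP _ ha]; group
    _ = c * (u * c * u⁻¹) * (u⁻¹ * c * u) * t := by rw [C.tt, mul_one]; group
    _ = 1 := by rw [h, C.tt]

/-- A central involution of `C(t, r)` fixed by `g`, inside `P`. -/
theorem exists_fixed (h4 : 4 ≤ Nat.card (K r P)) :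
    ∃ c, Zw t r c ∧ c ∈ K r P ∧ g * c * g⁻¹ = c ∧ c ≠ 1 := by
  let D2 := C.withR (K r P) (fun x hx => by rw [C.rho_K hx]; exact hx)
  obtain ⟨hD2, hD2c⟩ := C.withR_facts (K r P) (fun x hx => hx.1)
    (fun x hx => by rw [C.rho_K hx]; exact hx)
  let K' := (K r P).map (MulAut.conj g).toMonoidHom
  have hK' : K' ≤ D2 := by
    rintro _ ⟨k, hk, rfl⟩
    exact C.two_Dg ((C.g_normD k).2 (C.K_le_Dg hk)) ((TwoEl.of_mem C.two hk.1).conj g)
  have hKle : K r P ≤ D2 := fun x hx => Or.inl hx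
  let U := K r P ⊓ K'
  have hidx : (K r P).relIndex D2 = 2 := by
    have h1 := relIndex_mul_relIndex (⊥ : Subgroup G) (K r P) D2 bot_le hKle
    rw [relIndex_bot_left, relIndex_bot_left, hD2c, mul_comm 2] at h1
    exact Nat.eq_of_mul_eq_mul_left Nat.card_pos h1
  have hidx' : K'.relIndex D2 = 2 := by
    have h1 := relIndex_mul_relIndex (⊥ : Subgroup G) K' D2 bot_le hK'
    have h2 : Nat.card K' = Nat.card (K r P) := card_map_of_injective (MulAut.conj g).injective
    rw [relIndex_bot_left, relIndex_bot_left, hD2c, h2, mul_comm 2] at h1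
    exact Nat.eq_of_mul_eq_mul_left Nat.card_pos h1
  have hn1 : ((K r P).subgroupOf D2).Normal := normal_of_index_eq_two hidx
  have hn2 : (K'.subgroupOf D2).Normal := normal_of_index_eq_two hidx'
  have hUn : (U.subgroupOf D2).Normal :=
    show ((K r P).subgroupOf D2 ⊓ K'.subgroupOf D2).Normal from inferInstance
  have hU1 : U.subgroupOf D2 ≠ ⊥ := by
    intro h
    have h1 : Nat.card (U.subgroupOf D2) = 1 := by rw [h, card_bot]
    rw [Nat.card_congr (subgroupOfEquivOfLe (inf_le_left.trans hKle : U ≤ D2)).toEquiv] at h1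
    have h2 := relIndex_mul_relIndex (⊥ : Subgroup G) U D2 bot_le (inf_le_left.trans hKle)
    have h3 : U.relIndex D2 ≤ 4 := relIndex_inf_le.trans (by rw [hidx, hidx'])
    rw [relIndex_bot_left, relIndex_bot_left, hD2c, h1, one_mul] at h2
    omega
  have : Group.IsNilpotent D2 := hD2.isNilpotent
  obtain ⟨⟨c₀, hc₀D⟩, hc₀, hc₀ne⟩ := (Subgroup.ne_bot_iff_exists_ne_one (H := U.subgroupOf D2 ⊓ center D2)).1
    (FpfSThreeFree86.inf_center_ne_bot hU1) |> fun ⟨a, ha⟩ => (⟨a.1, a.2, fun e => ha (Subtype.ext e)⟩ :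
      ∃ a : D2, a ∈ U.subgroupOf D2 ⊓ center D2 ∧ a ≠ 1)
  obtain ⟨hcU, hcC⟩ := hc₀
  -- an involution
  have hcne : c₀ ≠ 1 := fun h => hc₀ne (Subtype.ext h)
  obtain ⟨k, hk⟩ := TwoEl.of_mem C.two (show c₀ ∈ P from hcU.1.1)
  obtain ⟨l, -, hl⟩ := (Nat.dvd_prime_pow Nat.prime_two).1 (orderOf_dvd_of_pow_eq_one hk)
  have hl0 : l ≠ 0 := by
    rintro rfl
    rw [pow_zero, orderOf_eq_one_iff] at hl
    exact hcne hl
  set c₁ := c₀ ^ (2 ^ (l - 1)) with hc₁
  have hc12 : c₁ * c₁ = 1 := by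
    rw [hc₁, ← pow_add, ← two_mul, ← pow_succ', Nat.sub_add_cancel (Nat.one_le_iff_ne_zero.2 hl0),
      ← hl, pow_orderOf_eq_one]
  have hc1ne : c₁ ≠ 1 := fun h => by
    have := orderOf_dvd_of_pow_eq_one h
    rw [hl] at this
    have := (Nat.pow_dvd_pow_iff_le_right (by norm_num : 1 < 2)).1 this
    omega
  have hc1U : c₁ ∈ U := pow_mem hcU _
  have hzw : ∀ z, z ∈ U → z * z = 1 → (∀ d ∈ D2, d * z = z * d) → Zw t r z := fun z hz h2 hc =>
    Zw.of_K C hz.1 h2 fun k hk => hc k (hKle hk)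
  have hc1z : Zw t r c₁ := by
    refine hzw c₁ hc1U hc12 fun d hd => ?_
    exact ((show Commute d c₀ from congrArg Subtype.val (mem_center_iff.1 hcC ⟨d, hd⟩)).pow_right _).eq
  -- apply `g`
  set c₂ := g * c₁ * g⁻¹ with hc₂
  have hg2 : g * c₂ * g⁻¹ = c₁ := by
    calc g * c₂ * g⁻¹ = (g * g) * c₁ * (g * g)⁻¹ := by rw [hc₂]; group
      _ = c₁ := by rw [hc1z.comm _ C.g_sq, mul_inv_cancel_right]
  have hc2U : c₂ ∈ U := by
    refine ⟨?_, ⟨c₁, hc1U.1, rfl⟩⟩
    obtain ⟨k₁, hk₁, e⟩ := hc1U.2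
    have e' : g * k₁ * g⁻¹ = c₁ := e
    have : c₂ = k₁ := by
      rw [← hg2] at e'
      exact (mul_left_cancel (mul_right_cancel e')).symm
    rw [this]; exact hk₁
  have hc22 : c₂ * c₂ = 1 := by
    rw [hc₂, show g * c₁ * g⁻¹ * (g * c₁ * g⁻¹) = g * (c₁ * c₁) * g⁻¹ by group, hc12, mul_one,
      mul_inv_cancel]
  by_cases heq : c₂ = c₁
  · exact ⟨c₁, hc1z, hc1U.1, heq, hc1ne⟩
  have hc2z : ∀ d ∈ Dg t r, d * c₂ = c₂ * d := by
    intro d hd
    have hd' : g⁻¹ * d * g ∈ Dg t r := by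
      rw [← C.g_normD]; rwa [show g * (g⁻¹ * d * g) * g⁻¹ = d by group]
    calc d * c₂ = g * ((g⁻¹ * d * g) * c₁) * g⁻¹ := by rw [hc₂]; group
      _ = _ := by rw [hc1z.comm _ hd', hc₂]; group
  have hcomm : c₁ * c₂ = c₂ * c₁ := hc2z c₁ hc1z.mem
  refine ⟨c₁ * c₂, ⟨?_, mul_mem hc1z.mem (C.K_le_Dg hc2U.1), fun d hd => ?_⟩,
    mul_mem hc1U.1 hc2U.1, ?_, fun h => heq ?_⟩
  · rw [(show Commute c₂ c₁ from hcomm.symm).mul_mul_mul_comm, hc12, hc22, mul_one]
  · exact ((show Commute d c₁ from hc1z.comm d hd).mul_right (hc2z d hd)).eq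
  · calc g * (c₁ * c₂) * g⁻¹ = c₂ * (g * c₂ * g⁻¹) := by rw [hc₂]; group
      _ = c₁ * c₂ := by rw [hg2, hcomm]
  · calc c₂ = c₁ * (c₁ * c₂) := by rw [← mul_assoc, hc12, one_mul]
      _ = c₁ := by rw [h, mul_one]

/-- The data of the fixed involution. -/
theorem fixed_data (h4 : 4 ≤ Nat.card (K r P)) :
    ∃ b, b ∈ K r P ∧ Zw t r b ∧ b * (u * b * u⁻¹) * (u⁻¹ * b * u) = 1 ∧ b ≠ 1 ∧ b ≠ t ∧
      W t P b ∧ Nat.card (CP P b ⊓ CP P (u * b * u⁻¹) : Subgroup G) ≤ 2 * Nat.card (K r P) ∧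
      Nat.card (K r P) ≤ 4 := by
  obtain ⟨c, hc, hcK, hg, h1⟩ := C.exists_fixed h4
  rcases C.norm_cases hcK.1 with hN | hN
  · exact (C.no_closed_fixed hc hcK hg h1 hN).elim
  have hne := C.ne_t_of_fixed hg
  have hbK : c * t ∈ K r P := mul_mem hcK C.t_memK
  have hct : c * t = t * c := C.tP c hcK.1
  have hb : Zw t r (c * t) :=
    ⟨by rw [(show Commute t c from hct.symm).mul_mul_mul_comm, hc.sq, C.tt, mul_one],
      C.K_le_Dg hbK,
      fun d hd => ((show Commute d c from hc.comm d hd).mul_right (mem_Dg.1 hd).1).eq⟩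
  have hb' : g⁻¹ * (c * t) * g ∉ K r P := by
    have hgc : g⁻¹ * c * g = c := by nth_rewrite 1 [← hg]; group
    have hgt : g⁻¹ * t * g = r := by rw [← C.grt]; group
    rw [show g⁻¹ * (c * t) * g = (g⁻¹ * c * g) * (g⁻¹ * t * g) by group, hgc, hgt]
    exact fun h => C.r_not ((Subgroup.mul_mem_cancel_left _ hcK).1 h).1
  obtain ⟨hW, hY, hn⟩ := C.closed_case hb hbK hb' (C.norm_mul_t hcK.1 hN)
  refine ⟨c * t, hbK, hb, C.norm_mul_t hcK.1 hN, fun h => hne ?_, fun h => h1 ?_, hW, hY, hn⟩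
  · calc c = c * (t * t) := by rw [C.tt, mul_one]
      _ = t := by rw [← mul_assoc, h, one_mul]
  · exact mul_eq_right.1 h

/-- The main bound. -/
theorem card_K_le : Nat.card (K r P) ≤ 4 := by
  by_contra h
  obtain ⟨b, -, -, -, -, -, -, -, hn⟩ := C.fixed_data (by omega)
  omega

end Core

end Cfsg.Agent.Lib.ThreeLocal66
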