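import Cfsg.Agent.Lib.ThreeLocal66.Build
import Cfsg.Agent.Lib.ThreeLocal66.Bound

/-!
# The odd part of the kernel when `|C_P(r)| = 4`

The involution `c` fixed by the swap is conjugate to `t`, so the odd elements of its centraliser
are those of `C(t)`; the swap then carries them to those of `C(r)`.
-/

namespace Cfsg.Agent.Lib.ThreeLocal66

open Subgroup

variable {G : Type*} [Group G] [Finite G] {t r u q g : G} {P N : Subgroup G}

/-- Elements of `C(z)` of odd order prime to three. -/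
def SOdd (z : G) : Set G := {x | x * z = z * x ∧ Odd (orderOf x) ∧ ¬ 3 ∣ orderOf x}

theorem SOdd_conj (k z : G) : SOdd (k * z * k⁻¹) = (fun x => k * x * k⁻¹) '' SOdd z := by
  ext x
  constructor
  · rintro ⟨hx, h1, h2⟩
    have ho : orderOf (k⁻¹ * x * k) = orderOf x := by
      have := orderOf_injective (MulAut.conj k⁻¹).toMonoidHom (MulAut.conj k⁻¹).injective x
      simpa using this
    refine ⟨k⁻¹ * x * k, ⟨?_, ho ▸ h1, ho ▸ h2⟩, by group⟩
    calc k⁻¹ * x * k * z = k⁻¹ * (x * (k * z * k⁻¹)) * k := by group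
      _ = z * (k⁻¹ * x * k) := by rw [hx]; group
  · rintro ⟨y, ⟨hy, h1, h2⟩, rfl⟩
    have ho : orderOf (k * y * k⁻¹) = orderOf y :=
      orderOf_injective (MulAut.conj k).toMonoidHom (MulAut.conj k).injective y
    refine ⟨?_, ho.symm ▸ h1, ho.symm ▸ h2⟩
    show k * y * k⁻¹ * (k * z * k⁻¹) = k * z * k⁻¹ * (k * y * k⁻¹)
    calc k * y * k⁻¹ * (k * z * k⁻¹) = k * (y * z) * k⁻¹ := by group
      _ = _ := by rw [hy]; group

namespace Ker

variable (K' : Ker t r u P N) (C : Core t r u q g P)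
include K' C

omit [Finite G] C in
theorem u_notN (h : u ∈ N) (C : Core t r u q g P) : False := by
  have := orderOf_dvd_natCard N h
  have h3 : orderOf u = 3 := by
    have : Fact (Nat.Prime 3) := ⟨Nat.prime_three⟩
    exact orderOf_eq_prime C.pow_three_one C.u_ne
  exact K'.three (h3 ▸ this)

/-- Odd elements of `C(t)` of order prime to three lie in the kernel. -/
theorem sodd_mem {x : G} (hx : x ∈ SOdd t) : x ∈ N := by
  obtain ⟨hxt, ho, h3⟩ := hx
  let X : Subgroup G := Subgroup.centralizer {t}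
  have : (N.subgroupOf X).Normal := ⟨fun a ha y => mem_subgroupOf.2
    (K'.norm y (mem_centralizer_singleton_iff.1 y.2) a (mem_subgroupOf.1 ha))⟩
  let x' : X := ⟨x, mem_centralizer_singleton_iff.2 hxt⟩
  have hle : N ≤ X := fun n hn => mem_centralizer_singleton_iff.2 (K'.le n hn)
  have hidx : (N.subgroupOf X).index = 6 := by
    have h := card_mul_index (N.subgroupOf X)
    rw [Nat.card_congr (subgroupOfEquivOfLe hle).toEquiv, K'.card, mul_comm 6] at h
    exact Nat.eq_of_mul_eq_mul_left Nat.card_pos h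
  have h6 : x' ^ 6 ∈ N.subgroupOf X := hidx ▸ pow_index_mem _ x'
  have hc : Nat.Coprime 6 (orderOf x) := by
    rw [show (6 : ℕ) = 2 * 3 from rfl]
    exact Nat.Coprime.mul_left (Nat.coprime_two_left.2 ho) ((Nat.prime_three.coprime_iff_not_dvd).2 h3)
  have hg : x ^ ((Nat.gcd 6 (orderOf x) : ℕ) : ℤ) ∈ N := by
    rw [Nat.gcd_eq_gcd_ab, zpow_add, zpow_mul, zpow_mul, zpow_natCast, zpow_natCast,
      pow_orderOf_eq_one, one_zpow, mul_one]
    exact N.zpow_mem (mem_subgroupOf.1 h6) _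
  rwa [hc.gcd_eq_one, Nat.cast_one, zpow_one] at hg

omit [Finite G] C in
theorem mem_sodd {x : G} (hx : x ∈ N) (ho : Odd (orderOf x)) : x ∈ SOdd t :=
  ⟨K'.le x hx, ho, fun h => K'.three (h.trans (orderOf_dvd_natCard N hx))⟩

/-- An odd element of the kernel centralised by `u` is trivial. -/
theorem odd_fixed {x : G} (hx : x ∈ N) (ho : Odd (orderOf x)) (hu : x * u = u * x) : x = 1 := by
  obtain ⟨e, he, hxe⟩ := C.cu x (K'.le x hx) hu
  have htN : t ∈ N := K'.PN C.t_mem
  have heN : e ∈ N := by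
    rcases hxe with h | h
    · exact h ▸ hx
    · exact (Subgroup.mul_mem_cancel_right _ htN).1 (h ▸ hx)
  rcases he with rfl | rfl | rfl
  · rcases hxe with h | h
    · exact h
    · exfalso
      rw [one_mul] at h
      have : Fact (Nat.Prime 2) := ⟨Nat.prime_two⟩
      rw [h, orderOf_eq_prime (by rw [pow_two, C.tt]) C.t_ne] at ho
      exact (by decide : ¬ Odd 2) ho
  · exact (K'.u_notN heN C).elim
  · exact (K'.u_notN (inv_inv u ▸ N.inv_mem heN) C).elim

/-- With four fixed points of `r` on `P` the kernel is the two-group `P`. -/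
theorem odd_trivial_of_four (h4 : 4 ≤ Nat.card (Core.K r P)) {x : G} (hx : x ∈ N)
    (ho : Odd (orderOf x)) : x = 1 := by
  obtain ⟨c, hc, hcK, hg, hc1⟩ := C.exists_fixed h4
  rcases C.norm_cases hcK.1 with hN | hN
  · exact (C.no_closed_fixed hc hcK hg hc1 hN).elim
  have hct : c * t = t * c := C.tP c hcK.1
  have hb : Core.Zw t r (c * t) :=
    ⟨by rw [(show Commute t c from hct.symm).mul_mul_mul_comm, hc.sq, C.tt, mul_one],
      C.K_le_Dg (mul_mem hcK C.t_memK),
      fun d hd => ((show Commute d c from hc.comm d hd).mul_right (mem_Dg.1 hd).1).eq⟩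
  have hbK : c * t ∈ Core.K r P := mul_mem hcK C.t_memK
  have hgt : g⁻¹ * t * g = r := by rw [← C.grt]; group
  have hgc : g⁻¹ * c * g = c := by nth_rewrite 1 [← hg]; group
  have hb' : g⁻¹ * (c * t) * g ∉ Core.K r P := by
    rw [show g⁻¹ * (c * t) * g = (g⁻¹ * c * g) * (g⁻¹ * t * g) by group, hgc, hgt]
    exact fun h => C.r_not ((Subgroup.mul_mem_cancel_left _ hcK).1 h).1
  obtain ⟨hW, hY, -⟩ := C.closed_case hb hbK hb' (C.norm_mul_t hcK.1 hN)
  -- `c * t` is moved by some element of `P`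
  obtain ⟨p, hp, hpb⟩ : ∃ p ∈ P, p * (c * t) ≠ (c * t) * p := by
    by_contra hall
    simp only [not_exists, not_and, not_not] at hall
    have hsb : ∀ p ∈ P, p * (u * (c * t) * u⁻¹) = (u * (c * t) * u⁻¹) * p := fun p hp => by
      calc p * (u * (c * t) * u⁻¹) = u * ((u⁻¹ * p * u) * (c * t)) * u⁻¹ := by group
        _ = _ := by rw [hall _ (C.uP' hp)]; group
    have hle : P ≤ CP P (c * t) ⊓ CP P (u * (c * t) * u⁻¹) := fun p hp =>
      ⟨mem_CP.2 ⟨hp, hall p hp⟩, mem_CP.2 ⟨hp, hsb p hp⟩⟩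
    have h1 := (card_le_of_le hle).trans hY
    rw [C.card_P] at h1
    nlinarith
  have hconj : p * (c * t) * p⁻¹ = c := by
    rcases hW p hp with h | h
    · exact absurd (mul_inv_eq_one.1 (by simpa [mul_assoc] using h) : c * t * p * (c * t)⁻¹ = p)
        (fun e => hpb (by nth_rewrite 1 [← e]; rw [inv_mul_cancel_right]))
    · calc p * (c * t) * p⁻¹ = (c * t) * ((c * t)⁻¹ * p * (c * t) * p⁻¹) := by group
        _ = (c * t) * ((c * t) * p * (c * t)⁻¹ * p⁻¹) := by
          rw [inv_eq_of_mul_eq_one_right hb.sq]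
        _ = c := by rw [h, mul_assoc, C.tt, mul_one]
  -- `c` is conjugate to `t`
  obtain ⟨a, -, ha⟩ := C.conj_of_invol hcK.1 (by
    rw [show r * c * (r * c) = (r * c * r) * c by group, C.rho_K hcK, hc.sq])
  have hcconj : ∃ k : G, k * t * k⁻¹ = c := by
    refine ⟨p * g * a * g, ?_⟩
    calc p * g * a * g * t * (p * g * a * g)⁻¹
        = p * (g * (a * (g * t * g⁻¹) * a⁻¹) * g⁻¹) * p⁻¹ := by group
      _ = p * ((g * r * g⁻¹) * (g * c * g⁻¹)) * p⁻¹ := by rw [C.gtr, ha]; group
      _ = c := by rw [C.grt, hg, ← hct]; exact hconj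
  obtain ⟨k, hk⟩ := hcconj
  have hsub : SOdd t ⊆ SOdd c := fun y hy =>
    ⟨K'.odd y (K'.sodd_mem C hy) hy.2.1 c hcK.1, hy.2.1, hy.2.2⟩
  have heq : SOdd t = SOdd c := by
    refine Set.eq_of_subset_of_ncard_le hsub ?_ (Set.toFinite _)
    rw [← hk, SOdd_conj]
    exact Set.ncard_image_le (Set.toFinite _)
  have hr : SOdd r = SOdd t := by
    rw [← C.gtr, SOdd_conj, heq, ← SOdd_conj, hg]
  have hcomm : ∀ y ∈ N, Odd (orderOf y) → y * r = r * y := fun y hy hyo =>
    (hr.symm ▸ K'.mem_sodd hy hyo : y ∈ SOdd r).1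
  refine K'.odd_fixed C hx ho ?_
  -- `x` commutes with `r` and with `u⁻¹ * r * u`
  have hxu : u * x * u⁻¹ ∈ N := K'.norm u C.ut x hx
  have hxo : Odd (orderOf (u * x * u⁻¹)) := by
    rwa [show orderOf (u * x * u⁻¹) = orderOf x from
      orderOf_injective (MulAut.conj u).toMonoidHom (MulAut.conj u).injective x]
  have h1 : Commute x r := hcomm x hx ho
  have h2 : Commute x (u⁻¹ * r * u) := by
    show x * (u⁻¹ * r * u) = u⁻¹ * r * u * x
    calc x * (u⁻¹ * r * u) = u⁻¹ * ((u * x * u⁻¹) * r) * u := by group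
      _ = _ := by rw [hcomm _ hxu hxo]; group
  have h3 : Commute x (u * u) := by
    have h := h1.mul_right h2
    rwa [show r * (u⁻¹ * r * u) = u * u by
      calc r * (u⁻¹ * r * u) = (r * u * r)⁻¹ * u := by
            rw [mul_inv_rev, mul_inv_rev, C.r_inv]; group
        _ = u * u := by rw [C.rur, inv_inv]] at h
  have h4' : Commute x ((u * u) * (u * u)) := h3.mul_right h3
  rwa [show (u * u) * (u * u) = u by rw [← mul_assoc, C.uuu, one_mul]] at h4'

end Ker

end Cfsg.Agent.Lib.ThreeLocal66
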