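import Cfsg.Agent.Lib.ThreeLocal66.TwoInvol
import Cfsg.Agent.Lib.ThreeLocal66.OddFour

/-!
# The odd part of the kernel when `|C_P(r)| = 2`
-/

namespace Cfsg.Agent.Lib.ThreeLocal66

open Subgroup

variable {G : Type*} [Group G] [Finite G] {t r u q g : G} {P N : Subgroup G}

/-- Local hypotheses on the elements of order three. -/
structure OddHyp (t r u : G) : Prop where
  cu3 : ∀ x, x * u = u * x → Odd (orderOf x) → ¬ 3 ∣ orderOf x → x = 1
  yfix : ∀ y s, y ^ 3 = 1 → y ≠ 1 → ¬ UType u y → (∀ a, a * a = 1 → a * y = y * a → a = 1) →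
    s * s = 1 → s ≠ 1 → s * y * s = y⁻¹ →
    ∃ h, h * s * h⁻¹ = t ∧ (h * y * h⁻¹) * u = u * (h * y * h⁻¹)
  yu : ∀ y, y ^ 3 = 1 → y ≠ 1 → ¬ UType u y → y * u = u * y → t * y * t = y⁻¹ →
    ∀ x, x * y = y * x → x * (r * y * r) = (r * y * r) * x → x * u = u * x

omit [Finite G] in
theorem UType.conj_iff {u y k : G} : UType u (k * y * k⁻¹) ↔ UType u y := by
  constructor
  · rintro ⟨a, h⟩
    refine ⟨a * k, ?_⟩
    rwa [show a * k * y * (a * k)⁻¹ = a * (k * y * k⁻¹) * a⁻¹ by group]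
  · rintro ⟨a, h⟩
    refine ⟨a * k⁻¹, ?_⟩
    rwa [show a * k⁻¹ * (k * y * k⁻¹) * (a * k⁻¹)⁻¹ = a * y * a⁻¹ by group]

omit [Finite G] in
theorem orderOf_conj' (k x : G) : orderOf (k * x * k⁻¹) = orderOf x :=
  orderOf_injective (MulAut.conj k).toMonoidHom (MulAut.conj k).injective x

namespace Core

variable (C : Core t r u q g P)
include C

/-- An element of order three centralising the odd part of `C(t, r)`, inverted by `q * r`. -/
theorem exists_y : ∃ y, y ^ 3 = 1 ∧ y ≠ 1 ∧ (q * r) * (q * r) = 1 ∧ (q * r) * y * (q * r) = y⁻¹ ∧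
    ∀ x, x * t = t * x → x * r = r * x → Odd (orderOf x) → x * y = y * x := by
  set q' := g * q * g⁻¹ with hq'
  have hq2 : q' * q' = r := by
    rw [hq', show g * q * g⁻¹ * (g * q * g⁻¹) = g * (q * q) * g⁻¹ by group, C.qq, C.gtr]
  clear_value q'
  have hq'r : q' * r = r * q' := by rw [← hq2, mul_assoc]
  have htq' : t * q' * t = q'⁻¹ := by
    rw [hq', ← C.grt, show g * r * g⁻¹ * (g * q * g⁻¹) * (g * r * g⁻¹) = g * (r * q * r) * g⁻¹ by
      group, C.rqr]
    group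
  set s1 := q * r with hs1
  set s2 := q' * t with hs2
  have h11 : s1 * s1 = 1 := by
    rw [hs1, show q * r * (q * r) = q * (r * q * r) by group, C.rqr, mul_inv_cancel]
  have h22 : s2 * s2 = 1 := by
    rw [hs2, show q' * t * (q' * t) = q' * (t * q' * t) by group, htq', mul_inv_cancel]
  have i1 : s1⁻¹ = s1 := inv_eq_of_mul_eq_one_right h11
  have i2 : s2⁻¹ = s2 := inv_eq_of_mul_eq_one_right h22
  have a1 : s1 * t * s1⁻¹ = t := by
    rw [hs1, show q * r * t * (q * r)⁻¹ = q * (r * t * r⁻¹) * q⁻¹ by group, C.rt,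
      mul_inv_cancel_right, C.qt, mul_inv_cancel_right]
  have a2 : s2 * r * s2⁻¹ = r := by
    rw [hs2, show q' * t * r * (q' * t)⁻¹ = q' * (t * r * t⁻¹) * q'⁻¹ by group, ← C.rt,
      mul_inv_cancel_right, hq'r, mul_inv_cancel_right]
  have b1 : s1 * r * s1⁻¹ = t * r := by
    have hrq : r * q⁻¹ * r = q := by
      calc r * q⁻¹ * r = (r * q * r)⁻¹ := by rw [mul_inv_rev, mul_inv_rev, C.r_inv, ← mul_assoc]
        _ = q := by rw [C.rqr, inv_inv]
    calc s1 * r * s1⁻¹ = q * (r * q⁻¹ * r) * r⁻¹ := by rw [hs1]; group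
      _ = t * r := by rw [hrq, C.qq, C.r_inv]
  have b2 : s2 * t * s2⁻¹ = r * t := by
    have hti : t * q'⁻¹ * t = q' := by
      calc t * q'⁻¹ * t = (t * q' * t)⁻¹ := by rw [mul_inv_rev, mul_inv_rev, C.t_inv, ← mul_assoc]
        _ = q' := by rw [htq', inv_inv]
    calc s2 * t * s2⁻¹ = q' * (t * q'⁻¹ * t) * t := by
          rw [hs2, show q' * (t * q'⁻¹ * t) * t = q' * t * q'⁻¹ * (t * t) by group, C.tt]
          group
      _ = r * t := by rw [hti, hq2]
  clear_value s1 s2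
  set d := s1 * s2 with hd
  have c1 : d * t * d⁻¹ = r := by
    calc d * t * d⁻¹ = (s1 * (s2 * t * s2⁻¹) * s1⁻¹) := by rw [hd]; group
      _ = (s1 * r * s1⁻¹) * (s1 * t * s1⁻¹) := by rw [b2]; group
      _ = r := by rw [b1, a1, ← C.rt, mul_assoc, C.tt, mul_one]
  have c2 : d * r * d⁻¹ = t * r := by
    calc d * r * d⁻¹ = s1 * (s2 * r * s2⁻¹) * s1⁻¹ := by rw [hd]; group
      _ = t * r := by rw [a2, b1]
  clear_value d
  have c3 : d ^ 3 * t * (d ^ 3)⁻¹ = t := by
    calc d ^ 3 * t * (d ^ 3)⁻¹ = d * (d * (d * t * d⁻¹) * d⁻¹) * d⁻¹ := by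
          simp only [pow_succ, pow_zero, one_mul]; group
      _ = d * (t * r) * d⁻¹ := by rw [c1, c2]
      _ = (d * t * d⁻¹) * (d * r * d⁻¹) := by group
      _ = t := by rw [c1, c2, ← C.rt, ← mul_assoc, C.rr, one_mul]
  have hdt : ¬ Commute d t := fun h => C.r_not (by
    rw [← c1, h.eq, mul_inv_cancel_right]; exact C.t_mem)
  have h3 : 3 ∣ orderOf d := by
    by_contra h
    refine hdt ?_
    have hc : Nat.Coprime 3 (orderOf d) := (Nat.prime_three.coprime_iff_not_dvd).2 h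
    have hcm : Commute (d ^ 3) t := mul_inv_eq_iff_eq_mul.1 c3
    have e : d ^ ((Nat.gcd 3 (orderOf d) : ℕ) : ℤ) = (d ^ 3) ^ (Nat.gcdA 3 (orderOf d)) := by
      rw [Nat.gcd_eq_gcd_ab, zpow_add, zpow_mul, zpow_mul, zpow_natCast, zpow_natCast,
        pow_orderOf_eq_one, one_zpow, mul_one]
    rw [hc.gcd_eq_one, Nat.cast_one, zpow_one] at e
    rw [e]; exact hcm.zpow_left _
  obtain ⟨m, hm⟩ := h3
  have hm0 : m ≠ 0 := by rintro rfl; exact (orderOf_pos d).ne' (by simpa using hm)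
  refine ⟨d ^ m, by rw [← pow_mul, mul_comm, ← hm, pow_orderOf_eq_one], ?_, h11, ?_, ?_⟩
  · intro h
    have := Nat.le_of_dvd (Nat.pos_of_ne_zero hm0) (orderOf_dvd_of_pow_eq_one h)
    omega
  · have e : s1 * d * s1⁻¹ = d⁻¹ := by
      rw [hd, mul_inv_rev, i1, i2, ← mul_assoc s1 s1, h11, one_mul]
    have := conj_pow (i := m) (a := s1) (b := d)
    rw [e, inv_pow, i1] at this
    exact this.symm
  · intro x hxt hxr ho
    have hq : ∀ y, y * t = t * y → y * r = r * y → Odd (orderOf y) → Commute y q := fun y a b c =>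
      C.oddC y a b c q C.q_mem
    have hxq' : Commute x q' := by
      have hxD : g⁻¹ * x * g ∈ Dg t r := by
        rw [← C.g_normD, show g * (g⁻¹ * x * g) * g⁻¹ = x by group]
        exact mem_Dg.2 ⟨hxt, hxr⟩
      have h := hq _ (mem_Dg.1 hxD).1 (mem_Dg.1 hxD).2 (by
        have := orderOf_conj' g⁻¹ x
        rw [inv_inv] at this
        rwa [this])
      have h2 := h.map (MulAut.conj g).toMonoidHom
      simpa [hq', mul_assoc] using h2
    rw [hd, hs1, hs2]
    exact (((hq x hxt hxr ho).mul_right hxr).mul_right (hxq'.mul_right hxt)).pow_right m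

end Core

namespace Ker

variable (K' : Ker t r u P N) (C : Core t r u q g P)
include K' C

omit [Finite G] in
/-- Central odd elements, closed under the operations used below. -/
theorem central_conj {k x : G} (hk : k * t = t * k) (hx : x ∈ N) (ho : Odd (orderOf x))
    (hc : ∀ n ∈ N, n * x = x * n) :
    k * x * k⁻¹ ∈ N ∧ Odd (orderOf (k * x * k⁻¹)) ∧ ∀ n ∈ N, n * (k * x * k⁻¹) = k * x * k⁻¹ * n := by
  refine ⟨K'.norm k hk x hx, by rwa [orderOf_conj'], fun n hn => ?_⟩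
  have hki : k⁻¹ * t = t * k⁻¹ := (show Commute k t from hk).inv_left.eq
  have h := hc _ (K'.norm k⁻¹ hki n hn)
  rw [inv_inv] at h
  calc n * (k * x * k⁻¹) = k * ((k⁻¹ * n * k) * x) * k⁻¹ := by group
    _ = _ := by rw [h]; group

omit [Finite G] C in
theorem central_mul {x y : G} (hx : x ∈ N) (hxo : Odd (orderOf x)) (hxc : ∀ n ∈ N, n * x = x * n)
    (hy : y ∈ N) (hyo : Odd (orderOf y)) (hyc : ∀ n ∈ N, n * y = y * n) :
    x * y ∈ N ∧ Odd (orderOf (x * y)) ∧ ∀ n ∈ N, n * (x * y) = x * y * n :=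
  ⟨N.mul_mem hx hy, (hxo.mul hyo).of_dvd_nat
    ((show Commute x y from hyc x hx).orderOf_mul_dvd_mul_orderOf),
    fun n hn => ((show Commute n x from hxc n hn).mul_right (hyc n hn)).eq⟩

/-- A `u`-invariant subgroup containing the central odd elements fixed by `r` contains all. -/
theorem central_le {H : Subgroup G} (hu : ∀ h ∈ H, u * h * u⁻¹ ∈ H) (hu' : ∀ h ∈ H, u⁻¹ * h * u ∈ H)
    (hfix : ∀ x ∈ N, Odd (orderOf x) → (∀ n ∈ N, n * x = x * n) → x * r = r * x → x ∈ H)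
    {x : G} (hx : x ∈ N) (ho : Odd (orderOf x)) (hc : ∀ n ∈ N, n * x = x * n) : x ∈ H := by
  let A : G → Prop := fun z => z ∈ N ∧ Odd (orderOf z) ∧ ∀ n ∈ N, n * z = z * n
  have hAm : ∀ {a b}, A a → A b → A (a * b) := fun ha hb =>
    K'.central_mul ha.1 ha.2.1 ha.2.2 hb.1 hb.2.1 hb.2.2
  have hAi : ∀ {a}, A a → A a⁻¹ := fun ha =>
    ⟨N.inv_mem ha.1, by rw [orderOf_inv]; exact ha.2.1,
      fun n hn => (show Commute n _ from ha.2.2 n hn).inv_right.eq⟩
  have hAc : ∀ {a b}, A a → A b → Commute a b := fun ha hb => hb.2.2 _ ha.1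
  have hAk : ∀ {k a}, k * t = t * k → A a → A (k * a * k⁻¹) := fun hk ha =>
    K'.central_conj C hk ha.1 ha.2.1 ha.2.2
  have huit : u⁻¹ * t = t * u⁻¹ := (show Commute u t from C.ut).inv_left.eq
  have hxA : A x := ⟨hx, ho, hc⟩
  have hrA : ∀ {a}, A a → A (r * a * r) := fun ha => by
    have := hAk C.rt ha; rwa [C.r_inv] at this
  have hσA : ∀ {a}, A a → A (u⁻¹ * a * u) := fun ha => by
    have := hAk huit ha; rwa [inv_inv] at this
  set c := x * (r * x * r) with hcdef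
  set i := x * (r * x * r)⁻¹ with hidef
  have hcA : A c := hAm hxA (hrA hxA)
  have hiA : A i := hAm hxA (hAi (hrA hxA))
  have hfix' : ∀ {z}, A z → r * z * r = z → z ∈ H := fun hz h => hfix _ hz.1 hz.2.1 hz.2.2 (by
    nth_rewrite 1 [← h]; rw [mul_assoc, C.rr, mul_one])
  clear_value c i
  have hcH : c ∈ H := hfix' hcA (by
    rw [hcdef, C.rho_mul, C.rho_rho]; exact (hAc (hrA hxA) hxA).eq)
  have hri : r * i * r = i⁻¹ := by
    rw [hidef, C.rho_mul, C.rho_inv, C.rho_rho, mul_inv_rev, inv_inv]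
  set a := u * i * u⁻¹ with ha
  set b := u⁻¹ * i * u with hb
  have haA : A a := hAk C.ut hiA
  have hbA : A b := hσA hiA
  clear_value a b
  have hua : u * a * u⁻¹ = b := by
    rw [ha, hb]
    calc u * (u * i * u⁻¹) * u⁻¹ = (u * u) * i * (u * u)⁻¹ := by group
      _ = u⁻¹ * i * u := by rw [← C.uu_eq, inv_inv]
  have hub : u * b * u⁻¹ = i := by rw [hb]; group
  -- the orbit product is trivial
  have hnorm : i * a * b = 1 := by
    refine K'.odd_fixed C (hAm (hAm hiA haA) hbA).1 (hAm (hAm hiA haA) hbA).2.1 ?_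
    have e : u * (i * a * b) * u⁻¹ = i * a * b := by
      calc u * (i * a * b) * u⁻¹ = (u * i * u⁻¹) * (u * a * u⁻¹) * (u * b * u⁻¹) := by group
        _ = a * b * i := by rw [← ha, hua, hub]
        _ = i * a * b := by
          rw [mul_assoc a b i, (hAc hbA hiA).eq, ← mul_assoc, (hAc haA hiA).eq]
    exact (mul_inv_eq_iff_eq_mul.1 e).symm
  set f := a * b⁻¹ with hf
  have hfA : A f := hAm haA (hAi hbA)
  have hra : r * a * r = b⁻¹ := by rw [ha, C.u_rho, hri, hb]; group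
  have hrb : r * b * r = a⁻¹ := by
    have h := congrArg (fun z => (r * z * r)⁻¹) hra
    simp only [C.rho_rho, C.rho_inv, inv_inv] at h
    exact h.symm
  have hfH : f ∈ H := hfix' hfA (by
    rw [hf, C.rho_mul, C.rho_inv, hra, hrb, inv_inv]; exact (hAc (hAi hbA) haA).eq)
  have hi3 : i ^ 3 = ((u * f * u⁻¹) * (u⁻¹ * f * u)⁻¹)⁻¹ := by
    have e1 : u * f * u⁻¹ = b * i⁻¹ := by
      rw [hf, show u * (a * b⁻¹) * u⁻¹ = (u * a * u⁻¹) * (u * b * u⁻¹)⁻¹ by group, hua, hub]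
    have e2 : u⁻¹ * f * u = i * a⁻¹ := by
      have f1 : u⁻¹ * a * u = i := by rw [ha]; group
      have f2 : u⁻¹ * b * u = a := by rw [← hua]; group
      rw [hf, show u⁻¹ * (a * b⁻¹) * u = (u⁻¹ * a * u) * (u⁻¹ * b * u)⁻¹ by group, f1, f2]
    rw [e1, e2]
    refine eq_inv_of_mul_eq_one_left ?_
    have hab : b = (i * a)⁻¹ := eq_inv_of_mul_eq_one_right hnorm
    rw [hab, mul_inv_rev, mul_inv_rev, inv_inv]
    have h1 : Commute i a := hAc hiA haA
    calc i ^ 3 * (a⁻¹ * i⁻¹ * i⁻¹ * (a * i⁻¹)) = i ^ 3 * (a⁻¹ * (i⁻¹ * i⁻¹ * a) * i⁻¹) := by group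
      _ = i ^ 3 * (a⁻¹ * (a * (i⁻¹ * i⁻¹)) * i⁻¹) := by
        rw [(h1.inv_left.mul_left h1.inv_left).eq]
      _ = 1 := by simp only [pow_succ, pow_zero, one_mul]; group
  have hiH : i ∈ H := by
    have h3 : i ^ 3 ∈ H := hi3 ▸ H.inv_mem (H.mul_mem (hu f hfH) (H.inv_mem (hu' f hfH)))
    have hcop : Nat.Coprime 3 (orderOf i) := (Nat.prime_three.coprime_iff_not_dvd).2
      fun h => K'.three (h.trans (orderOf_dvd_natCard N hiA.1))
    have e : i ^ ((Nat.gcd 3 (orderOf i) : ℕ) : ℤ) = (i ^ 3) ^ (Nat.gcdA 3 (orderOf i)) := by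
      rw [Nat.gcd_eq_gcd_ab, zpow_add, zpow_mul, zpow_mul, zpow_natCast, zpow_natCast,
        pow_orderOf_eq_one, one_zpow, mul_one]
    rw [hcop.gcd_eq_one, Nat.cast_one, zpow_one] at e
    exact e ▸ H.zpow_mem h3 _
  have hx2 : x ^ 2 ∈ H := by
    have e : x ^ 2 = c * i := by
      rw [hcdef, hidef, pow_two, mul_assoc, ← mul_assoc (r * x * r), (hAc (hrA hxA) hxA).eq,
        mul_assoc x _ _, mul_inv_cancel, mul_one]
    exact e ▸ H.mul_mem hcH hiH
  have hcop : Nat.Coprime 2 (orderOf x) := Nat.coprime_two_left.2 ho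
  have e : x ^ ((Nat.gcd 2 (orderOf x) : ℕ) : ℤ) = (x ^ 2) ^ (Nat.gcdA 2 (orderOf x)) := by
    rw [Nat.gcd_eq_gcd_ab, zpow_add, zpow_mul, zpow_mul, zpow_natCast, zpow_natCast,
      pow_orderOf_eq_one, one_zpow, mul_one]
  rw [hcop.gcd_eq_one, Nat.cast_one, zpow_one] at e
  exact e ▸ H.zpow_mem hx2 _

/-- The central odd elements of the kernel are trivial. -/
theorem central_trivial (O : OddHyp t r u) (hn : Nat.card (Core.K r P) = 2) {x : G} (hx : x ∈ N)
    (ho : Odd (orderOf x)) (hc : ∀ n ∈ N, n * x = x * n) : x = 1 := by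
  obtain ⟨y, hy3, hy1, hss, hsy, hycomm⟩ := C.exists_y
  by_cases hyU : UType u y
  · refine mem_bot.1 (K'.central_le C (H := ⊥) (fun h hh => by simp [mem_bot.1 hh])
      (fun h hh => by simp [mem_bot.1 hh]) (fun z hz hzo hzc hzr => ?_) hx ho hc)
    rw [mem_bot]
    obtain ⟨k, hk⟩ := hyU
    have hcm : (k * z * k⁻¹) * (k * y * k⁻¹) = (k * y * k⁻¹) * (k * z * k⁻¹) := by
      calc (k * z * k⁻¹) * (k * y * k⁻¹) = k * (z * y) * k⁻¹ := by group
        _ = _ := by rw [hycomm z (K'.le z hz) hzr hzo]; group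
    have hcu : (k * z * k⁻¹) * u = u * (k * z * k⁻¹) := by
      rcases hk with h | h <;> rw [h] at hcm
      · exact hcm
      · exact (inv_inv u ▸ (show Commute _ u⁻¹ from hcm).inv_right :)
    exact conj_eq_one_iff.1 (O.cu3 _ hcu (by rwa [orderOf_conj'])
      (by rw [orderOf_conj']; exact fun h => K'.three (h.trans (orderOf_dvd_natCard N hz))))
  -- `y` is centralised by no involution
  have hno : ∀ a, a * a = 1 → a * y = y * a → a = 1 := by
    intro a ha hay
    by_contra ha1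
    obtain ⟨k, hk⟩ := C.all_invol hn ha ha1
    refine hyU ((UType.conj_iff (k := k⁻¹)).1 (K'.uType C ?_ ?_ ?_))
    · rw [inv_inv]
      calc k⁻¹ * y * k * t = k⁻¹ * (y * (k * t * k⁻¹)) * k := by group
        _ = _ := by rw [hk, ← hay, ← hk]; group
    · rw [conj_pow, hy3, mul_one, mul_inv_cancel]
    · exact fun e => hy1 (conj_eq_one_iff.1 e)
  set s := q * r with hs
  have hs1 : s ≠ 1 := fun e => C.q_notK ⟨C.q_mem, by
    rw [mul_eq_one_iff_eq_inv.1 e, C.r_inv]⟩
  obtain ⟨h, hh, hyu⟩ := O.yfix y s hy3 hy1 hyU hno hss hs1 hsy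
  set y' := h * y * h⁻¹ with hy'
  set r' := h * t * h⁻¹ with hr'
  have hst : s * t = t * s := ((show Commute q t from C.qt).mul_left C.rt).eq
  have hr't : r' * t = t * r' := by
    rw [← hh, hr']
    calc h * t * h⁻¹ * (h * s * h⁻¹) = h * (t * s) * h⁻¹ := by group
      _ = _ := by rw [← hst]; group
  have hr'2 : r' * r' = 1 := by
    rw [hr', show h * t * h⁻¹ * (h * t * h⁻¹) = h * (t * t) * h⁻¹ by group, C.tt, mul_one,
      mul_inv_cancel]
  have hr'1 : r' ≠ 1 := fun e => C.t_ne (conj_eq_one_iff.1 e)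
  have hr'ne : r' ≠ t := fun e => by
    have e' : t = s := mul_left_cancel (mul_right_cancel (e.trans hh.symm))
    exact C.r_not ((Subgroup.mul_mem_cancel_left P C.q_mem).1 (hs ▸ e' ▸ C.t_mem))
  have hty' : t * y' * t = y'⁻¹ := by
    rw [← hh, hy', show h * s * h⁻¹ * (h * y * h⁻¹) * (h * s * h⁻¹) = h * (s * y * s) * h⁻¹ by group,
      hsy]
    group
  have hy'3 : y' ^ 3 = 1 := by rw [hy', conj_pow, hy3, mul_one, mul_inv_cancel]
  have hy'1 : y' ≠ 1 := fun e => hy1 (conj_eq_one_iff.1 e)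
  have hy'U : ¬ UType u y' := fun e => hyU (UType.conj_iff.1 e)
  -- the odd elements of the kernel fixed by `r'` commute with `y'`
  let Rs : G → Set G := fun z => {a | a ∈ N ∧ Odd (orderOf a) ∧ a * z = z * a}
  have himg : (fun a => h * a * h⁻¹) '' Rs r ⊆ Rs r' := by
    rintro _ ⟨a, ⟨ha, hao, har⟩, rfl⟩
    have has : Commute a s :=
      (show Commute a q from K'.odd a ha hao q C.q_mem).mul_right har
    have hat : h * a * h⁻¹ * t = t * (h * a * h⁻¹) := by
      rw [← hh]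
      calc h * a * h⁻¹ * (h * s * h⁻¹) = h * (a * s) * h⁻¹ := by group
        _ = _ := by rw [has.eq]; group
    refine ⟨K'.sodd_mem C ⟨hat, by rwa [orderOf_conj'], ?_⟩, by rwa [orderOf_conj'], ?_⟩
    · rw [orderOf_conj']; exact fun e => K'.three (e.trans (orderOf_dvd_natCard N ha))
    · show h * a * h⁻¹ * r' = r' * (h * a * h⁻¹)
      rw [hr']
      calc h * a * h⁻¹ * (h * t * h⁻¹) = h * (a * t) * h⁻¹ := by group
        _ = _ := by rw [K'.le a ha]; group
  obtain ⟨j, hjt, hj⟩ := C.invol_two hn hr't hr'2 hr'1 hr'ne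
  have hsurj : Rs r' ⊆ (fun a => h * a * h⁻¹) '' Rs r := by
    refine (Set.eq_of_subset_of_ncard_le himg ?_ (Set.toFinite _)).ge
    rw [Set.ncard_image_of_injective _ fun a b e => mul_left_cancel (mul_right_cancel e)]
    refine Set.ncard_le_ncard_of_injOn (fun a => j⁻¹ * a * j) ?_
      (fun a _ b _ e => mul_left_cancel (mul_right_cancel e)) (Set.toFinite _)
    rintro a ⟨ha, hao, har⟩
    have hji : j⁻¹ * t = t * j⁻¹ := (show Commute j t from hjt).inv_left.eq
    refine ⟨by simpa using K'.norm j⁻¹ hji a ha, by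
      have := orderOf_conj' j⁻¹ a
      rw [inv_inv] at this
      show Odd (orderOf (j⁻¹ * a * j))
      rwa [this], ?_⟩
    show j⁻¹ * a * j * r = r * (j⁻¹ * a * j)
    calc j⁻¹ * a * j * r = j⁻¹ * (a * (j * r * j⁻¹)) * j := by group
      _ = r * (j⁻¹ * a * j) := by rw [hj, har, ← hj]; group
  have hcomm : ∀ a ∈ Rs r', a * y' = y' * a := by
    intro a ha
    obtain ⟨b, ⟨hb, hbo, hbr⟩, rfl⟩ := hsurj ha
    show h * b * h⁻¹ * y' = y' * (h * b * h⁻¹)
    rw [hy']
    calc h * b * h⁻¹ * (h * y * h⁻¹) = h * (b * y) * h⁻¹ := by group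
      _ = _ := by rw [hycomm b (K'.le b hb) hbr hbo]; group
  -- `r'` acts on the central elements as a `⟨u⟩`-conjugate of `r`
  obtain ⟨w, hwt, hwy, hwn⟩ : ∃ w, w * t = t * w ∧ Commute y' w ∧ r' * (w * r * w⁻¹) ∈ N := by
    obtain ⟨e, he, hn'⟩ := K'.six r' hr't
    have hr'N : r' ∉ N := fun hN => by
      have := C.sq_of_two hn (K'.twoN r' hN (TwoEl.of_sq hr'2)) (fun e => e.elim hr'1 hr'ne)
      rw [hr'2] at this; exact C.t_ne this.symm
    have hbad : ∀ v, v * t = t * v → v * u = u * v → v * v * v = 1 → v ≠ 1 → r' * v⁻¹ ∉ N := by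
      intro v hvt hvu hv3 hv1 hmem
      set n := r' * v⁻¹
      have hv : v ∈ N := by
        have h2 : n * (v * n * v⁻¹) * (v * v) = 1 := by
          calc n * (v * n * v⁻¹) * (v * v) = (n * v) * (n * v) := by group
            _ = 1 := by rw [inv_mul_cancel_right, hr'2]
        have hvv : v * v ∈ N := by
          rw [eq_inv_of_mul_eq_one_right h2]
          exact N.inv_mem (N.mul_mem hmem (K'.norm v hvt n hmem))
        have : v * v * (v * v) ∈ N := N.mul_mem hvv hvv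
        rwa [← mul_assoc, hv3, one_mul] at this
      exact hr'N (by simpa [n] using N.mul_mem hmem hv)
    have hui : u⁻¹ * t = t * u⁻¹ := (show Commute u t from C.ut).inv_left.eq
    have hui3 : u⁻¹ * u⁻¹ * u⁻¹ = 1 := by
      rw [← mul_inv_rev, ← mul_inv_rev, ← mul_assoc, C.uuu, inv_one]
    have hru : r * u = u⁻¹ * r := by
      calc r * u = (r * u * r) * r := by rw [mul_assoc (r * u), C.rr, mul_one]
        _ = u⁻¹ * r := by rw [C.rur]
    have e1 : u⁻¹ * r * u⁻¹⁻¹ = u * r := by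
      rw [inv_inv, mul_assoc, hru, ← mul_assoc]
      congr 1
      calc u⁻¹ * u⁻¹ = (u * u)⁻¹ := by group
        _ = u := by rw [← C.uu_eq, inv_inv]
    have e2 : u * r * u⁻¹ = u⁻¹ * r := by
      have hru' : r * u⁻¹ = u * r := by
        calc r * u⁻¹ = r * (r * u * r) := by rw [C.rur]
          _ = (r * r) * u * r := by group
          _ = u * r := by rw [C.rr, one_mul]
      rw [mul_assoc, hru', ← mul_assoc, ← C.uu_eq]
    have hein : ∀ w, w * r * w⁻¹ * (w * r * w⁻¹) = 1 := fun w => by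
      rw [show w * r * w⁻¹ * (w * r * w⁻¹) = w * (r * r) * w⁻¹ by group, C.rr, mul_one,
        mul_inv_cancel]
    have fin : ∀ w, e = w * r * w⁻¹ → r' * (w * r * w⁻¹) ∈ N := fun w hw => by
      rw [hw, inv_eq_of_mul_eq_one_right (hein w)] at hn'
      exact hn'
    rcases he with rfl | rfl | rfl | rfl | rfl | rfl
    · exact absurd (by simpa using hn') hr'N
    · exact absurd hn' (hbad _ C.ut rfl C.uuu C.u_ne)
    · exact absurd hn' (hbad u⁻¹ hui (by group) hui3 (by simpa using C.u_ne))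
    · exact ⟨1, by simp, Commute.one_right _, fin 1 (by simp)⟩
    · exact ⟨u⁻¹, hui, (show Commute y' u from hyu).inv_right, fin _ e1.symm⟩
    · exact ⟨u, C.ut, hyu, fin _ e2.symm⟩
  set e := w * r * w⁻¹ with he
  have hee : e * e = 1 := by
    rw [he, show w * r * w⁻¹ * (w * r * w⁻¹) = w * (r * r) * w⁻¹ by group, C.rr, mul_one,
      mul_inv_cancel]
  have hfixH : ∀ z ∈ N, Odd (orderOf z) → (∀ n ∈ N, n * z = z * n) → z * r = r * z →
      z * y' = y' * z := by
    intro z hz hzo hzc hzr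
    obtain ⟨h1, h2, h3⟩ := K'.central_conj C hwt hz hzo hzc
    have hzr' : w * z * w⁻¹ * r' = r' * (w * z * w⁻¹) := by
      have hze : Commute (w * z * w⁻¹) e := by
        show w * z * w⁻¹ * e = e * (w * z * w⁻¹)
        rw [he]
        calc w * z * w⁻¹ * (w * r * w⁻¹) = w * (z * r) * w⁻¹ := by group
          _ = _ := by rw [hzr]; group
      have := (show Commute (w * z * w⁻¹) (r' * e) from (h3 _ hwn).symm).mul_right hze
      rwa [mul_assoc r' e e, hee, mul_one] at this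
    have hzy := hcomm _ (⟨h1, h2, hzr'⟩ : w * z * w⁻¹ ∈ Rs r')
    have hyw : Commute y' w := hwy
    calc z * y' = w⁻¹ * ((w * z * w⁻¹) * (w * y' * w⁻¹)) * w := by group
      _ = w⁻¹ * ((w * z * w⁻¹) * y') * w := by rw [← hyw.eq, mul_inv_cancel_right]
      _ = w⁻¹ * (y' * (w * z * w⁻¹)) * w := by rw [hzy]
      _ = (w⁻¹ * y' * w) * z := by group
      _ = y' * z := by rw [mul_assoc w⁻¹, hyw.eq, inv_mul_cancel_left]
  have hyu' : ∀ z, z * y' = y' * z → (u * z * u⁻¹) * y' = y' * (u * z * u⁻¹) := fun z hz =>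
    calc (u * z * u⁻¹) * y' = u * (z * (u⁻¹ * y' * u)) * u⁻¹ := by group
      _ = u * (z * y') * u⁻¹ := by rw [mul_assoc u⁻¹, hyu, inv_mul_cancel_left]
      _ = u * (y' * z) * u⁻¹ := by rw [hz]
      _ = y' * (u * z * u⁻¹) := by rw [← mul_assoc, ← hyu]; group
  have hyu'' : ∀ z, z * y' = y' * z → (u⁻¹ * z * u) * y' = y' * (u⁻¹ * z * u) := fun z hz =>
    calc (u⁻¹ * z * u) * y' = u⁻¹ * (z * (u * y' * u⁻¹)) * u := by group
      _ = u⁻¹ * (z * y') * u := by rw [← hyu, mul_inv_cancel_right]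
      _ = (u⁻¹ * y' * u) * (u⁻¹ * z * u) := by rw [hz]; group
      _ = y' * (u⁻¹ * z * u) := by rw [mul_assoc u⁻¹, hyu, inv_mul_cancel_left]
  have hall : ∀ z ∈ N, Odd (orderOf z) → (∀ n ∈ N, n * z = z * n) → z * y' = y' * z := by
    intro z hz hzo hzc
    have := K'.central_le C (H := Subgroup.centralizer {y'})
      (fun a ha => mem_centralizer_singleton_iff.2 (hyu' a (mem_centralizer_singleton_iff.1 ha)))
      (fun a ha => mem_centralizer_singleton_iff.2 (hyu'' a (mem_centralizer_singleton_iff.1 ha)))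
      (fun a h1 h2 h3 h4 => mem_centralizer_singleton_iff.2 (hfixH a h1 h2 h3 h4)) hz hzo hzc
    exact mem_centralizer_singleton_iff.1 this
  have hrx : (r * x * r) * y' = y' * (r * x * r) := by
    obtain ⟨h1, h2, h3⟩ := K'.central_conj C C.rt hx ho hc
    rw [C.r_inv] at h1 h2 h3
    exact hall _ h1 h2 h3
  refine K'.odd_fixed C hx ho (O.yu y' hy'3 hy'1 hy'U hyu hty' x (hall x hx ho hc) ?_)
  calc x * (r * y' * r) = r * ((r * x * r) * y') * r := by
        rw [show r * ((r * x * r) * y') * r = (r * r) * x * (r * y' * r) by group, C.rr, one_mul]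
    _ = r * (y' * (r * x * r)) * r := by rw [hrx]
    _ = (r * y' * r) * x := by
        rw [show r * (y' * (r * x * r)) * r = (r * y' * r) * x * (r * r) by group, C.rr, mul_one]

/-- With two fixed points of `r` on `P` the kernel is the two-group `P`. -/
theorem odd_trivial_of_two (O : OddHyp t r u) (hn : Nat.card (Core.K r P) = 2) {x : G} (hx : x ∈ N)
    (ho : Odd (orderOf x)) : x = 1 := by
  by_contra hx1
  obtain ⟨p, hp, hpd⟩ := Nat.exists_prime_and_dvd (fun h => hx1 (orderOf_eq_one_iff.1 h))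
  have : Fact p.Prime := ⟨hp⟩
  have : Group.IsNilpotent N := K'.nil
  obtain ⟨Q⟩ := (inferInstance : Nonempty (Sylow p N))
  have hQ : (Q : Subgroup N) ≠ ⊥ :=
    Sylow.ne_bot_of_dvd_card Q (hpd.trans (orderOf_dvd_natCard N hx))
  obtain ⟨z, hz, hz1⟩ := (Subgroup.bot_or_exists_ne_one _).resolve_left
    (FpfSThreeFree86.inf_center_ne_bot hQ)
  refine hz1 (Subtype.ext (K'.central_trivial C O hn z.2 ?_ fun n hn' => ?_))
  · obtain ⟨k, hk⟩ := IsPGroup.iff_orderOf.1 Q.2 ⟨z, hz.1⟩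
    rw [Subgroup.orderOf_mk] at hk
    rw [Subgroup.orderOf_coe, hk]
    exact (ho.of_dvd_nat hpd).pow
  · exact congrArg Subtype.val (mem_center_iff.1 hz.2 ⟨n, hn'⟩)

end Ker

end Cfsg.Agent.Lib.ThreeLocal66
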