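import Cfsg.Agent.Lib.ThreeLocal66.Kernel
import Cfsg.Agent.Lib.CNGroup.Basic

/-!
# From the three-local hypotheses to the core data
-/

namespace Cfsg.Agent.Lib.ThreeLocal66

open Subgroup
open Cfsg.Agent.Lib.Spectrum

variable {G : Type*} [Group G] [Finite G] {t r u q g : G}

theorem eq_of_cube {x y : G} {P : Subgroup G} (hP : IsPGroup 2 P) (hx : x ∈ P) (hy : y ∈ P)
    (h : x ^ 3 = y ^ 3) : x = y := by
  have : Fact (Nat.Prime 2) := ⟨Nat.prime_two⟩
  obtain ⟨k, hk⟩ := hP.exists_card_eq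
  have hc : (Nat.card P).Coprime 3 := by
    rw [hk]; exact (by decide : Nat.Coprime 2 3).pow_left k
  exact congrArg Subtype.val ((powCoprime hc).injective
    (show (⟨x, hx⟩ : P) ^ 3 = (⟨y, hy⟩ : P) ^ 3 from Subtype.ext (by simpa using h)))

theorem TwoEl.pow_mem_eq {x : G} (h : TwoEl x) {H : Subgroup G} {m : ℕ} (hm : Odd m)
    (hmem : x ^ m ∈ H) : x ∈ H := by
  obtain ⟨k, hk⟩ := h
  have hc : Nat.Coprime m (2 ^ k) := Nat.Coprime.pow_right k (Nat.coprime_two_right.2 hm)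
  have h2 : x ^ (2 ^ k) ∈ H := by rw [hk]; exact H.one_mem
  have hg : x ^ ((Nat.gcd m (2 ^ k) : ℕ) : ℤ) ∈ H := by
    rw [Nat.gcd_eq_gcd_ab, zpow_add, zpow_mul, zpow_mul, zpow_natCast, zpow_natCast]
    exact mul_mem (H.zpow_mem hmem _) (H.zpow_mem h2 _)
  rwa [hc.gcd_eq_one, Nat.cast_one, zpow_one] at hg

namespace Hyp

variable (H : Hyp t r u q g)
include H

/-- The facts on a two-group of `C(t)` normalised by `u`. -/
theorem two_facts {P : Subgroup G} (hP : IsPGroup 2 P) (tP : ∀ p ∈ P, p * t = t * p)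
    (uP : ∀ p ∈ P, u * p * u⁻¹ ∈ P) :
    (∀ p ∈ P, Tt t (p * (u * p * u⁻¹) * (u⁻¹ * p * u))) ∧
    (∀ a ∈ P, ∀ b ∈ P, Tt t (a * b * a⁻¹ * b⁻¹) →
      Tt t (a * (u * b * u⁻¹) * a⁻¹ * (u * b * u⁻¹)⁻¹)) ∧
    (∀ a ∈ P, ∀ b ∈ P, ∀ c ∈ P,
      Tt t ((a * b * a⁻¹ * b⁻¹) * c * (a * b * a⁻¹ * b⁻¹)⁻¹ * c⁻¹)) ∧
    (∀ i ∈ P, Tt t (r * i * r * i) →
      Tt t (r * ((u * i * u⁻¹) * (u⁻¹ * i * u)⁻¹) * r * ((u * i * u⁻¹) * (u⁻¹ * i * u)⁻¹)⁻¹) ∧
      Tt t ((u * ((u * i * u⁻¹) * (u⁻¹ * i * u)⁻¹) * u⁻¹) *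
        (u⁻¹ * ((u * i * u⁻¹) * (u⁻¹ * i * u)⁻¹) * u)⁻¹ * i ^ 3)) := by
  set X : Subgroup G := Subgroup.centralizer {t} with hX
  have hmX : ∀ {x : G}, x * t = t * x → x ∈ X := fun h =>
    mem_centralizer_singleton_iff.2 h
  have : (zpowers (Hyp.tC t)).Normal := H.normal_T
  let π : X →* X ⧸ zpowers (Hyp.tC t) := QuotientGroup.mk' _
  have hπ : ∀ x : X, π x = 1 ↔ Tt t (x : G) := fun x =>
    (QuotientGroup.eq_one_iff x).trans H.mem_T
  let u' : X := ⟨u, hmX H.ut⟩
  let r' : X := ⟨r, hmX H.rt⟩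
  set U := π u' with hU
  have hsc : SelfThree.SC U := H.sc (hmX H.ut)
  let P' : Subgroup (X ⧸ zpowers (Hyp.tC t)) := (P.subgroupOf X).map π
  have hmem : ∀ {p : G} (hp : p ∈ P), π ⟨p, hmX (tP p hp)⟩ ∈ P' := fun hp =>
    ⟨_, mem_subgroupOf.2 hp, rfl⟩
  have hP' : IsPGroup 2 P' := (hP.comap_of_injective X.subtype X.subtype_injective).map π
  have hnorm : U ∈ normalizer (P' : Set (X ⧸ zpowers (Hyp.tC t))) := by
    have hfwd : ∀ z ∈ P', U * z * U⁻¹ ∈ P' := by
      rintro _ ⟨p, hp, rfl⟩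
      exact ⟨u' * p * u'⁻¹, mem_subgroupOf.2 (uP _ (mem_subgroupOf.1 hp)), by simp [hU]⟩
    refine mem_normalizer_iff.2 fun z => ⟨hfwd z, fun hz => ?_⟩
    have h3 : U * U * U = 1 := by rw [← hsc.pow_three, pow_succ, pow_two]
    have h := hfwd _ (hfwd _ hz)
    rwa [show U * (U * (U * z * U⁻¹) * U⁻¹) * U⁻¹ = (U * U * U) * z * (U * U * U)⁻¹ by group, h3,
      one_mul, inv_one, mul_one] at h
  have T : SelfThree.TwoInv U P' := ⟨hsc, hP', hnorm⟩
  have hu3 : U * U * U = 1 := by rw [← hsc.pow_three, pow_succ, pow_two]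
  have hnrm : ∀ p (hp : p ∈ P), π ⟨p, hmX (tP p hp)⟩ * (U * π ⟨p, hmX (tP p hp)⟩ * U⁻¹) *
      (U⁻¹ * π ⟨p, hmX (tP p hp)⟩ * U) = 1 := by
    intro p hp
    have h := T.norm_eq_one (hmem hp)
    rwa [show U * (U * π ⟨p, hmX (tP p hp)⟩ * U⁻¹) * U⁻¹ = U⁻¹ * π ⟨p, hmX (tP p hp)⟩ * U by
      calc U * (U * π ⟨p, hmX (tP p hp)⟩ * U⁻¹) * U⁻¹
          = U⁻¹ * (U * U * U) * π ⟨p, hmX (tP p hp)⟩ * (U * U * U)⁻¹ * U := by group
        _ = _ := by rw [hu3, inv_one, mul_one, mul_one]] at h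
  refine ⟨fun p hp => ?_, fun a ha b hb hab => ?_, fun a ha b hb c hc => ?_, fun i hi hri => ?_⟩
  · let p' : X := ⟨p, hmX (tP p hp)⟩
    exact (hπ (p' * (u' * p' * u'⁻¹) * (u'⁻¹ * p' * u'))).1 (by
      simp only [map_mul, map_inv]; exact hnrm p hp)
  · let a' : X := ⟨a, hmX (tP a ha)⟩
    let b' : X := ⟨b, hmX (tP b hb)⟩
    have h1 : π a' * π b' * (π a')⁻¹ * (π b')⁻¹ = 1 := by
      simp only [← map_inv, ← map_mul]; exact (hπ (a' * b' * a'⁻¹ * b'⁻¹)).2 hab
    refine (hπ (a' * (u' * b' * u'⁻¹) * a'⁻¹ * (u' * b' * u'⁻¹)⁻¹)).1 ?_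
    simp only [map_mul, map_inv]
    rw [T.commutator_conj' (hmem ha) (hmem hb), h1, mul_one, inv_mul_cancel]
  · let a' : X := ⟨a, hmX (tP a ha)⟩
    let b' : X := ⟨b, hmX (tP b hb)⟩
    let c' : X := ⟨c, hmX (tP c hc)⟩
    refine (hπ ((a' * b' * a'⁻¹ * b'⁻¹) * c' * (a' * b' * a'⁻¹ * b'⁻¹)⁻¹ * c'⁻¹)).1 ?_
    simp only [map_mul, map_inv]
    have h := (SelfThree.mem_Zc.1 (T.commutator_mem (hmem ha) (hmem hb))).2 _ (hmem hc)
    rw [← h, mul_inv_cancel_right, mul_inv_cancel]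
  · let i' : X := ⟨i, hmX (tP i hi)⟩
    set I := π i' with hI
    set R := π r' with hR
    have hR2 : R * R = 1 := by
      rw [hR, ← map_mul, show r' * r' = 1 from Subtype.ext H.rr, map_one]
    have hRi : R * I * R = I⁻¹ := by
      refine eq_inv_of_mul_eq_one_left ?_
      rw [hR, hI, ← map_mul, ← map_mul, ← map_mul]
      exact (hπ _).2 hri
    have hRU : R * U * R = U⁻¹ := by
      rw [hR, hU, ← map_mul, ← map_mul, ← map_inv]
      exact congrArg π (Subtype.ext H.rur)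
    clear_value U R I
    set A := U * I * U⁻¹ with hA
    set B := U⁻¹ * I * U with hB
    have hIP : I ∈ P' := hI ▸ hmem hi
    have hIAB : I * A * B = 1 := hI ▸ hnrm i hi |> fun h => by simpa [hA, hB] using h
    have hIA : I * A = A * I := by
      have h := T.commutator_conj' hIP hIP
      rw [mul_inv_cancel_right, mul_inv_cancel, mul_one, inv_mul_cancel] at h
      exact commutatorElement_eq_one_iff_mul_comm.1 h
    have hUA : U * A * U⁻¹ = B := by
      calc U * A * U⁻¹ = U⁻¹ * ((U * U * U) * I * (U * U * U)⁻¹) * U := by rw [hA]; group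
        _ = B := by rw [hu3, hB]; group
    have hUB : U * B * U⁻¹ = I := by rw [hB]; group
    have hAB : A * B = B * A := by
      have h := congrArg (fun z => U * z * U⁻¹) hIA
      rw [show U * (I * A) * U⁻¹ = (U * I * U⁻¹) * (U * A * U⁻¹) by group,
        show U * (A * I) * U⁻¹ = (U * A * U⁻¹) * (U * I * U⁻¹) by group, hUA, ← hA] at h
      exact h
    have hBI : B * I = I * B := by
      have h := congrArg (fun z => U * z * U⁻¹) hAB
      rw [show U * (A * B) * U⁻¹ = (U * A * U⁻¹) * (U * B * U⁻¹) by group,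
        show U * (B * A) * U⁻¹ = (U * B * U⁻¹) * (U * A * U⁻¹) by group, hUA, hUB] at h
      exact h
    have hRA : R * A * R = B⁻¹ := by
      have h1 : R * U = U⁻¹ * R := by
        calc R * U = (R * U * R) * R := by rw [mul_assoc (R * U), hR2, mul_one]
          _ = _ := by rw [hRU]
      have h2 : U⁻¹ * R = R * U := h1.symm
      calc R * A * R = (R * U) * I * (U⁻¹ * R) := by rw [hA]; group
        _ = (U⁻¹ * R) * I * (R * U) := by rw [h1, h2]
        _ = U⁻¹ * (R * I * R) * U := by group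
        _ = B⁻¹ := by rw [hRi, hB]; group
    have hRB : R * B * R = A⁻¹ := by
      have h := congrArg (fun z => R * z * R) hRA
      rw [show R * (R * A * R) * R = (R * R) * A * (R * R) by group, hR2, one_mul, mul_one] at h
      have hRinv : R⁻¹ = R := inv_eq_of_mul_eq_one_right hR2
      calc R * B * R = (R * B⁻¹ * R)⁻¹ := by rw [mul_inv_rev, mul_inv_rev, hRinv, inv_inv, mul_assoc]
        _ = A⁻¹ := by rw [← h]
    clear_value A B
    let a' : X := u' * i' * u'⁻¹
    let b' : X := u'⁻¹ * i' * u'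
    constructor
    · refine (hπ (r' * (a' * b'⁻¹) * r' * (a' * b'⁻¹)⁻¹)).1 ?_
      simp only [a', b', map_mul, map_inv, ← hR, ← hI, ← hU, ← hA, ← hB]
      have hRinv : R⁻¹ = R := inv_eq_of_mul_eq_one_right hR2
      have e : R * (A * B⁻¹) * R = B⁻¹ * A := by
        calc R * (A * B⁻¹) * R = (R * A * R) * (R * B * R)⁻¹ := by
              rw [mul_inv_rev, mul_inv_rev, hRinv,
                show (R * A * R) * (R * (B⁻¹ * R)) = R * A * (R * R) * B⁻¹ * R by group, hR2]
              group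
          _ = _ := by rw [hRA, hRB, inv_inv]
      rw [e, (show Commute A B from hAB).inv_right.symm.eq, mul_inv_cancel]
    · refine (hπ ((u' * (a' * b'⁻¹) * u'⁻¹) * (u'⁻¹ * (a' * b'⁻¹) * u')⁻¹ * i' ^ 3)).1 ?_
      simp only [a', b', map_mul, map_inv, map_pow, ← hR, ← hI, ← hU, ← hA, ← hB]
      have e1 : U * (A * B⁻¹) * U⁻¹ = B * I⁻¹ := by
        rw [show U * (A * B⁻¹) * U⁻¹ = (U * A * U⁻¹) * (U * B * U⁻¹)⁻¹ by group, hUA, hUB]
      have e2 : U⁻¹ * (A * B⁻¹) * U = I * A⁻¹ := by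
        have f1 : U⁻¹ * A * U = I := by rw [hA]; group
        have f2 : U⁻¹ * B * U = A := by rw [← hUA]; group
        rw [show U⁻¹ * (A * B⁻¹) * U = (U⁻¹ * A * U) * (U⁻¹ * B * U)⁻¹ by group, f1, f2]
      rw [e1, e2, mul_inv_rev, inv_inv]
      calc B * I⁻¹ * (A * I⁻¹) * I ^ 3 = B * (I⁻¹ * A) * I * I := by
            simp only [pow_succ, pow_zero, one_mul]; group
        _ = B * (A * I⁻¹) * I * I := by rw [(show Commute I A from hIA).inv_left.eq]
        _ = B * (A * I) := by group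
        _ = B * (I * A) := by rw [hIA]
        _ = B * (I * A * B) * B⁻¹ := by group
        _ = 1 := by rw [hIAB, mul_one, mul_inv_cancel]

end Hyp

/-- The kernel `N` of `C(t) → S₃` with its Sylow two-subgroup `P`. -/
structure Ker (t r u : G) (P N : Subgroup G) : Prop where
  le : ∀ n ∈ N, n * t = t * n
  norm : ∀ x, x * t = t * x → ∀ n ∈ N, x * n * x⁻¹ ∈ N
  PN : P ≤ N
  normP : ∀ x, x * t = t * x → ∀ p ∈ P, x * p * x⁻¹ ∈ P
  twoN : ∀ x ∈ N, TwoEl x → x ∈ P
  odd : ∀ x ∈ N, Odd (orderOf x) → ∀ p ∈ P, x * p = p * x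
  centR : ∀ x, x * t = t * x → x * r = r * x → x ∈ N ∨ r * x ∈ N
  three : ¬ 3 ∣ Nat.card N
  card : Nat.card (Subgroup.centralizer ({t} : Set G)) = 6 * Nat.card N
  six : ∀ x, x * t = t * x → ∃ e, (e = 1 ∨ e = u ∨ e = u⁻¹ ∨ e = r ∨ e = u * r ∨ e = u⁻¹ * r) ∧
    x * e⁻¹ ∈ N
  nil : Group.IsNilpotent N
  split : ∀ n ∈ N, ∃ a ∈ P, ∃ b ∈ N, Odd (orderOf b) ∧ n = a * b

namespace Hyp

variable (H : Hyp t r u q g)
include H

omit [Finite G] in
theorem ru : r * u = u⁻¹ * r := by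
  calc r * u = (r * u * r) * r := by rw [mul_assoc (r * u), H.rr, mul_one]
    _ = u⁻¹ * r := by rw [H.rur]

omit [Finite G] in
theorem Tt_fixed {x : G} (hx : Tt t x) : u * x * u⁻¹ = x ∧ u⁻¹ * x * u = x ∧ r * x * r = x ∧
    x * x = 1 ∧ ∀ y, y * t = t * y → y * x = x * y := by
  rcases hx with rfl | rfl
  · exact ⟨by simp, by simp, by rw [mul_one, H.rr], mul_one _, fun y _ => by simp⟩
  · exact ⟨by rw [H.ut, mul_inv_cancel_right], by rw [mul_assoc, ← H.ut, inv_mul_cancel_left],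
      by rw [H.rt, mul_assoc, H.rr, mul_one], H.tt, fun y h => h⟩

/-- The count of inverted elements. -/
theorem small {P : Subgroup G} (hP : IsPGroup 2 P) (tP : ∀ p ∈ P, p * t = t * p)
    (uP : ∀ p ∈ P, u * p * u⁻¹ ∈ P) (qP : q ∈ P) :
    Set.ncard {p : G | p ∈ P ∧ Tt t (r * p * r * p)} ≤
      2 * Set.ncard {p : G | p ∈ P ∧ r * p * r = p} := by
  obtain ⟨-, -, -, hfacts⟩ := H.two_facts hP tP uP
  have htP : t ∈ P := H.qq ▸ P.mul_mem qP qP
  have hTP : ∀ {x}, Tt t x → x ∈ P := fun h => by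
    rcases h with rfl | rfl
    · exact P.one_mem
    · exact htP
  have uP' : ∀ p ∈ P, u⁻¹ * p * u ∈ P := by
    intro p hp
    have h := uP _ (uP p hp)
    rwa [show u * (u * p * u⁻¹) * u⁻¹ = u⁻¹ * (u * u * u) * p * (u * u * u)⁻¹ * u by group,
      H.uuu, inv_one, mul_one, mul_one] at h
  let f : G → G := fun i => (u * i * u⁻¹) * (u⁻¹ * i * u)⁻¹
  let g' : G → G := fun c => (u * c * u⁻¹) * (u⁻¹ * c * u)⁻¹
  have hfP : ∀ {i}, i ∈ P → f i ∈ P := fun hi => P.mul_mem (uP _ hi) (P.inv_mem (uP' _ hi))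
  have hinv : ∀ {x}, Tt t x → ∀ {c}, c ∈ P → f (c * x) = f c := by
    intro x hx c hc
    obtain ⟨h1, h2, -, h4, h5⟩ := H.Tt_fixed hx
    simp only [f]
    rw [show u * (c * x) * u⁻¹ = (u * c * u⁻¹) * (u * x * u⁻¹) by group, h1,
      show u⁻¹ * (c * x) * u = (u⁻¹ * c * u) * (u⁻¹ * x * u) by group, h2, mul_inv_rev,
      ← mul_assoc, mul_inv_cancel_right]
  let ε : G → G := fun i => g' (f i) * i ^ 3
  let F : G → G := fun i => f i * ε i
  let J := {p : G | p ∈ P ∧ Tt t (r * p * r * p)}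
  let R' := {p : G | p ∈ P ∧ Tt t (r * p * r * p⁻¹)}
  let Kset := {p : G | p ∈ P ∧ r * p * r = p}
  have hmaps : ∀ i ∈ J, F i ∈ R' := by
    rintro i ⟨hi, hri⟩
    obtain ⟨h1, h2⟩ := hfacts i hi hri
    refine ⟨P.mul_mem (hfP hi) (hTP h2), ?_⟩
    obtain ⟨-, -, h3, -, h5⟩ := H.Tt_fixed (x := ε i) h2
    have hri' : r⁻¹ = r := inv_eq_of_mul_eq_one_right H.rr
    show Tt t (r * (f i * ε i) * r * (f i * ε i)⁻¹)
    rwa [show r * (f i * ε i) * r * (f i * ε i)⁻¹ =
      r * f i * r⁻¹ * (r * ε i * r) * (ε i)⁻¹ * (f i)⁻¹ by group, h3, hri', mul_inv_cancel_right]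
  have hinj : Set.InjOn F J := by
    rintro i ⟨hi, hri⟩ j ⟨hj, hrj⟩ he
    obtain ⟨-, hεi⟩ := hfacts i hi hri
    obtain ⟨-, hεj⟩ := hfacts j hj hrj
    change Tt t (ε i) at hεi
    change Tt t (ε j) at hεj
    change f i * ε i = f j * ε j at he
    obtain ⟨-, -, -, hi2, hic⟩ := H.Tt_fixed hεi
    obtain ⟨-, -, -, hj2, hjc⟩ := H.Tt_fixed hεj
    have hg : g' (f i) = g' (f j) := by
      calc g' (f i) = g' (f i * ε i) := (hinv hεi (hfP hi)).symm
        _ = g' (f j) := by rw [he]; exact hinv hεj (hfP hj)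
    have hδ : Tt t (ε i * ε j) := by
      rcases hεi with a | a <;> rcases hεj with b | b <;> rw [a, b] <;>
        simp [Tt, H.tt]
    obtain ⟨-, -, -, hd2, hdc⟩ := H.Tt_fixed hδ
    have hcube : j ^ 3 = (i * (ε i * ε j)) ^ 3 := by
      rw [(show Commute i (ε i * ε j) from hdc i (tP i hi)).mul_pow, pow_succ (ε i * ε j), pow_two,
        hd2, one_mul]
      calc j ^ 3 = (g' (f j))⁻¹ * ε j := (inv_mul_cancel_left _ _).symm
        _ = (g' (f i))⁻¹ * ((ε i * ε i) * ε j) := by rw [hi2, one_mul, hg]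
        _ = ((g' (f i))⁻¹ * ε i) * (ε i * ε j) := by group
        _ = i ^ 3 * (ε i * ε j) := by rw [show (g' (f i))⁻¹ * ε i = i ^ 3 from inv_mul_cancel_left _ _]
    have hj' := eq_of_cube hP hj (P.mul_mem hi (hTP hδ)) hcube
    have hf : f j = f i := by rw [hj', hinv hδ hi]
    rw [hf] at he
    rw [hj', mul_left_cancel he, hj2, mul_one]
  have hle : J.ncard ≤ R'.ncard := Set.ncard_le_ncard_of_injOn F hmaps hinj (Set.toFinite _)
  have hsub : R' ⊆ Kset ∪ (fun k => q * k) '' Kset := by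
    rintro p ⟨hp, h | h⟩
    · exact Or.inl ⟨hp, mul_inv_eq_one.1 h⟩
    · refine Or.inr ⟨q⁻¹ * p, ⟨P.mul_mem (P.inv_mem qP) hp, ?_⟩, mul_inv_cancel_left _ _⟩
      have h' : r * p * r = t * p := by rw [← h, inv_mul_cancel_right]
      have hri : r⁻¹ = r := inv_eq_of_mul_eq_one_right H.rr
      have hq : r * q⁻¹ * r = q := by
        calc r * q⁻¹ * r = (r * q * r)⁻¹ := by rw [mul_inv_rev, mul_inv_rev, hri, ← mul_assoc]
          _ = q := by rw [H.rqr, inv_inv]
      calc r * (q⁻¹ * p) * r = (r * q⁻¹ * r) * (r⁻¹ * p * r) := by group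
        _ = q⁻¹ * (q * q) * (t * p) := by rw [hq, hri, h']; group
        _ = q⁻¹ * (t * t) * p := by rw [H.qq]; group
        _ = q⁻¹ * p := by rw [H.tt, mul_one]
  calc J.ncard ≤ R'.ncard := hle
    _ ≤ (Kset ∪ (fun k => q * k) '' Kset).ncard := Set.ncard_le_ncard hsub (Set.toFinite _)
    _ ≤ Kset.ncard + ((fun k => q * k) '' Kset).ncard := Set.ncard_union_le _ _
    _ ≤ 2 * Kset.ncard := by
      rw [two_mul]; exact Nat.add_le_add_left (Set.ncard_image_le (Set.toFinite _)) _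

theorem exists_build : ∃ P N : Subgroup G, Core t r u q g P ∧ Ker t r u P N := by
  classical
  obtain ⟨N, hNle, hNn, htN, hqN, hrN, huN, hN3, hNc, hnil⟩ := H.exists_kernel
  have hle : ∀ n ∈ N, n * t = t * n := fun n hn => mem_centralizer_singleton_iff.1 (hNle hn)
  have : Fact (Nat.Prime 2) := ⟨Nat.prime_two⟩
  obtain ⟨P₀⟩ := (inferInstance : Nonempty (Sylow 2 N))
  have hP₀n : (P₀ : Subgroup N).Normal := inferInstance
  let P : Subgroup G := (P₀ : Subgroup N).map N.subtype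
  have hP : IsPGroup 2 P := P₀.2.map _
  have hPN : P ≤ N := map_subtype_le _
  have htwoN : ∀ x ∈ N, TwoEl x → x ∈ P := by
    rintro x hx ⟨k, hk⟩
    refine ⟨⟨x, hx⟩, ?_, rfl⟩
    have hpg : IsPGroup 2 (zpowers (⟨x, hx⟩ : N)) := by
      obtain ⟨l, -, hl⟩ := (Nat.dvd_prime_pow Nat.prime_two).1 (orderOf_dvd_of_pow_eq_one hk)
      exact IsPGroup.of_card (n := l) (by rw [Nat.card_zpowers, Subgroup.orderOf_mk, hl])
    have hsup : IsPGroup 2 (zpowers (⟨x, hx⟩ : N) ⊔ (P₀ : Subgroup N) : Subgroup N) :=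
      IsPGroup.to_sup_of_normal_right hpg P₀.2
    rw [← P₀.3 hsup le_sup_right]
    exact mem_sup_left (mem_zpowers _)
  have htwoP : ∀ x ∈ P, TwoEl x := fun x hx => by
    obtain ⟨k, hk⟩ := hP ⟨x, hx⟩
    exact ⟨k, by simpa using congrArg Subtype.val hk⟩
  have hnormP : ∀ x, x * t = t * x → ∀ p ∈ P, x * p * x⁻¹ ∈ P := by
    intro x hx p hp
    obtain ⟨k, hk⟩ := htwoP p hp
    exact htwoN _ (hNn x hx p (hPN hp)) ⟨k, by rw [conj_pow, hk, mul_one, mul_inv_cancel]⟩
  have hodd : ∀ x ∈ N, Odd (orderOf x) → ∀ p ∈ P, x * p = p * x := by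
    intro x hx ho p hp
    obtain ⟨k, hk⟩ := htwoP p hp
    refine CNGroup.Basic.commute_of_mem_nilpotent hnil hx (hPN hp) ?_
    exact (Nat.Coprime.pow_right k (Nat.coprime_two_right.2 ho)).coprime_dvd_right
      (orderOf_dvd_of_pow_eq_one hk)
  have hsplit : ∀ n ∈ N, ∃ a ∈ P, ∃ b ∈ N, Odd (orderOf b) ∧ n = a * b := by
    intro n hn
    obtain ⟨k, m, hm, hx⟩ := Nat.exists_eq_two_pow_mul_odd (orderOf_pos n).ne'
    have h1 : (n ^ m) ^ (2 ^ k) = 1 := by rw [← pow_mul, mul_comm, ← hx, pow_orderOf_eq_one]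
    have h2 : (n ^ (2 ^ k)) ^ m = 1 := by rw [← pow_mul, ← hx, pow_orderOf_eq_one]
    have hc : Nat.Coprime m (2 ^ k) := Nat.Coprime.pow_right k (Nat.coprime_two_right.2 hm)
    refine ⟨(n ^ m) ^ (Nat.gcdA m (2 ^ k)), P.zpow_mem (htwoN _ (N.pow_mem hn m) ⟨k, h1⟩) _,
      (n ^ (2 ^ k)) ^ (Nat.gcdB m (2 ^ k)), N.zpow_mem (N.pow_mem hn _) _, ?_, ?_⟩
    · refine hm.of_dvd_nat (orderOf_dvd_of_pow_eq_one ?_)
      rw [← zpow_natCast, ← zpow_mul, mul_comm, zpow_mul, zpow_natCast, h2, one_zpow]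
    · have e : n ^ ((Nat.gcd m (2 ^ k) : ℕ) : ℤ) =
          (n ^ m) ^ (Nat.gcdA m (2 ^ k)) * (n ^ (2 ^ k)) ^ (Nat.gcdB m (2 ^ k)) := by
        rw [Nat.gcd_eq_gcd_ab, zpow_add, zpow_mul, zpow_mul, zpow_natCast, zpow_natCast]
      rwa [hc.gcd_eq_one, Nat.cast_one, zpow_one] at e
  -- the quotient of order six
  set X : Subgroup G := Subgroup.centralizer ({t} : Set G) with hX
  have hXm : ∀ x : X, (x : G) * t = t * x := fun x => mem_centralizer_singleton_iff.1 x.2
  have hmX : ∀ {x : G}, x * t = t * x → x ∈ X := fun h => mem_centralizer_singleton_iff.2 h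
  let N' : Subgroup X := N.subgroupOf X
  have : N'.Normal := ⟨fun a ha x => mem_subgroupOf.2 (hNn x (hXm x) a (mem_subgroupOf.1 ha))⟩
  let π : X →* X ⧸ N' := QuotientGroup.mk' N'
  have hπ : ∀ x : X, π x = 1 ↔ (x : G) ∈ N := fun x =>
    (QuotientGroup.eq_one_iff x).trans mem_subgroupOf
  let u' : X := ⟨u, hmX H.ut⟩
  let r' : X := ⟨r, hmX H.rt⟩
  set U := π u' with hU
  set R := π r' with hR
  have hU1 : U ≠ 1 := fun h => huN ((hπ u').1 h)
  have hR1 : R ≠ 1 := fun h => hrN ((hπ r').1 h)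
  have hU3 : U * U * U = 1 := by
    rw [hU, ← map_mul, ← map_mul, show u' * u' * u' = 1 from Subtype.ext H.uuu, map_one]
  have hR2 : R * R = 1 := by
    rw [hR, ← map_mul, show r' * r' = 1 from Subtype.ext H.rr, map_one]
  have hRU : R * U * R = U⁻¹ := by
    rw [hR, hU, ← map_mul, ← map_mul, ← map_inv]
    exact congrArg π (Subtype.ext H.rur)
  have hQ6 : Nat.card (X ⧸ N') = 6 := by
    have h := Subgroup.card_mul_index N'
    rw [Nat.card_congr (subgroupOfEquivOfLe hNle).toEquiv, hNc, mul_comm 6] at h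
    exact Nat.eq_of_mul_eq_mul_left Nat.card_pos h
  clear_value U R
  have : Fact (Nat.Prime 3) := ⟨Nat.prime_three⟩
  have hUo : orderOf U = 3 := orderOf_eq_prime (by rw [pow_succ, pow_two]; exact hU3) hU1
  have hZ : (zpowers U).index = 2 := by
    have h := Subgroup.card_mul_index (zpowers U)
    rw [Nat.card_zpowers, hUo, hQ6] at h
    omega
  have hZm : ∀ y, y ∈ zpowers U → y = 1 ∨ y = U ∨ y = U⁻¹ := by
    intro y hy
    obtain ⟨n, rfl⟩ := mem_powers_iff_mem_zpowers.2 hy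
    show U ^ n = 1 ∨ U ^ n = U ∨ U ^ n = U⁻¹
    rw [← pow_mod_orderOf, hUo]
    have : n % 3 < 3 := Nat.mod_lt _ (by norm_num)
    interval_cases (n % 3)
    · left; rw [pow_zero]
    · right; left; rw [pow_one]
    · right; right
      rw [pow_two]; exact eq_inv_of_mul_eq_one_left hU3
  have hRnot : R ∉ zpowers U := by
    intro h
    have h1 := orderOf_dvd_of_pow_eq_one (show R ^ 2 = 1 by rw [pow_two]; exact hR2)
    have h2 := orderOf_dvd_natCard (zpowers U) h
    rw [Nat.card_zpowers, hUo] at h2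
    exact hR1 (orderOf_eq_one_iff.1 (Nat.eq_one_of_dvd_coprimes (by norm_num) h1 h2))
  have hRU' : R * U = U⁻¹ * R := by
    calc R * U = (R * U * R) * R := by rw [mul_assoc (R * U), hR2, mul_one]
      _ = _ := by rw [hRU]
  have hUU : U * U = U⁻¹ := eq_inv_of_mul_eq_one_left hU3
  have hall : ∀ y : X ⧸ N', y = 1 ∨ y = U ∨ y = U⁻¹ ∨ y = R ∨ y = U * R ∨ y = U⁻¹ * R := by
    intro y
    by_cases hy : y ∈ zpowers U
    · rcases hZm y hy with h | h | h
      exacts [Or.inl h, Or.inr (Or.inl h), Or.inr (Or.inr (Or.inl h))]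
    · have h1 : y * R ∈ zpowers U :=
        (mul_mem_iff_of_index_two hZ).2 ⟨fun h => absurd h hy, fun h => absurd h hRnot⟩
      have e : y = y * R * R := by rw [mul_assoc, hR2, mul_one]
      rcases hZm _ h1 with h | h | h <;> rw [h] at e
      · exact Or.inr (Or.inr (Or.inr (Or.inl (by rwa [one_mul] at e))))
      · exact Or.inr (Or.inr (Or.inr (Or.inr (Or.inl e))))
      · exact Or.inr (Or.inr (Or.inr (Or.inr (Or.inr e))))
  have hUinv : U⁻¹ ≠ U := fun h => hU1 (by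
    have e : U * U = 1 := by nth_rewrite 1 [← h]; exact inv_mul_cancel U
    rw [e, one_mul] at hU3; exact hU3)
  -- an element commuting with `R`
  have hcentQ : ∀ y : X ⧸ N', y * R = R * y → y = 1 ∨ y = R := by
    intro y hy
    have hc : R * y * R = y := by rw [← hy, mul_assoc, hR2, mul_one]
    have hRU2 : R * U⁻¹ * R = U := by
      calc R * U⁻¹ * R = R * (R * U * R) * R := by rw [hRU]
        _ = (R * R) * U * (R * R) := by group
        _ = U := by rw [hR2, one_mul, mul_one]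
    rcases hall y with h | h | h | h | h | h <;> rw [h] at hc
    · exact Or.inl h
    · exact absurd (hRU.symm.trans hc) hUinv
    · exact absurd (hRU2.symm.trans hc).symm hUinv
    · exact Or.inr h
    · rw [← mul_assoc, hRU] at hc
      exact absurd (mul_right_cancel hc) hUinv
    · rw [← mul_assoc, hRU2] at hc
      exact absurd (mul_right_cancel hc).symm hUinv
  have hcentR : ∀ x, x * t = t * x → x * r = r * x → x ∈ N ∨ r * x ∈ N := by
    intro x hxt hxr
    rcases hcentQ (π ⟨x, hmX hxt⟩) (by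
      rw [hR, ← map_mul, ← map_mul]; exact congrArg π (Subtype.ext hxr)) with h | h
    · exact Or.inl ((hπ _).1 h)
    · refine Or.inr ((hπ (r' * ⟨x, hmX hxt⟩)).1 ?_)
      rw [map_mul, h, ← hR, hR2]
  have htwoQ : ∀ z : X, TwoEl (z : G) → π z ≠ U ∧ π z ≠ U⁻¹ := by
    rintro z ⟨k, hk⟩
    have hz : π z ^ (2 ^ k) = 1 := by
      rw [← map_pow, show z ^ (2 ^ k) = 1 from Subtype.ext (by simpa using hk), map_one]
    have h2 : ¬ orderOf U ∣ 2 ^ k := by
      rw [hUo]; intro h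
      exact absurd (Nat.prime_three.dvd_of_dvd_pow h) (by norm_num)
    constructor <;> intro h <;> rw [h] at hz <;> apply h2
    · exact orderOf_dvd_of_pow_eq_one hz
    · rw [← orderOf_inv]; exact orderOf_dvd_of_pow_eq_one hz
  have hsix : ∀ x, x * t = t * x → ∃ e, (e = 1 ∨ e = u ∨ e = u⁻¹ ∨ e = r ∨ e = u * r ∨
      e = u⁻¹ * r) ∧ x * e⁻¹ ∈ N := by
    intro x hx
    let x' : X := ⟨x, hmX hx⟩
    have key : ∀ e : X, π x' = π e → x * (e : G)⁻¹ ∈ N := fun e h =>
      (hπ (x' * e⁻¹)).1 (by rw [map_mul, map_inv, h, mul_inv_cancel])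
    rcases hall (π x') with h | h | h | h | h | h
    · exact ⟨1, by simp, key 1 (by rw [h, map_one])⟩
    · exact ⟨u, by simp, key u' (by rw [h, hU])⟩
    · exact ⟨u⁻¹, by simp, key u'⁻¹ (by rw [h, map_inv, ← hU])⟩
    · exact ⟨r, by simp, key r' (by rw [h, hR])⟩
    · exact ⟨u * r, by simp, key (u' * r') (by rw [h, map_mul, ← hU, ← hR])⟩
    · exact ⟨u⁻¹ * r, by simp, key (u'⁻¹ * r') (by rw [h, map_mul, map_inv, ← hU, ← hR])⟩
  have hker : Ker t r u P N :=
    ⟨hle, hNn, hPN, hnormP, htwoN, hodd, hcentR, hN3, hNc, hsix, hnil, hsplit⟩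
  have hqP : q ∈ P := htwoN q hqN ⟨2, H.q_four⟩
  have hrinv : r⁻¹ = r := inv_eq_of_mul_eq_one_right H.rr
  have htP : ∀ p ∈ P, p * t = t * p := fun p hp => hle p (hPN hp)
  have hrP : ∀ p ∈ P, r * p * r ∈ P := fun p hp => by
    have := hnormP r H.rt p hp; rwa [hrinv] at this
  have huP : ∀ p ∈ P, u * p * u⁻¹ ∈ P := hnormP u H.ut
  obtain ⟨hnrm, htwist, hcentral, -⟩ := H.two_facts hP htP huP
  refine ⟨P, N, ?_, hker⟩
  exact
    { tt := H.tt, t_ne := H.t_ne, rr := H.rr, rt := H.rt, uuu := H.uuu, u_ne := H.u_ne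
      ut := H.ut, rur := H.rur, gtr := H.gtr, grt := H.grt, qq := H.qq, rqr := H.rqr
      q_mem := hqP, r_not := fun h => hrN (hPN h), two := hP, tP := htP, rP := hrP, uP := huP
      nrm := hnrm, twist := htwist, central := hcentral, small := H.small hP htP huP hqP
      cu := H.cu, gu := H.gu, hQ := H.hQ, pairW := H.pairW
      twoD := fun x hxt hxr h2 => by
        rcases hcentR x hxt hxr with h | h
        · exact Or.inl (htwoN x h h2)
        · refine Or.inr (htwoN _ h ?_)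
          obtain ⟨k, hk⟩ := h2
          refine ⟨k + 1, ?_⟩
          rw [(show Commute r x from hxr.symm).mul_pow, pow_succ 2 k, pow_mul x, hk, one_pow,
            mul_comm, pow_mul, pow_two, H.rr, one_pow, one_mul]
      mulR := fun y hy h1 h2 hyP => by
        have hyN : y ∉ N := fun h => hyP (htwoN y h h1)
        let y' : X := ⟨y, hmX hy⟩
        obtain ⟨a1, a2⟩ := htwoQ y' h1
        obtain ⟨b1, b2⟩ := htwoQ (y' * r') h2
        rw [map_mul, ← hR] at b1 b2
        rcases hall (π y') with h | h | h | h | h | h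
        · exact absurd ((hπ y').1 h) hyN
        · exact absurd h a1
        · exact absurd h a2
        · refine htwoN _ ((hπ (y' * r')).1 ?_) h2
          rw [map_mul, h, ← hR, hR2]
        · rw [h, mul_assoc, hR2, mul_one] at b1; exact absurd rfl b1
        · rw [h, mul_assoc, hR2, mul_one] at b2; exact absurd rfl b2
      oddC := fun x hxt hxr ho => by
        rcases hcentR x hxt hxr with h | h
        · exact hodd x h ho
        · exfalso
          have hzero : π r' * π ⟨x, hmX hxt⟩ = 1 := by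
            rw [← map_mul]; exact (hπ (r' * ⟨x, hmX hxt⟩)).2 h
          have hx : π ⟨x, hmX hxt⟩ = R := by
            rw [← hR] at hzero
            rw [eq_inv_of_mul_eq_one_right hzero]; exact inv_eq_of_mul_eq_one_right hR2
          have h1 := orderOf_dvd_of_pow_eq_one (show R ^ 2 = 1 by rw [pow_two]; exact hR2)
          have h2 : orderOf R ∣ orderOf x := by
            rw [← hx, ← Subgroup.orderOf_mk x (hmX hxt)]; exact orderOf_map_dvd π _
          exact hR1 (orderOf_eq_one_iff.1 (Nat.eq_one_of_dvd_coprimes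
            ((Nat.coprime_two_right.2 ho).symm) h1 h2))
      outside := fun p hpt hp2 hpP => by
        have h2el : TwoEl p := ⟨1, by rw [pow_one, pow_two]; exact hp2⟩
        have hpN : p ∉ N := fun h => hpP (htwoN p h h2el)
        let p' : X := ⟨p, hmX hpt⟩
        obtain ⟨a1, a2⟩ := htwoQ p' h2el
        obtain ⟨h₁, hh₁⟩ : ∃ h₁ : X, π (h₁ * p' * h₁⁻¹) = R := by
          rcases hall (π p') with h | h | h | h | h | h
          · exact absurd ((hπ p').1 h) hpN
          · exact absurd h a1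
          · exact absurd h a2
          · exact ⟨1, by simpa using h⟩
          · refine ⟨u', ?_⟩
            rw [map_mul, map_mul, map_inv, ← hU, h,
              show U * (U * R) * U⁻¹ = U * U * (R * U⁻¹) by group,
              show R * U⁻¹ = U * R by rw [← hRU, ← mul_assoc, ← mul_assoc, hR2, one_mul],
              ← mul_assoc, hU3, one_mul]
          · refine ⟨u'⁻¹, ?_⟩
            simp only [map_mul, map_inv, inv_inv]
            rw [← hU, h,
              show U⁻¹ * (U⁻¹ * R) * U = U⁻¹ * U⁻¹ * (R * U) by group, hRU',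
              show U⁻¹ * U⁻¹ * (U⁻¹ * R) = (U * U * U)⁻¹ * R by group, hU3, inv_one, one_mul]
        set p₁ : G := (h₁ : G) * p * (h₁ : G)⁻¹ with hp₁
        have hp₁N : p₁ * r ∈ N := by
          refine (hπ (h₁ * p' * h₁⁻¹ * r')).1 ?_
          rw [map_mul, hh₁, ← hR, hR2]
        have hp₁2 : p₁ * p₁ = 1 := by
          rw [hp₁, show (h₁ : G) * p * (h₁ : G)⁻¹ * ((h₁ : G) * p * (h₁ : G)⁻¹) =
            (h₁ : G) * (p * p) * (h₁ : G)⁻¹ by group, hp2, mul_one, mul_inv_cancel]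
        obtain ⟨a, ha, b, hb, hbo, hn⟩ := hsplit _ hp₁N
        have hp₁e : p₁ = a * b * r := by rw [← hn, mul_assoc, H.rr, mul_one]
        have hbc := hodd b hb hbo
        have hz : b * (r * b * r) = (a * (r * a * r))⁻¹ := by
          refine eq_inv_of_mul_eq_one_right ?_
          calc a * (r * a * r) * (b * (r * b * r)) = a * ((r * a * r) * b) * (r * b * r) := by group
            _ = a * (b * (r * a * r)) * (r * b * r) := by rw [hbc _ (hrP a ha)]
            _ = a * b * (r * a * (r * r)) * (b * r) := by group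
            _ = (a * b * r) * (a * b * r) := by rw [H.rr]; group
            _ = 1 := by rw [← hp₁e, hp₁2]
        set z := b * (r * b * r) with hzdef
        have hzP : z ∈ P := hz ▸ P.inv_mem (P.mul_mem ha (hrP a ha))
        have hzm : z ^ orderOf b = 1 := by
          have e : r * b * r = b⁻¹ * z := by rw [hzdef, inv_mul_cancel_left]
          have e2 : (r * b * r) ^ orderOf b = 1 := by
            have := conj_pow (i := orderOf b) (a := r) (b := b)
            rw [hrinv] at this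
            rw [this, pow_orderOf_eq_one, mul_one, H.rr]
          rw [e, (show Commute b z from hbc z hzP).inv_left.mul_pow, inv_pow, pow_orderOf_eq_one,
            inv_one, one_mul] at e2
          exact e2
        have hz1 : z = 1 := by
          have := TwoEl.pow_mem_eq (htwoP z hzP) (H := ⊥) hbo (by rw [hzm]; exact one_mem _)
          exact mem_bot.1 this
        obtain ⟨l, hl⟩ := hbo
        set c := b ^ (l + 1) with hc
        have hcc : c * c = b := by
          rw [hc, ← pow_add, show l + 1 + (l + 1) = orderOf b + 1 by omega, pow_add,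
            pow_orderOf_eq_one, one_mul, pow_one]
        have hrc : r * c = c⁻¹ * r := by
          have e : r * b * r⁻¹ = b⁻¹ := by
            rw [hrinv]; exact eq_inv_of_mul_eq_one_right hz1
          have := conj_pow (i := l + 1) (a := r) (b := b)
          rw [e, inv_pow, ← hc] at this
          rw [this, inv_mul_cancel_right]
        have hct : c * t = t * c := hle _ (N.pow_mem hb _)
        refine ⟨c⁻¹ * h₁, ?_, ?_⟩
        · exact ((show Commute c t from hct).inv_left.mul_left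
            (show Commute (h₁ : G) t from hXm h₁)).eq
        · have e : c⁻¹ * h₁ * p * (c⁻¹ * (h₁ : G))⁻¹ = a * r := by
            calc c⁻¹ * h₁ * p * (c⁻¹ * (h₁ : G))⁻¹ = c⁻¹ * p₁ * c := by rw [hp₁]; group
              _ = (c⁻¹ * a) * b * (r * c) := by rw [hp₁e]; group
              _ = (a * c⁻¹) * (c * c) * (c⁻¹ * r) := by
                rw [(show Commute c a from (show Commute b a from hbc a ha).pow_left _).inv_left.eq,
                  hcc, hrc]
              _ = a * r := by group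
          rw [e, ← mul_assoc]
          exact hrP a ha }

end Hyp

end Cfsg.Agent.Lib.ThreeLocal66
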