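import Mathlib
import Cfsg.Agent.Lib.FpfSThreeFree86.Auto

/-!
# Involution centralisers with quotient `S₃` and a three-local swap

Setting: `t` an involution, `P` a two-group inside `C(t)` normalised by `u` (order three, fixed
points `{1, t}` on `P`) and by an involution `r` inverting `u`, with `C(t)` two-locally `P ⋊ S₃`;
`g` swaps `t` and `r`, and `g u g⁻¹` commutes with `u`.  We show `|C_P(r)| ≤ 4`.
-/

namespace Cfsg.Agent.Lib.ThreeLocal66

variable {G : Type*} [Group G]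

/-- `x` is `1` or `t`. -/
def Tt (t x : G) : Prop := x = 1 ∨ x = t

/-- `x` has two-power order. -/
def TwoEl (x : G) : Prop := ∃ k : ℕ, x ^ (2 ^ k) = 1

/-- The hypotheses. -/
structure Core (t r u q g : G) (P : Subgroup G) : Prop where
  tt : t * t = 1
  t_ne : t ≠ 1
  rr : r * r = 1
  rt : r * t = t * r
  uuu : u * u * u = 1
  u_ne : u ≠ 1
  ut : u * t = t * u
  rur : r * u * r = u⁻¹
  gtr : g * t * g⁻¹ = r
  grt : g * r * g⁻¹ = t
  qq : q * q = t
  rqr : r * q * r = q⁻¹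
  q_mem : q ∈ P
  r_not : r ∉ P
  two : IsPGroup 2 P
  tP : ∀ p ∈ P, p * t = t * p
  rP : ∀ p ∈ P, r * p * r ∈ P
  uP : ∀ p ∈ P, u * p * u⁻¹ ∈ P
  nrm : ∀ p ∈ P, Tt t (p * (u * p * u⁻¹) * (u⁻¹ * p * u))
  twist : ∀ a ∈ P, ∀ b ∈ P, Tt t (a * b * a⁻¹ * b⁻¹) →
    Tt t (a * (u * b * u⁻¹) * a⁻¹ * (u * b * u⁻¹)⁻¹)
  central : ∀ a ∈ P, ∀ b ∈ P, ∀ c ∈ P,
    Tt t ((a * b * a⁻¹ * b⁻¹) * c * (a * b * a⁻¹ * b⁻¹)⁻¹ * c⁻¹)
  small : Set.ncard {p : G | p ∈ P ∧ Tt t (r * p * r * p)} ≤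
    2 * Set.ncard {p : G | p ∈ P ∧ r * p * r = p}
  cu : ∀ x, x * t = t * x → x * u = u * x →
    ∃ e, (e = 1 ∨ e = u ∨ e = u⁻¹) ∧ (x = e ∨ x = e * t)
  twoD : ∀ x, x * t = t * x → x * r = r * x → TwoEl x → x ∈ P ∨ r * x ∈ P
  outside : ∀ p, p * t = t * p → p * p = 1 → p ∉ P → ∃ h, h * t = t * h ∧ r * (h * p * h⁻¹) ∈ P
  mulR : ∀ y, y * t = t * y → TwoEl y → TwoEl (y * r) → y ∉ P → y * r ∈ P
  oddC : ∀ x, x * t = t * x → x * r = r * x → Odd (orderOf x) → ∀ p ∈ P, x * p = p * x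
  gu : (g * u * g⁻¹) * u = u * (g * u * g⁻¹)
  hQ : ∀ a, a * a = 1 → a * u = u * a → a * (g * u * g⁻¹) = (g * u * g⁻¹) * a → a = 1
  pairW : ∀ w, (w = (g * u * g⁻¹) * u ∨ w = (g * u * g⁻¹)⁻¹ * u) → ∀ a b, a * a = 1 → b * b = 1 →
    a ≠ 1 → b ≠ 1 → a * b = b * a → a * w = w * a → b * w = w * b → a = b

namespace Core

variable [Finite G] {t r u q g : G} {P : Subgroup G} (C : Core t r u q g P)

/-- The fixed points of `r` on `P`. -/
def K (r : G) (P : Subgroup G) : Subgroup G where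
  carrier := {p | p ∈ P ∧ r * p = p * r}
  one_mem' := ⟨P.one_mem, by simp⟩
  mul_mem' := by
    rintro a b ⟨ha, ha'⟩ ⟨hb, hb'⟩
    exact ⟨P.mul_mem ha hb, by rw [← mul_assoc, ha', mul_assoc, hb', mul_assoc]⟩
  inv_mem' := by
    rintro a ⟨ha, ha'⟩
    exact ⟨P.inv_mem ha, (show Commute r a from ha').inv_right.eq⟩

omit [Finite G] in
theorem mem_K {x : G} : x ∈ K r P ↔ x ∈ P ∧ r * x = x * r := Iff.rfl

include C

omit [Finite G] in
theorem t_inv : t⁻¹ = t := inv_eq_of_mul_eq_one_right C.tt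

omit [Finite G] in
theorem r_inv : r⁻¹ = r := inv_eq_of_mul_eq_one_right C.rr

omit [Finite G] in
theorem t_mem : t ∈ P := C.qq ▸ P.mul_mem C.q_mem C.q_mem

omit [Finite G] in
theorem t_memK : t ∈ K r P := ⟨C.t_mem, C.rt⟩

omit [Finite G] in
theorem qt : q * t = t * q := C.tP q C.q_mem

omit [Finite G] in
theorem q_inv : q⁻¹ = q * t := by
  apply inv_eq_of_mul_eq_one_right
  rw [← mul_assoc, C.qq, C.tt]

omit [Finite G] in
theorem Tt_mem {x : G} (h : Tt t x) : x ∈ P := by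
  rcases h with rfl | rfl
  · exact P.one_mem
  · exact C.t_mem

omit [Finite G] in
theorem Tt_mul {x y : G} (hx : Tt t x) (hy : Tt t y) : Tt t (x * y) := by
  rcases hx with rfl | rfl
  · rwa [one_mul]
  · rcases hy with rfl | rfl
    · exact Or.inr (mul_one _)
    · exact Or.inl C.tt

omit [Finite G] in
theorem Tt_inv {x : G} (hx : Tt t x) : Tt t x⁻¹ := by
  rcases hx with rfl | rfl
  · exact Or.inl inv_one
  · exact Or.inr C.t_inv

omit [Finite G] in
theorem Tt_comm {x p : G} (hx : Tt t x) (hp : p ∈ P) : p * x = x * p := by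
  rcases hx with rfl | rfl
  · simp
  · exact C.tP p hp

omit [Finite G] in
theorem conj_u_t : u * t * u⁻¹ = t := by rw [C.ut, mul_inv_cancel_right]

omit [Finite G] in
theorem Tt_conj_u {x : G} (hx : Tt t x) : Tt t (u * x * u⁻¹) := by
  rcases hx with rfl | rfl
  · exact Or.inl (by rw [mul_one, mul_inv_cancel])
  · exact Or.inr C.conj_u_t

omit [Finite G] in
theorem pow_three_one : u ^ 3 = 1 := by rw [pow_succ, pow_two]; exact C.uuu

omit [Finite G] in
theorem conj_cube (b : G) : u * (u * (u * b * u⁻¹) * u⁻¹) * u⁻¹ = b := by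
  calc u * (u * (u * b * u⁻¹) * u⁻¹) * u⁻¹ = (u * u * u) * b * (u * u * u)⁻¹ := by group
    _ = b := by rw [C.uuu, inv_one, one_mul, mul_one]

omit [Finite G] in
theorem uu_eq : u⁻¹ = u * u :=
  inv_eq_of_mul_eq_one_right (by rw [← mul_assoc]; exact C.uuu)

omit [Finite G] in
theorem uP' {p : G} (hp : p ∈ P) : u⁻¹ * p * u ∈ P := by
  have h := C.uP _ (C.uP p hp)
  have e : u * (u * p * u⁻¹) * u⁻¹ = u⁻¹ * p * u := by
    calc u * (u * p * u⁻¹) * u⁻¹ = (u * u) * p * (u * u)⁻¹ := by group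
      _ = u⁻¹ * p * u := by rw [← C.uu_eq, inv_inv]
  rwa [e] at h

omit [Finite G] in
theorem u_rho (p : G) : r * (u * p * u⁻¹) * r = u⁻¹ * (r * p * r) * u := by
  have h1 : r * u = u⁻¹ * r := by
    calc r * u = (r * u * r) * r := by rw [mul_assoc (r * u), C.rr, mul_one]
      _ = u⁻¹ * r := by rw [C.rur]
  have h2 : u⁻¹ * r = r * u := h1.symm
  calc r * (u * p * u⁻¹) * r = (r * u) * p * (u⁻¹ * r) := by group
    _ = (u⁻¹ * r) * p * (r * u) := by rw [h1, h2]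
    _ = u⁻¹ * (r * p * r) * u := by group

omit [Finite G] in
theorem rho_mul (a b : G) : r * (a * b) * r = (r * a * r) * (r * b * r) := by
  calc r * (a * b) * r = r * a * (1 : G) * b * r := by group
    _ = _ := by rw [← C.rr]; group

omit [Finite G] in
theorem rho_inv (a : G) : r * a⁻¹ * r = (r * a * r)⁻¹ := by
  rw [mul_inv_rev, mul_inv_rev, C.r_inv, ← mul_assoc]

omit [Finite G] in
theorem rho_rho (a : G) : r * (r * a * r) * r = a := by
  calc r * (r * a * r) * r = (r * r) * a * (r * r) := by group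
    _ = a := by rw [C.rr, one_mul, mul_one]

/-! ### Counting -/

/-- The elements of `P` centralised by `r` modulo `⟨t⟩`. -/
noncomputable def R0 : Subgroup G where
  carrier := {p | p ∈ P ∧ Tt t (r * p * r * p⁻¹)}
  one_mem' := ⟨P.one_mem, Or.inl (by rw [mul_one, inv_one, mul_one, C.rr])⟩
  mul_mem' := by
    rintro a b ⟨ha, ha'⟩ ⟨hb, hb'⟩
    refine ⟨P.mul_mem ha hb, ?_⟩
    have e : r * (a * b) * r * (a * b)⁻¹ = r * a * r * (r * b * r * b⁻¹) * a⁻¹ := by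
      rw [C.rho_mul]; group
    have h2 : r * a * r * (r * b * r * b⁻¹) * a⁻¹ = (r * b * r * b⁻¹) * (r * a * r * a⁻¹) := by
      rw [C.Tt_comm hb' (C.rP a ha)]; group
    rw [e, h2]
    exact C.Tt_mul hb' ha'
  inv_mem' := by
    rintro a ⟨ha, ha'⟩
    refine ⟨P.inv_mem ha, ?_⟩
    have e : r * a⁻¹ * r * a⁻¹⁻¹ = a⁻¹ * (r * a * r * a⁻¹)⁻¹ * a := by
      rw [C.rho_inv]; group
    rw [e, C.Tt_comm (C.Tt_inv ha') (P.inv_mem ha), inv_mul_cancel_right]
    exact C.Tt_inv ha'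

omit [Finite G] in
theorem mem_R0 {p : G} : p ∈ C.R0 ↔ p ∈ P ∧ Tt t (r * p * r * p⁻¹) := Iff.rfl

omit [Finite G] in
theorem q_memR0 : q ∈ C.R0 := ⟨C.q_mem, Or.inr (by
  rw [C.rqr, C.q_inv]
  calc q * t * (q * t) = (q * q) * (t * t) := by rw [mul_assoc q t, ← mul_assoc t q, ← C.qt]; group
    _ = t := by rw [C.qq, C.tt, mul_one])⟩

omit [Finite G] in
theorem K_le_R0 : K r P ≤ C.R0 := by
  rintro k ⟨hk, hk'⟩
  refine ⟨hk, Or.inl ?_⟩
  rw [hk', mul_assoc k, C.rr, mul_one, mul_inv_cancel]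

omit [Finite G] in
theorem R0_cases {p : G} (hp : p ∈ C.R0) : p ∈ K r P ∨ q⁻¹ * p ∈ K r P := by
  obtain ⟨hpP, h | h⟩ := hp
  · left
    refine ⟨hpP, ?_⟩
    calc r * p = (r * p * r * p⁻¹) * p * r⁻¹ := by group
      _ = p * r := by rw [h, one_mul, C.r_inv]
  · right
    refine ⟨P.mul_mem (P.inv_mem C.q_mem) hpP, ?_⟩
    have h' : r * p * r = t * p := by
      calc r * p * r = (r * p * r * p⁻¹) * p := by group
        _ = t * p := by rw [h]
    have e : r * (q⁻¹ * p) * r = q⁻¹ * p := by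
      rw [C.rho_mul, C.rho_inv, C.rqr, inv_inv, h', ← mul_assoc, C.q_inv]
    calc r * (q⁻¹ * p) = (r * (q⁻¹ * p) * r) * r⁻¹ := by group
      _ = q⁻¹ * p * r := by rw [e, C.r_inv]

omit [Finite G] in
theorem rho_K {k : G} (hk : k ∈ K r P) : r * k * r = k := by
  rw [hk.2, mul_assoc, C.rr, mul_one]

omit [Finite G] in
theorem K_of_rho {k : G} (hk : k ∈ P) (h : r * k * r = k) : k ∈ K r P := by
  refine ⟨hk, ?_⟩
  calc r * k = (r * k * r) * r⁻¹ := by group
    _ = k * r := by rw [h, C.r_inv]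

omit [Finite G] in
theorem q_notK : q ∉ K r P := fun h => by
  have e := C.rho_K h
  rw [C.rqr, C.q_inv] at e
  exact C.t_ne (mul_eq_left.1 e)

omit [Finite G] in
theorem card_R0 : Nat.card C.R0 = 2 * Nat.card (K r P) := by
  classical
  let f : K r P × Bool → C.R0 := fun x =>
    ⟨(bif x.2 then q else 1) * x.1, by
      cases x.2
      · simpa using C.K_le_R0 x.1.2
      · exact C.R0.mul_mem C.q_memR0 (C.K_le_R0 x.1.2)⟩
  have hf : Function.Bijective f := by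
    constructor
    · rintro ⟨a, i⟩ ⟨b, j⟩ h
      have h' := congrArg Subtype.val h
      simp only [f] at h'
      cases i <;> cases j <;> simp only [cond_false, cond_true, one_mul] at h'
      · exact Prod.ext (Subtype.ext h') rfl
      · exact absurd ((Subgroup.mul_mem_cancel_right _ b.2).1 (h' ▸ a.2)) C.q_notK
      · exact absurd ((Subgroup.mul_mem_cancel_right _ a.2).1 (h'.symm ▸ b.2)) C.q_notK
      · exact Prod.ext (Subtype.ext (mul_left_cancel h')) rfl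
    · rintro ⟨p, hp⟩
      rcases C.R0_cases hp with h | h
      · exact ⟨(⟨p, h⟩, false), Subtype.ext (one_mul p)⟩
      · exact ⟨(⟨_, h⟩, true), Subtype.ext (mul_inv_cancel_left q p)⟩
  rw [← Nat.card_congr (Equiv.ofBijective f hf), Nat.card_prod, Nat.card_eq_fintype_card (α := Bool),
    Fintype.card_bool, mul_comm]

omit [Finite G] in
theorem u_notP : u ∉ P := by
  intro hu
  obtain ⟨k, hk⟩ := C.two ⟨u, hu⟩
  have hk' : u ^ (2 ^ k) = 1 := by simpa using congrArg Subtype.val hk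
  have h3 : u ^ 3 = 1 := by rw [pow_succ, pow_two]; exact C.uuu
  have hc : Nat.Coprime 3 (2 ^ k) := (by decide : Nat.Coprime 3 2).pow_right k
  exact C.u_ne (by
    have := pow_gcd_eq_one.2 ⟨h3, hk'⟩
    rwa [hc.gcd_eq_one, pow_one] at this)

omit [Finite G] in
/-- `P` has no elements fixed by `u` other than `1` and `t`. -/
theorem fixed_P {b : G} (hb : b ∈ P) (h : b * u = u * b) : Tt t b := by
  obtain ⟨e, he, hbe⟩ := C.cu b (C.tP b hb) h
  have he1 : e ∈ P := by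
    rcases hbe with h | h
    · exact h ▸ hb
    · exact (Subgroup.mul_mem_cancel_right _ C.t_mem).1 (h ▸ hb)
  rcases he with rfl | rfl | rfl
  · rcases hbe with h | h
    · exact Or.inl h
    · exact Or.inr (by rwa [one_mul] at h)
  · exact absurd he1 C.u_notP
  · exact absurd (inv_inv u ▸ P.inv_mem he1) C.u_notP

omit [Finite G] in
/-- An element of `P` fixed by `u` modulo `t` lies in `⟨t⟩`. -/
theorem fixed_mod {b : G} (hb : b ∈ P) (h : Tt t (b⁻¹ * (u * b * u⁻¹))) : Tt t b := by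
  refine C.fixed_P hb ?_
  rcases h with e | e
  · calc b * u = b * (b⁻¹ * (u * b * u⁻¹)) * u := by rw [e, mul_one]
      _ = u * b := by group
  · exfalso
    have e1 : u * b * u⁻¹ = b * t := by rw [← e, mul_inv_cancel_left]
    have e2 : ∀ x, u * (x * t) * u⁻¹ = (u * x * u⁻¹) * t := fun x => by
      calc u * (x * t) * u⁻¹ = (u * x * u⁻¹) * (u * t * u⁻¹) := by group
        _ = _ := by rw [C.conj_u_t]
    have e3 : b = b * t := by
      calc b = (u * u * u) * b * (u * u * u)⁻¹ := by rw [C.uuu]; group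
        _ = u * (u * (u * b * u⁻¹) * u⁻¹) * u⁻¹ := by group
        _ = b * t := by rw [e1, e2, e1, mul_assoc b, C.tt, mul_one, e1]
    exact C.t_ne (mul_eq_left.1 e3.symm)

omit [Finite G] in
/-- A fixed point of `r` equal modulo `t` to the `u`-conjugate of another is trivial modulo `t`. -/
theorem inter_trivial {a b : G} (ha : a ∈ C.R0) (hb : b ∈ C.R0) (h : Tt t (a⁻¹ * (u * b * u⁻¹))) :
    Tt t b := by
  have hm : u * b * u⁻¹ ∈ C.R0 := by
    have hx : a⁻¹ * (u * b * u⁻¹) ∈ C.R0 := by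
      rcases h with e | e <;> rw [e]
      · exact C.R0.one_mem
      · exact C.K_le_R0 C.t_memK
    simpa using C.R0.mul_mem ha hx
  obtain ⟨hb1, hb2⟩ := hb
  obtain ⟨-, h1⟩ := hm
  rw [C.u_rho] at h1
  have h3 : Tt t (u⁻¹ * b * u * (u * b * u⁻¹)⁻¹) := by
    have e : u⁻¹ * b * u * (u * b * u⁻¹)⁻¹ = (u⁻¹ * (r * b * r * b⁻¹) * u)⁻¹ *
        (u⁻¹ * (r * b * r) * u * (u * b * u⁻¹)⁻¹) := by group
    rw [e]
    refine C.Tt_mul (C.Tt_inv ?_) h1
    rcases hb2 with e' | e' <;> rw [e']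
    · exact Or.inl (by simp)
    · exact Or.inr (by rw [mul_assoc, ← C.ut, inv_mul_cancel_left])
  refine C.fixed_mod hb1 ?_
  -- conjugate twice by `u`
  have e2 : u * (u * (u⁻¹ * b * u * (u * b * u⁻¹)⁻¹) * u⁻¹) * u⁻¹ = u * b * u⁻¹ * b⁻¹ := by
    calc u * (u * (u⁻¹ * b * u * (u * b * u⁻¹)⁻¹) * u⁻¹) * u⁻¹
        = u * (u * (u⁻¹ * b * u) * u⁻¹) * u⁻¹ * (u * (u * (u * b * u⁻¹) * u⁻¹) * u⁻¹)⁻¹ := by
          simp only [mul_inv_rev, inv_inv, mul_assoc, inv_mul_cancel_left, mul_inv_cancel_left]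
      _ = u * b * u⁻¹ * b⁻¹ := by rw [C.conj_cube]; group
  have h5 : Tt t (u * b * u⁻¹ * b⁻¹) := e2 ▸ C.Tt_conj_u (C.Tt_conj_u h3)
  have h6 : b⁻¹ * (u * b * u⁻¹) = b⁻¹ * (u * b * u⁻¹ * b⁻¹) * b := by group
  rw [h6, C.Tt_comm h5 (P.inv_mem hb1), inv_mul_cancel_right]
  exact h5

end Core

end Cfsg.Agent.Lib.ThreeLocal66
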