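import Cfsg.Agent.Lib.ThreeLocal66.Core

/-!
# Counting: exact inversion and the conjugacy of the involutions in `rP`
-/

namespace Cfsg.Agent.Lib.ThreeLocal66

open Subgroup

variable {G : Type*} [Group G] [Finite G] {t r u q g : G} {P : Subgroup G}

namespace Core

variable (C : Core t r u q g P)
include C

theorem prod_le {H : Subgroup G} (h1 : C.R0 ≤ H) (h2 : ∀ p ∈ C.R0, u * p * u⁻¹ ∈ H) :
    2 * Nat.card (K r P) ^ 2 ≤ Nat.card (H ⊓ P : Subgroup G) := by
  classical
  have := Fintype.ofFinite G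
  let f : C.R0 × C.R0 → (H ⊓ P : Subgroup G) := fun x =>
    ⟨x.1 * (u * x.2 * u⁻¹),
      mul_mem (h1 x.1.2) (h2 _ x.2.2), P.mul_mem x.1.2.1 (C.uP _ x.2.2.1)⟩
  have hcard := Finset.card_le_mul_card_image (f := f)
    (Finset.univ : Finset (C.R0 × C.R0)) 2 ?_
  · have h3 : ((Finset.univ : Finset (C.R0 × C.R0)).image f).card ≤
        Nat.card (H ⊓ P : Subgroup G) := by
      rw [Nat.card_eq_fintype_card]; exact Finset.card_le_univ _
    rw [Finset.card_univ, ← Nat.card_eq_fintype_card, Nat.card_prod, C.card_R0] at hcard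
    nlinarith
  rintro y -
  by_cases hne : ∃ x, f x = y
  swap
  · rw [Finset.filter_false_of_mem fun x _ h => hne ⟨x, h⟩]; simp
  obtain ⟨⟨a, b⟩, hab⟩ := hne
  refine (Finset.card_le_card (t := {(a, b),
    (⟨a * t, C.R0.mul_mem a.2 (C.K_le_R0 C.t_memK)⟩,
      ⟨b * t, C.R0.mul_mem b.2 (C.K_le_R0 C.t_memK)⟩)}) ?_).trans Finset.card_le_two
  rintro ⟨c, d⟩ hx
  have e : (c : G) * (u * d * u⁻¹) = a * (u * b * u⁻¹) :=
    congrArg Subtype.val ((Finset.mem_filter.1 hx).2.trans hab.symm)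
  have e2 : (a : G)⁻¹ * c = (u * ((b : G) * (d : G)⁻¹) * u⁻¹) := by
    calc (a : G)⁻¹ * c = (a : G)⁻¹ * ((c : G) * (u * d * u⁻¹)) * (u * d * u⁻¹)⁻¹ := by group
      _ = _ := by rw [e]; group
  have hz := C.inter_trivial (C.R0.mul_mem (C.R0.inv_mem a.2) c.2)
    (C.R0.mul_mem b.2 (C.R0.inv_mem d.2)) (Or.inl (by rw [← e2, inv_mul_cancel]))
  rcases hz with h | h
  · rw [h, mul_one, mul_inv_cancel] at e2
    simp [Prod.ext_iff, Subtype.ext_iff, inv_mul_eq_one.1 e2, mul_inv_eq_one.1 h]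
  · rw [h, C.conj_u_t] at e2
    have e3 : (c : G) = a * t := inv_mul_eq_iff_eq_mul.1 e2
    have e4 : (d : G) = b * t := by
      calc (d : G) = ((b : G) * (d : G)⁻¹)⁻¹ * b := by group
        _ = t⁻¹ * b := by rw [h]
        _ = b * t := by rw [C.t_inv, C.tP _ b.2.1]
    simp [Prod.ext_iff, Subtype.ext_iff, e3, e4]

/-- `|P| ≥ 2 n²`. -/
theorem card_ge : 2 * Nat.card (K r P) ^ 2 ≤ Nat.card P :=
  (C.prod_le (H := P) (fun _ h => h.1) fun p hp => C.uP p hp.1).trans
    (card_le_of_le inf_le_right)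

/-- The commutators with `r`. -/
theorem image_facts :
    Nat.card P = Set.ncard ((fun a => r * a * r * a⁻¹) '' (P : Set G)) * Nat.card (K r P) := by
  let Kp : Subgroup P := (K r P).subgroupOf P
  let S : Set G := (fun a => r * a * r * a⁻¹) '' (P : Set G)
  have hK : ∀ a b : G, a ∈ P → b ∈ P →
      (a⁻¹ * b ∈ K r P ↔ r * a * r * a⁻¹ = r * b * r * b⁻¹) := by
    intro a b ha hb
    constructor
    · intro h
      have e := C.rho_K h
      rw [C.rho_mul, C.rho_inv] at e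
      calc r * a * r * a⁻¹ = r * a * r * ((r * a * r)⁻¹ * (r * b * r)) * b⁻¹ := by rw [e]; group
        _ = _ := by group
    · intro h
      refine C.K_of_rho (P.mul_mem (P.inv_mem ha) hb) ?_
      rw [C.rho_mul, C.rho_inv]
      calc (r * a * r)⁻¹ * (r * b * r) = (r * a * r)⁻¹ * (r * b * r * b⁻¹) * b := by group
        _ = a⁻¹ * b := by rw [← h]; group
  let F : P ⧸ Kp → S := Quotient.lift (fun a : P => (⟨_, ⟨a, a.2, rfl⟩⟩ : S)) fun a b hab =>
    Subtype.ext ((hK a b a.2 b.2).1 (QuotientGroup.leftRel_apply (s := Kp).1 hab))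
  have hF : Function.Bijective F := by
    constructor
    · intro x y
      induction x using QuotientGroup.induction_on with | _ a =>
      induction y using QuotientGroup.induction_on with | _ b =>
      intro h
      exact QuotientGroup.eq.2 ((hK a b a.2 b.2).2 (congrArg Subtype.val h))
    · rintro ⟨_, a, ha, rfl⟩
      exact ⟨QuotientGroup.mk (⟨a, ha⟩ : P), rfl⟩
  have h1 : Nat.card (P ⧸ Kp) = S.ncard := by
    rw [Nat.card_congr (Equiv.ofBijective F hF), Nat.card_coe_set_eq]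
  have h2 : Nat.card Kp = Nat.card (K r P) :=
    Nat.card_congr (subgroupOfEquivOfLe (fun x hx => hx.1 : K r P ≤ P)).toEquiv
  rw [Kp.card_eq_card_quotient_mul_card_subgroup, h1, h2]

omit [Finite G] in
theorem ncard_K : Set.ncard {p : G | p ∈ P ∧ r * p * r = p} = Nat.card (K r P) := by
  rw [← Nat.card_coe_set_eq]
  refine Nat.card_congr (Equiv.setCongr ?_)
  ext x
  exact ⟨fun h => C.K_of_rho h.1 h.2, fun h => ⟨h.1, C.rho_K h⟩⟩

theorem inverted_eq_image :
    {p : G | p ∈ P ∧ Tt t (r * p * r * p)} = (fun a => r * a * r * a⁻¹) '' (P : Set G) ∧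
      Nat.card P = 2 * Nat.card (K r P) ^ 2 := by
  set n := Nat.card (K r P)
  have hn : 0 < n := Nat.card_pos
  set S : Set G := (fun a => r * a * r * a⁻¹) '' (P : Set G)
  set J : Set G := {p : G | p ∈ P ∧ Tt t (r * p * r * p)}
  have hsub : S ⊆ J := by
    rintro _ ⟨a, ha, rfl⟩
    refine ⟨P.mul_mem (C.rP a ha) (P.inv_mem ha), Or.inl ?_⟩
    show r * (r * a * r * a⁻¹) * r * (r * a * r * a⁻¹) = 1
    rw [C.rho_mul (r * a * r) a⁻¹, C.rho_rho, C.rho_inv]
    group
  have hP : Nat.card P = S.ncard * n := C.image_facts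
  have hJ : J.ncard ≤ 2 * n := C.small.trans_eq (congrArg (2 * ·) C.ncard_K)
  have hge := C.card_ge
  have hSJ : S.ncard ≤ J.ncard := Set.ncard_le_ncard hsub (Set.toFinite _)
  have hS : 2 * n ≤ S.ncard := by
    refine Nat.le_of_mul_le_mul_right (c := n) ?_ hn
    rw [← hP]; nlinarith
  refine ⟨(Set.eq_of_subset_of_ncard_le hsub (by omega) (Set.toFinite _)).symm, ?_⟩
  rw [hP, show S.ncard = 2 * n by omega]; ring

theorem card_P : Nat.card P = 2 * Nat.card (K r P) ^ 2 := C.inverted_eq_image.2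

theorem exists_comm {p : G} (hp : p ∈ P) (h : Tt t (r * p * r * p)) :
    ∃ a ∈ P, r * a * r * a⁻¹ = p := by
  have : p ∈ (fun a => r * a * r * a⁻¹) '' (P : Set G) := C.inverted_eq_image.1 ▸ ⟨hp, h⟩
  exact this

/-- Inversion modulo `t` is exact. -/
theorem exact_inv {p : G} (hp : p ∈ P) (h : Tt t (r * p * r * p)) : r * p * r * p = 1 := by
  obtain ⟨a, -, rfl⟩ := C.exists_comm hp h
  rw [C.rho_mul (r * a * r) a⁻¹, C.rho_rho, C.rho_inv]
  group

/-- No involution of `P` is moved by `t` under `r`. -/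
theorem no_twist {p : G} (hp : p ∈ P) (hr : r * p * r = p * t) (h2 : p * p = 1) : False := by
  have h : r * p * r * p = t := by rw [hr, mul_assoc, ← C.tP p hp, ← mul_assoc, h2, one_mul]
  exact C.t_ne (h ▸ C.exact_inv hp (Or.inr h))

/-- The involutions in `rP` are conjugate to `r` by elements of `P`. -/
theorem conj_of_invol {k : G} (hk : k ∈ P) (h2 : (r * k) * (r * k) = 1) :
    ∃ a ∈ P, a * r * a⁻¹ = r * k := by
  have h : r * k * r * k = 1 := by rw [mul_assoc (r * k)]; exact h2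
  obtain ⟨a, ha, e⟩ := C.exists_comm hk (Or.inl h)
  exact ⟨a, ha, by rw [← e]; simp only [← mul_assoc, C.rr, one_mul]⟩

theorem top_R0 {H : Subgroup G} (h1 : C.R0 ≤ H) (h2 : ∀ p ∈ C.R0, u * p * u⁻¹ ∈ H) : P ≤ H :=
  (eq_of_le_of_card_ge (inf_le_right : H ⊓ P ≤ P)
    (C.card_P.le.trans (C.prod_le h1 h2))).ge.trans inf_le_left

end Core

end Cfsg.Agent.Lib.ThreeLocal66
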