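import Mathlib
import Cfsg.Agent.Lib.Suborbit46.GL23

/-!
# A group `3² : GL(2,3)` with coordinates
-/

set_option autoImplicit false
set_option synthInstance.maxSize 4000
set_option synthInstance.maxHeartbeats 400000

namespace Cfsg.Agent.Lib.ThreeLocal66

open Subgroup
open Cfsg.Agent.Lib.Suborbit46.GL23

/-- The action of a quadruple on pairs. -/
def act (m : M4) (v : ZMod 3 × ZMod 3) : ZMod 3 × ZMod 3 :=
  (m.1 * v.1 + m.2.1 * v.2, m.2.2.1 * v.1 + m.2.2.2 * v.2)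

/-- The diagonal reflection `(1, -1)`. -/
def dT : M4 := (1, 0, 0, 2)
/-- The diagonal reflection `(-1, 1)`. -/
def dR : M4 := (2, 0, 0, 1)
/-- The swap. -/
def dS : M4 := (0, 1, 1, 0)

/-- The elements of order dividing three. -/
def threes : List M4 :=
  [one4, (1, 1, 0, 1), (1, 2, 0, 1), (1, 0, 1, 1), (1, 0, 2, 1), (2, 1, 2, 0), (0, 2, 1, 2),
    (0, 1, 2, 2), (2, 2, 1, 0)]

namespace M4Facts

theorem threes_spec : ∀ m ∈ threes, mul4 m (mul4 m m) = one4 := by decide +kernel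

theorem det_of_inj : ∀ m, (∀ v, act m v = (0, 0) → v = (0, 0)) → det4 m ≠ 0 := by decide +kernel

theorem act_mul : ∀ m n : M4, ∀ v, act (mul4 m n) v = act m (act n v) := by
  intro m n v
  simp only [act, mul4, Prod.mk.injEq]
  exact ⟨by ring, by ring⟩

theorem exists_to_e1 : ∀ v : ZMod 3 × ZMod 3, v ≠ (0, 0) → ∃ m, det4 m ≠ 0 ∧ act m v = (1, 0) := by
  decide +kernel

theorem pair_eq : ∀ v : ZMod 3 × ZMod 3, v ≠ (0, 0) → ∀ a, mul4 a a = one4 → a ≠ one4 →
    act a v = v → ∀ b, mul4 b b = one4 → b ≠ one4 → act b v = v → mul4 a b = mul4 b a → a = b := by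
  decide +kernel

theorem fix_two : ∀ a, act a (1, 0) = (1, 0) → act a (0, 1) = (0, 1) → a = one4 := by decide +kernel

theorem cu_facts : ∀ m, det4 m ≠ 0 → act m (1, 0) = (1, 0) → mul4 m dT = mul4 dT m →
    m = one4 ∨ m = dT := by decide +kernel

theorem exists_q : ∀ u, mul4 u (mul4 u u) = one4 → u ≠ one4 → ∀ r, mul4 r r = one4 →
    mul4 r (mul4 u r) = mul4 u u →
    ∃ q, det4 q ≠ 0 ∧ mul4 q q = neg4 ∧ mul4 r (mul4 q r) = mul4 q (mul4 q q) ∧
      mul4 q (mul4 u (mul4 q (mul4 u u))) = mul4 (mul4 u (mul4 q (mul4 u u))) (mul4 q neg4) ∧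
      mul4 (mul4 q (mul4 u (mul4 q (mul4 u u)))) (mul4 (mul4 u u) (mul4 q u)) = one4 := by
  decide +kernel

theorem transv : ∀ m, mul4 m (mul4 m m) = one4 → act m (1, 0) = (1, 0) → m ≠ one4 →
    ∀ n, mul4 n (mul4 n n) = one4 → act n (1, 0) = (1, 0) → n ≠ one4 →
    n = m ∨ n = mul4 m m := by decide +kernel

theorem transv_flip : ∀ m, mul4 m (mul4 m m) = one4 → act m (1, 0) = (1, 0) →
    mul4 dT (mul4 m dT) = mul4 m m ∧ mul4 dR (mul4 m dR) = mul4 m m := by decide +kernel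

theorem transv_move : ∀ m, mul4 m (mul4 m m) = one4 → act m (1, 0) = (1, 0) → m ≠ one4 →
    ∀ v : ZMod 3 × ZMod 3, v.2 ≠ 0 →
      (act m v = (v.1 + 1, v.2) ∨ act m v = (v.1 + 2, v.2)) := by decide +kernel

theorem inv_cent : ∀ s, mul4 s s = one4 → act s (1, 0) = (2, 0) →
    ∀ y, mul4 y (mul4 y y) = one4 → act y (1, 0) = (1, 0) → y ≠ one4 →
    mul4 s (mul4 y s) = mul4 y y → (act s (0, 1)).2 = 1 := by decide +kernel

theorem inv_low : ∀ y, mul4 y (mul4 y y) = one4 → act y (0, 1) = (0, 1) → y ≠ one4 →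
    ∀ w, mul4 w (mul4 w w) = one4 → act w (0, 1) = (0, 1) →
    ∀ s, mul4 s s = one4 → mul4 s (mul4 y s) = mul4 y y → mul4 s (mul4 w s) = mul4 w w := by
  decide +kernel

theorem conj_threes : ∀ u, mul4 u (mul4 u u) = one4 → u ≠ one4 → ∀ x ∈ threes, x ≠ one4 →
    ∃ h, det4 h ≠ 0 ∧ (mul4 h u = mul4 x h ∨ mul4 h (mul4 u u) = mul4 x h) := by decide +kernel

theorem sl_words : ∀ m, det4 m = 1 →
    ∃ a ∈ threes, ∃ b ∈ threes, ∃ c ∈ threes, m = mul4 a (mul4 b c) := by decide +kernel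

theorem det_refl : ∀ m, mul4 m m = one4 → m ≠ one4 → m ≠ neg4 → ∀ n, det4 n ≠ 0 →
    det4 n = 1 ∨ det4 (mul4 n m) = 1 := by decide +kernel

theorem inv_det : ∀ n, det4 n ≠ 0 → ∀ m, mul4 m n = one4 → det4 m ≠ 0 := by decide +kernel

end M4Facts

variable {G : Type*} [Group G]

/-- Coordinates on `H = O : GL(2,3)`. -/
structure Frame (H O : Subgroup G) where
  ρ : H →* GL (Fin 2) (ZMod 3)
  vec : ZMod 3 × ZMod 3 → G
  le : O ≤ H
  mem_ker : ∀ h : H, ρ h = 1 ↔ (h : G) ∈ O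
  surj : Function.Surjective ρ
  vec_mem : ∀ v, vec v ∈ O
  vec_inj : Function.Injective vec
  vec_surj : ∀ x ∈ O, ∃ v, vec v = x
  vec_add : ∀ v w, vec (v + w) = vec v * vec w
  conj : ∀ (h : H) v, (h : G) * vec v * (h : G)⁻¹ = vec (act (q4 (ρ h)) v)

namespace Frame

variable {H O : Subgroup G} (F : Frame H O)

/-- The quadruple of an element. -/
noncomputable def m (x : G) : M4 := by
  classical
  exact if h : x ∈ H then q4 (F.ρ ⟨x, h⟩) else one4

theorem m_eq {x : G} (h : x ∈ H) : F.m x = q4 (F.ρ ⟨x, h⟩) := by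
  classical
  simp [m, h]

theorem m_mul {x y : G} (hx : x ∈ H) (hy : y ∈ H) : F.m (x * y) = mul4 (F.m x) (F.m y) := by
  rw [F.m_eq (H.mul_mem hx hy), F.m_eq hx, F.m_eq hy, ← q4_mul, ← map_mul]
  rfl

theorem m_one : F.m 1 = one4 := by
  rw [F.m_eq H.one_mem, ← q4_one]
  congr 1
  exact map_one F.ρ

theorem m_det {x : G} (hx : x ∈ H) : det4 (F.m x) ≠ 0 := by
  rw [F.m_eq hx, det4_q4]
  exact ((F.ρ ⟨x, hx⟩).isUnit.map Matrix.detMonoidHom).ne_zero

theorem m_one_iff {x : G} (hx : x ∈ H) : F.m x = one4 ↔ x ∈ O := by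
  rw [F.m_eq hx, ← q4_one, q4_injective.eq_iff]
  exact F.mem_ker _

theorem conj_vec {x : G} (hx : x ∈ H) (v : ZMod 3 × ZMod 3) :
    x * F.vec v * x⁻¹ = F.vec (act (F.m x) v) := by
  rw [F.m_eq hx]; exact F.conj ⟨x, hx⟩ v

theorem vec_zero : F.vec (0, 0) = 1 := by
  have h := F.vec_add (0, 0) (0, 0)
  simp only [Prod.mk_add_mk, add_zero] at h
  exact (mul_eq_left.1 h.symm)

theorem vec_eq_one {v : ZMod 3 × ZMod 3} : F.vec v = 1 ↔ v = (0, 0) :=
  ⟨fun h => F.vec_inj (h.trans F.vec_zero.symm), fun h => h ▸ F.vec_zero⟩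

theorem vec_comm (v w : ZMod 3 × ZMod 3) : F.vec v * F.vec w = F.vec w * F.vec v := by
  rw [← F.vec_add, ← F.vec_add, add_comm]

theorem mem_comm (F : Frame H O) {x y : G} (hx : x ∈ O) (hy : y ∈ O) : x * y = y * x := by
  obtain ⟨v, rfl⟩ := F.vec_surj x hx
  obtain ⟨w, rfl⟩ := F.vec_surj y hy
  exact F.vec_comm v w

theorem vec_inv (v : ZMod 3 × ZMod 3) : (F.vec v)⁻¹ = F.vec (-v) := by
  refine inv_eq_of_mul_eq_one_right ?_
  rw [← F.vec_add, add_neg_cancel]
  exact F.vec_zero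

theorem cube (F : Frame H O) {x : G} (hx : x ∈ O) : x * x * x = 1 := by
  obtain ⟨v, rfl⟩ := F.vec_surj x hx
  rw [← F.vec_add, ← F.vec_add, F.vec_eq_one]
  have h3 : ∀ v : ZMod 3 × ZMod 3, v + v + v = (0, 0) := by decide
  exact h3 v

theorem two_three (F : Frame H O) {x : G} (hx : x ∈ O) (h2 : x * x = 1) : x = 1 := by
  have h := F.cube hx
  rwa [h2, one_mul] at h

theorem conj_mem (F : Frame H O) {x y : G} (hx : x ∈ H) (hy : y ∈ O) : x * y * x⁻¹ ∈ O := by
  obtain ⟨v, rfl⟩ := F.vec_surj y hy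
  rw [F.conj_vec hx]; exact F.vec_mem _

theorem exists_lift {a : M4} (ha : det4 a ≠ 0) : ∃ x ∈ H, F.m x = a := by
  obtain ⟨g, rfl⟩ := exists_q4 ha
  obtain ⟨⟨x, hx⟩, rfl⟩ := F.surj g
  exact ⟨x, hx, F.m_eq hx⟩

theorem m_ext {x : G} (hx : x ∈ H) {a b c d : ZMod 3}
    (h1 : x * F.vec (1, 0) * x⁻¹ = F.vec (a, c)) (h2 : x * F.vec (0, 1) * x⁻¹ = F.vec (b, d)) :
    F.m x = (a, b, c, d) := by
  rw [F.conj_vec hx] at h1 h2
  have e1 := F.vec_inj h1
  have e2 := F.vec_inj h2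
  simp only [act, mul_one, mul_zero, add_zero, zero_add, Prod.mk.injEq] at e1 e2
  exact Prod.ext e1.1 (Prod.ext e2.1 (Prod.ext e1.2 e2.2))

theorem act_of_fix {x : G} (hx : x ∈ H) {v : ZMod 3 × ZMod 3} (h : x * F.vec v = F.vec v * x) :
    act (F.m x) v = v :=
  F.vec_inj (by rw [← F.conj_vec hx, h, mul_inv_cancel_right])

theorem fix_of_act {x : G} (hx : x ∈ H) {v : ZMod 3 × ZMod 3} (h : act (F.m x) v = v) :
    x * F.vec v = F.vec v * x := by
  have e := F.conj_vec hx v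
  rw [h] at e
  exact mul_inv_eq_iff_eq_mul.1 e

theorem m_inv_inv {x : G} (hx : x ∈ H) : mul4 (F.m x⁻¹) (F.m x) = one4 := by
  rw [← F.m_mul (H.inv_mem hx) hx, inv_mul_cancel, F.m_one]

theorem m_eq_iff {x y : G} (hx : x ∈ H) (hy : y ∈ H) : F.m x = F.m y ↔ x * y⁻¹ ∈ O := by
  rw [F.m_eq hx, F.m_eq hy, q4_injective.eq_iff, ← F.mem_ker ⟨x * y⁻¹, H.mul_mem hx (H.inv_mem hy)⟩]
  rw [show (⟨x * y⁻¹, H.mul_mem hx (H.inv_mem hy)⟩ : H) = ⟨x, hx⟩ * ⟨y, hy⟩⁻¹ from rfl, map_mul,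
    map_inv, mul_inv_eq_one]

section Minus

variable {t : G} (ht : t ∈ H) (hm : F.m t = neg4) (htt : t * t = 1)
include ht hm htt

/-- The central element inverts `O`. -/
theorem minus_conj {y : G} (hy : y ∈ O) : t * y * t = y⁻¹ := by
  obtain ⟨v, rfl⟩ := F.vec_surj y hy
  have e := F.conj_vec ht v
  rw [inv_eq_of_mul_eq_one_right htt, hm] at e
  rw [e, F.vec_inv]
  congr 1
  exact (by decide : ∀ v, act neg4 v = -v) v

theorem minus_fixed {y : G} (hy : y ∈ O) (h : y * t = t * y) : y = 1 := by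
  have e := F.minus_conj ht hm htt hy
  rw [← h, mul_assoc, htt, mul_one] at e
  exact F.two_three hy (mul_eq_one_iff_eq_inv.2 e)

/-- Lifts commuting with the central element are unique. -/
theorem minus_unique {x y : G} (hx : x ∈ H) (hy : y ∈ H) (hxt : x * t = t * x) (hyt : y * t = t * y)
    (h : F.m x = F.m y) : x = y :=
  mul_inv_eq_one.1 (F.minus_fixed ht hm htt ((F.m_eq_iff hx hy).1 h)
    ((show Commute x t from hxt).mul_left (show Commute y t from hyt).inv_left).eq)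

theorem minus_lift {a : M4} (ha : det4 a ≠ 0) : ∃ x ∈ H, x * t = t * x ∧ F.m x = a := by
  obtain ⟨h, hh, rfl⟩ := F.exists_lift ha
  have hth : t * h * t ∈ H := H.mul_mem (H.mul_mem ht hh) ht
  have e : F.m (t * h * t) = F.m h := by
    rw [F.m_mul (H.mul_mem ht hh) ht, F.m_mul ht hh, hm]
    have : ∀ a : M4, mul4 (mul4 neg4 a) neg4 = a := by decide +kernel
    exact this _
  set o := t * h * t * h⁻¹ with ho
  have hoO : o ∈ O := (F.m_eq_iff hth hh).1 e
  have hcO : o * o ∈ O := O.mul_mem hoO hoO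
  have hcH : o * o ∈ H := F.le hcO
  refine ⟨o * o * h, H.mul_mem hcH hh, ?_, ?_⟩
  · have e1 : t * (o * o * h) * t = o * o * h := by
      calc t * (o * o * h) * t = (t * o * t) * (t * o * t) * (t * h * t) := by
            rw [show (t * o * t) * (t * o * t) * (t * h * t) = t * o * (t * t) * o * (t * t) * h * t by
              group, htt, mul_one, mul_one]
            group
        _ = o⁻¹ * o⁻¹ * (o * h) := by
            rw [F.minus_conj ht hm htt hoO, ho, inv_mul_cancel_right]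
        _ = (o * o * o) * o⁻¹ * h := by rw [F.cube hoO]; group
        _ = o * o * h := by group
    calc o * o * h * t = (t * (o * o * h) * t) * t := by rw [e1]
      _ = t * (o * o * h) := by rw [mul_assoc (t * (o * o * h)), htt, mul_one]
  · rw [F.m_mul hcH hh, (F.m_one_iff hcH).2 hcO]
    have : ∀ a : M4, mul4 one4 a = a := by decide +kernel
    exact this _

end Minus

/-- A lift of minus the identity of order two. -/
theorem exists_minus : ∃ t ∈ H, F.m t = neg4 ∧ t * t = 1 := by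
  obtain ⟨h, hh, e⟩ := F.exists_lift (a := neg4) (by decide)
  have h2 : h * h ∈ O := (F.m_one_iff (H.mul_mem hh hh)).1 (by rw [F.m_mul hh hh, e]; decide)
  refine ⟨h * h * h, H.mul_mem (H.mul_mem hh hh) hh, ?_, ?_⟩
  · rw [F.m_mul (H.mul_mem hh hh) hh, F.m_mul hh hh, e]; decide
  · calc h * h * h * (h * h * h) = (h * h) * (h * h) * (h * h) := by group
      _ = 1 := F.cube h2

end Frame

/-- Construction of coordinates. -/
theorem exists_frame [Finite G] {H O : Subgroup G} (hle : O ≤ H)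
    (hn : ∀ h ∈ H, ∀ x ∈ O, h * x * h⁻¹ ∈ O) (h9 : Nat.card O = 9) (hH : Nat.card H = 432)
    (h3 : ∀ x ∈ O, x * x * x = 1) (hc : ∀ x ∈ O, ∀ y ∈ O, x * y = y * x)
    (hself : ∀ h ∈ H, (∀ x ∈ O, h * x = x * h) → h ∈ O) {e₁ e₂ : G} (he₁ : e₁ ∈ O) (he₂ : e₂ ∈ O)
    (h₁ : e₁ ≠ 1) (h₂ : e₂ ∉ zpowers e₁) :
    ∃ F : Frame H O, F.vec (1, 0) = e₁ ∧ F.vec (0, 1) = e₂ := by
  classical
  have hp : ∀ {e}, e ∈ O → ∀ a b : ZMod 3, e ^ (a + b).val = e ^ a.val * e ^ b.val := by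
    intro e he a b
    have h3' : e ^ 3 = 1 := by rw [pow_succ, pow_two]; exact h3 e he
    rw [← pow_add, ← Nat.mod_add_div (a.val + b.val) 3, pow_add, pow_mul, h3', one_pow, mul_one,
      ZMod.val_add]
  let vec : ZMod 3 × ZMod 3 → G := fun v => e₁ ^ v.1.val * e₂ ^ v.2.val
  have hmem : ∀ v, vec v ∈ O := fun v => O.mul_mem (O.pow_mem he₁ _) (O.pow_mem he₂ _)
  have hadd : ∀ v w, vec (v + w) = vec v * vec w := by
    intro v w
    simp only [vec, Prod.fst_add, Prod.snd_add, hp he₁, hp he₂]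
    rw [(show Commute e₂ e₁ from hc _ he₂ _ he₁).pow_pow _ _ |>.mul_mul_mul_comm]
  have hzero : vec 0 = 1 := by simp [vec]
  have hneg : ∀ v, vec (-v) = (vec v)⁻¹ := fun v => by
    refine eq_inv_of_mul_eq_one_left ?_
    rw [← hadd, neg_add_cancel, hzero]
  have hker : ∀ v, vec v = 1 → v = 0 := by
    rintro ⟨a, b⟩ h
    change e₁ ^ a.val * e₂ ^ b.val = 1 at h
    have h2 : e₂ ^ b.val ∈ zpowers e₁ := by
      rw [eq_inv_of_mul_eq_one_right h]; exact inv_mem (pow_mem (mem_zpowers e₁) _)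
    have hb : b = 0 := by
      by_contra hb
      apply h₂
      rcases ((by decide : ∀ c : ZMod 3, c ≠ 0 → c.val = 1 ∨ c.val = 2) b hb) with e | e <;> rw [e] at h2
      · rwa [pow_one] at h2
      · have := mul_mem h2 h2
        rwa [show e₂ ^ 2 * e₂ ^ 2 = e₂ * e₂ * e₂ * e₂ by
          rw [pow_two]; group, h3 _ he₂, one_mul] at this
    subst hb
    rw [ZMod.val_zero, pow_zero, mul_one] at h
    have ha : a = 0 := by
      by_contra ha
      apply h₁
      rcases ((by decide : ∀ c : ZMod 3, c ≠ 0 → c.val = 1 ∨ c.val = 2) a ha) with e | e <;> rw [e] at h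
      · rwa [pow_one] at h
      · have := h3 _ he₁
        rwa [← pow_two, h, one_mul] at this
    subst ha; rfl
  have hinj : Function.Injective vec := fun v w h => by
    refine sub_eq_zero.1 (hker _ ?_)
    rw [sub_eq_add_neg, hadd, hneg, h, mul_inv_cancel]
  have hsurj : ∀ x ∈ O, ∃ v, vec v = x := by
    have hb : Function.Bijective (fun v => (⟨vec v, hmem v⟩ : O)) :=
      (Nat.bijective_iff_injective_and_card _).2
        ⟨fun v w h => hinj (congrArg Subtype.val h), by rw [h9]; simp⟩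
    intro x hx
    obtain ⟨v, hv⟩ := hb.2 ⟨x, hx⟩
    exact ⟨v, congrArg Subtype.val hv⟩
  let co : G → ZMod 3 × ZMod 3 := fun x => if hx : x ∈ O then (hsurj x hx).choose else 0
  have hco : ∀ x ∈ O, vec (co x) = x := fun x hx => by
    simp only [co, dif_pos hx]; exact (hsurj x hx).choose_spec
  let mm : H → M4 := fun h =>
    ((co (h * e₁ * (h : G)⁻¹)).1, (co (h * e₂ * (h : G)⁻¹)).1, (co (h * e₁ * (h : G)⁻¹)).2,
      (co (h * e₂ * (h : G)⁻¹)).2)
  have hv10 : vec (1, 0) = e₁ := by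
    show e₁ ^ 1 * e₂ ^ 0 = e₁
    rw [pow_one, pow_zero, mul_one]
  have hv01 : vec (0, 1) = e₂ := by
    show e₁ ^ 0 * e₂ ^ 1 = e₂
    rw [pow_one, pow_zero, one_mul]
  have hconj : ∀ (h : H) v, (h : G) * vec v * (h : G)⁻¹ = vec (act (mm h) v) := by
    intro h v
    let ψ : ZMod 3 × ZMod 3 → ZMod 3 × ZMod 3 := fun v => co ((h : G) * vec v * (h : G)⁻¹)
    have hψ : ∀ v, vec (ψ v) = (h : G) * vec v * (h : G)⁻¹ := fun v => hco _ (hn _ h.2 _ (hmem v))
    have hψa : ∀ v w, ψ (v + w) = ψ v + ψ w := fun v w => hinj (by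
      rw [hψ, hadd, hadd, hψ, hψ]; group)
    let ψ' : ZMod 3 × ZMod 3 →+ ZMod 3 × ZMod 3 := AddMonoidHom.mk' ψ hψa
    rw [← hψ v]
    congr 1
    have e : v = v.1.val • ((1, 0) : ZMod 3 × ZMod 3) + v.2.val • ((0, 1) : ZMod 3 × ZMod 3) := by
      revert v; decide
    show ψ' v = _
    conv_lhs => rw [e]
    rw [map_add, map_nsmul, map_nsmul]
    show v.1.val • co (h * vec (1, 0) * (h : G)⁻¹) + v.2.val • co (h * vec (0, 1) * (h : G)⁻¹) = _
    rw [hv10, hv01]
    simp only [mm]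
    generalize co (h * e₁ * (h : G)⁻¹) = p
    generalize co (h * e₂ * (h : G)⁻¹) = p'
    revert v p p'
    decide +kernel
  have hdet : ∀ h, det4 (mm h) ≠ 0 := fun h => M4Facts.det_of_inj _ fun v hv => hker v (by
    have := hconj h v
    rw [hv, show vec (0, 0) = 1 from hzero] at this
    exact conj_eq_one_iff.1 this)
  have hex : ∀ h, ∃ g : GL (Fin 2) (ZMod 3), q4 g = mm h := fun h => exists_q4 (hdet h)
  choose ρ₀ hρ₀ using hex
  have hext : ∀ a b : M4, (∀ v, act a v = act b v) → a = b := fun a b h => by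
    have e1 := h (1, 0)
    have e2 := h (0, 1)
    simp only [act, mul_one, mul_zero, add_zero, zero_add, Prod.mk.injEq] at e1 e2
    exact Prod.ext e1.1 (Prod.ext e2.1 (Prod.ext e1.2 e2.2))
  let ρ : H →* GL (Fin 2) (ZMod 3) := MonoidHom.mk' ρ₀ fun h k => q4_injective (hext _ _ fun v => by
    refine hinj ?_
    rw [hρ₀, ← hconj, q4_mul, M4Facts.act_mul, hρ₀, hρ₀, ← hconj, ← hconj, Subgroup.coe_mul]
    group)
  have hker' : ∀ h : H, ρ h = 1 ↔ (h : G) ∈ O := by
    intro h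
    have hq : ρ h = 1 ↔ mm h = one4 := by
      rw [← q4_injective.eq_iff, q4_one]; exact Eq.congr_left (hρ₀ h)
    rw [hq]
    constructor
    · intro e
      refine hself _ h.2 fun x hx => ?_
      obtain ⟨v, rfl⟩ := hsurj x hx
      have := hconj h v
      rw [e, show act one4 v = v by simp [act, one4]] at this
      exact mul_inv_eq_iff_eq_mul.1 this
    · intro hO
      refine hext _ _ fun v => hinj ?_
      rw [← hconj, show act one4 v = v by simp [act, one4], hc _ hO _ (hmem v), mul_inv_cancel_right]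
  have hρsurj : Function.Surjective ρ := by
    rw [← MonoidHom.range_eq_top]
    refine eq_top_of_le_card _ ?_
    have hk : Nat.card ρ.ker = 9 := by
      rw [← h9, ← Nat.card_congr (subgroupOfEquivOfLe hle).toEquiv]
      congr
      ext h
      rw [MonoidHom.mem_ker, mem_subgroupOf]
      exact hker' h
    have h1 := Subgroup.card_mul_index ρ.ker
    rw [hk, hH, index_ker] at h1
    haveI : Fact (Nat.Prime 3) := ⟨Nat.prime_three⟩
    have h48 : Nat.card (GL (Fin 2) (ZMod 3)) = 48 := by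
      rw [Matrix.card_GL_field]; simp [Fin.prod_univ_two]
    rw [h48]
    omega
  exact ⟨⟨ρ, vec, hle, hker', hρsurj, hmem, hinj, hsurj, hadd, fun h v => by
    rw [hconj]; congr; exact (hρ₀ h).symm⟩, hv10, hv01⟩

/-- A fixed-point-free action of `3²` on a group of order prime to three is trivial. -/
theorem trivial_of_fpf [Finite G] {H O : Subgroup G} (F : Frame H O) (N : Subgroup G)
    (hnorm : ∀ e ∈ O, ∀ x ∈ N, e * x * e⁻¹ ∈ N) (h3 : ¬ 3 ∣ Nat.card N)
    (hfix : ∀ e ∈ O, e ≠ 1 → ∀ x ∈ N, x * e = e * x → x = 1) : N = ⊥ := by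
  classical
  -- an element without fixed points gives a trivial orbit product
  have key : ∀ e ∈ O, e ≠ 1 → ∀ x ∈ N, x * (e * x * e⁻¹) * (e * (e * x * e⁻¹) * e⁻¹) = 1 := by
    intro e he he1 x hx
    let f : N → N := fun y => ⟨(y : G)⁻¹ * (e * y * e⁻¹), N.mul_mem (N.inv_mem y.2) (hnorm e he _ y.2)⟩
    have hf : Function.Injective f := by
      intro y z h
      have h' : (y : G)⁻¹ * (e * y * e⁻¹) = (z : G)⁻¹ * (e * z * e⁻¹) := congrArg Subtype.val h
      refine Subtype.ext (mul_inv_eq_one.1 (hfix e he he1 _ (N.mul_mem z.2 (N.inv_mem y.2)) ?_)).symm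
      calc (z : G) * (y : G)⁻¹ * e = (z : G) * ((y : G)⁻¹ * (e * y * e⁻¹)) * e * (y : G)⁻¹ := by group
        _ = e * ((z : G) * (y : G)⁻¹) := by rw [h']; group
    obtain ⟨⟨y, hy⟩, hyx⟩ := (Finite.injective_iff_surjective.1 hf) ⟨x, hx⟩
    have hy' : y⁻¹ * (e * y * e⁻¹) = x := congrArg Subtype.val hyx
    rw [← hy']
    calc _ = y⁻¹ * (e * e * e) * y * (e * e * e)⁻¹ := by group
      _ = 1 := by rw [F.cube he, mul_one, inv_mul_cancel, inv_one, mul_one]
  let c : ZMod 3 × ZMod 3 → G → G := fun v x => F.vec v * x * (F.vec v)⁻¹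
  have hcN : ∀ v, ∀ x ∈ N, c v x ∈ N := fun v x hx => hnorm _ (F.vec_mem v) x hx
  have hcc : ∀ v w x, c v (c w x) = c (v + w) x := fun v w x => by
    simp only [c, F.vec_add]; group
  have hline : ∀ v, v ≠ (0, 0) → ∀ x ∈ N, x * c v x * c (v + v) x = 1 := by
    intro v hv x hx
    rw [← hcc]
    exact key _ (F.vec_mem v) (fun h => hv (F.vec_eq_one.1 h)) x hx
  have hc0 : ∀ x, c (0, 0) x = x := fun x => by simp [c, F.vec_zero]
  have hcomm : ∀ v, ∀ x ∈ N, Commute x (c v x) := by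
    intro v x hx
    by_cases hv : v = (0, 0)
    · rw [hv, hc0]
    have h1 := hline v hv x hx
    have h2 := hline (v + v) ((by decide : ∀ v : ZMod 3 × ZMod 3, v ≠ (0, 0) → v + v ≠ (0, 0)) v hv) x hx
    rw [(by decide : ∀ v : ZMod 3 × ZMod 3, v + v + (v + v) = v) v] at h2
    have e1 : c v x * c (v + v) x = x⁻¹ := eq_inv_of_mul_eq_one_right (by rw [← mul_assoc]; exact h1)
    have e3 : c v x = x⁻¹ * (c (v + v) x)⁻¹ := by rw [← e1]; group
    have e2 : c v x = (c (v + v) x)⁻¹ * x⁻¹ := by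
      refine eq_inv_of_mul_eq_one_right h2 |>.trans ?_
      rw [mul_inv_rev]
    have e4 : Commute x⁻¹ (c (v + v) x)⁻¹ := e3.symm.trans e2
    rw [e2]
    exact ((Commute.inv_left_iff.1 e4).symm.symm.mul_right ((Commute.refl x).inv_right))
  refine (eq_bot_iff_forall _).2 fun x hx => ?_
  have hco : ∀ v w, Commute (c v x) (c w x) := fun v w => by
    have h := (hcomm (-v + w) x hx).map (MulAut.conj (F.vec v)).toMonoidHom
    simp only [MulEquiv.coe_toMonoidHom, MulAut.conj_apply] at h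
    change Commute (c v x) (c v (c (-v + w) x)) at h
    rwa [hcc, add_neg_cancel_left] at h
  have L2 := hline (0, 1) (by decide) x hx
  have L3 := hline (1, 1) (by decide) x hx
  have L4 := hline (1, 2) (by decide) x hx
  have R1 := hline (1, 0) (by decide) (c (0, 1) x) (hcN _ x hx)
  have R2 := hline (1, 0) (by decide) (c (0, 2) x) (hcN _ x hx)
  simp only [hcc, Prod.mk_add_mk] at L2 L3 L4 R1 R2
  change x * c (0, 1) x * c (0, 2) x = 1 at L2
  change x * c (1, 1) x * c (2, 2) x = 1 at L3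
  change x * c (1, 2) x * c (2, 1) x = 1 at L4
  change c (0, 1) x * c (1, 1) x * c (2, 1) x = 1 at R1
  change c (0, 2) x * c (1, 2) x * c (2, 2) x = 1 at R2
  have r1 : c (1, 1) x * c (2, 1) x = (c (0, 1) x)⁻¹ :=
    eq_inv_of_mul_eq_one_right (by rw [← mul_assoc]; exact R1)
  have r2 : c (1, 2) x * c (2, 2) x = (c (0, 2) x)⁻¹ :=
    eq_inv_of_mul_eq_one_right (by rw [← mul_assoc]; exact R2)
  have l2 : c (0, 1) x * c (0, 2) x = x⁻¹ :=
    eq_inv_of_mul_eq_one_right (by rw [← mul_assoc]; exact L2)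
  have hx3 : x * x * x = 1 := by
    calc x * x * x = x * x * ((c (1, 1) x * c (2, 1) x) * (c (1, 2) x * c (2, 2) x)) := by
          rw [r1, r2, ← mul_inv_rev, (hco (0, 2) (0, 1)).eq, l2, inv_inv]
      _ = x * x * ((c (1, 1) x * c (2, 2) x) * (c (1, 2) x * c (2, 1) x)) := by
          congr 1
          calc c (1, 1) x * c (2, 1) x * (c (1, 2) x * c (2, 2) x)
              = c (1, 1) x * (c (2, 1) x * (c (1, 2) x * c (2, 2) x)) := mul_assoc _ _ _
            _ = c (1, 1) x * (c (1, 2) x * c (2, 2) x * c (2, 1) x) := by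
              rw [((hco (2, 1) (1, 2)).mul_right (hco (2, 1) (2, 2))).eq]
            _ = c (1, 1) x * (c (2, 2) x * c (1, 2) x * c (2, 1) x) := by
              rw [(hco (1, 2) (2, 2)).eq]
            _ = c (1, 1) x * c (2, 2) x * (c (1, 2) x * c (2, 1) x) := by simp only [mul_assoc]
      _ = (x * (c (1, 1) x * c (2, 2) x)) * (x * (c (1, 2) x * c (2, 1) x)) := by
          rw [((hcomm (1, 1) x hx).mul_right (hcomm (2, 2) x hx)).mul_mul_mul_comm]
      _ = 1 := by rw [← mul_assoc x, ← mul_assoc x (c (1, 2) x), L3, L4, mul_one]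
  have hd : orderOf x ∣ 3 := orderOf_dvd_of_pow_eq_one (by rw [pow_succ, pow_two]; exact hx3)
  rcases (Nat.dvd_prime Nat.prime_three).1 hd with h | h
  · exact orderOf_eq_one_iff.1 h
  · exact absurd (h ▸ orderOf_dvd_natCard N hx) h3

end Cfsg.Agent.Lib.ThreeLocal66
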