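import Cfsg.Agent.Lib.ThreeLocal66.Core
import Cfsg.Agent.Lib.Spectrum.SelfThree.Main
import Cfsg.Agent.Lib.SmallGroups.Order168

/-!
# The kernel of the three-local data in `C(t)`

`C(t) / ⟨t⟩` has a self-centralising element of order three; of the possible shapes only
"nilpotent by `S₃`" survives, because `t` is not a square in `C(t, r)`.
-/

namespace Cfsg.Agent.Lib.ThreeLocal66

open Subgroup
open Cfsg.Agent.Lib.Spectrum

/-- The three-local hypotheses. -/
structure Hyp {G : Type*} [Group G] (t r u q g : G) : Prop where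
  tt : t * t = 1
  t_ne : t ≠ 1
  rr : r * r = 1
  rt : r * t = t * r
  uuu : u * u * u = 1
  u_ne : u ≠ 1
  ut : u * t = t * u
  rur : r * u * r = u⁻¹
  gtr : g * t * g⁻¹ = r
  grt : g * r * g⁻¹ = t
  qq : q * q = t
  rqr : r * q * r = q⁻¹
  qv : q * (u * q * u⁻¹) = (u * q * u⁻¹) * q * t
  qn : q * (u * q * u⁻¹) * (u⁻¹ * q * u) = 1
  gu : (g * u * g⁻¹) * u = u * (g * u * g⁻¹)
  cu : ∀ x, x * t = t * x → x * u = u * x →
    ∃ e, (e = 1 ∨ e = u ∨ e = u⁻¹) ∧ (x = e ∨ x = e * t)
  hQ : ∀ a, a * a = 1 → a * u = u * a → a * (g * u * g⁻¹) = (g * u * g⁻¹) * a → a = 1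
  pairW : ∀ w, (w = (g * u * g⁻¹) * u ∨ w = (g * u * g⁻¹)⁻¹ * u) → ∀ a b, a * a = 1 → b * b = 1 →
    a ≠ 1 → b ≠ 1 → a * b = b * a → a * w = w * a → b * w = w * b → a = b

/-- A subgroup of order four. -/
theorem four_dvd {Q : Type*} [Group Q] [Finite Q] {a b : Q} (ha : a * a = 1) (hb : b * b = 1)
    (hab : a * b = b * a) (ha1 : a ≠ 1) (hb1 : b ≠ 1) (hne : a ≠ b) : 4 ∣ Nat.card Q := by
  classical
  let V : Subgroup Q :=
    { carrier := {x | x = 1 ∨ x = a ∨ x = b ∨ x = a * b}
      one_mem' := Or.inl rfl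
      mul_mem' := by
        intro x y hx hy
        have e1 : a * (a * b) = b := by rw [← mul_assoc, ha, one_mul]
        have e2 : b * a = a * b := hab.symm
        have e3 : b * (a * b) = a := by rw [← mul_assoc, e2, mul_assoc, hb, mul_one]
        have e4 : a * b * a = b := by rw [mul_assoc, e2, e1]
        have e5 : a * b * b = a := by rw [mul_assoc, hb, mul_one]
        have e6 : a * b * (a * b) = 1 := by rw [mul_assoc, e3, ha]
        rcases hx with rfl | rfl | rfl | rfl <;> rcases hy with rfl | rfl | rfl | rfl <;>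
          simp [ha, hb, e1, e2, e3, e4, e5, e6]
      inv_mem' := by
        intro x hx
        have ia : a⁻¹ = a := inv_eq_of_mul_eq_one_right ha
        have ib : b⁻¹ = b := inv_eq_of_mul_eq_one_right hb
        rcases hx with rfl | rfl | rfl | rfl <;> simp [ia, ib, hab] }
  have hcard : Nat.card V = 4 := by
    have hset : (V : Set Q) = ↑({1, a, b, a * b} : Finset Q) := by
      ext x; simp [V]
    have hab1 : a * b ≠ 1 := fun h => hne (by
      calc a = a * (b * b) := by rw [hb, mul_one]
        _ = b := by rw [← mul_assoc, h, one_mul])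
    calc Nat.card V = (V : Set Q).ncard := Nat.card_coe_set_eq _
      _ = _ := by
          rw [hset, Set.ncard_coe_finset]
          rw [Finset.card_insert_of_notMem (by simp [ha1.symm, hb1.symm, hab1.symm]),
            Finset.card_insert_of_notMem (by simp [hne, hb1]),
            Finset.card_insert_of_notMem (by simp [ha1]), Finset.card_singleton]
  exact hcard ▸ card_subgroup_dvd_card V

/-- Facts on `A₅`. -/
theorem sixty_facts {Q : Type*} [Group Q] [Finite Q] [IsSimpleGroup Q] (h : Nat.card Q = 60) :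
    (∀ P : Q, P ^ 4 = 1 → P * P = 1) ∧
      ∀ R : Q, R * R = 1 → R ≠ 1 → ∃ a : Q, a ^ 3 = 1 ∧ a ≠ 1 ∧ (a * R) ^ 3 = 1 ∧ a * R ≠ 1 := by
  obtain ⟨φ⟩ := Cfsg.Agent.S0494.result h
  have h1 : ∀ P : alternatingGroup (Fin 5), P ^ 4 = 1 → P * P = 1 := by decide +kernel
  have h2 : ∀ R : alternatingGroup (Fin 5), R * R = 1 → R ≠ 1 →
      ∃ a : alternatingGroup (Fin 5), a ^ 3 = 1 ∧ a ≠ 1 ∧ (a * R) ^ 3 = 1 ∧ a * R ≠ 1 := by
    decide +kernel
  refine ⟨fun P hP => φ.injective ?_, fun R hR hR1 => ?_⟩
  · rw [map_mul, map_one]; exact h1 _ (by rw [← map_pow, hP, map_one])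
  · obtain ⟨a, e1, e2, e3, e4⟩ := h2 (φ R) (by rw [← map_mul, hR, map_one])
      (fun e => hR1 (φ.injective (e.trans (map_one φ).symm)))
    refine ⟨φ.symm a, by rw [← map_pow, e1, map_one], ?_, φ.injective ?_, ?_⟩
    · exact fun e => e2 (by rw [← φ.apply_symm_apply a, e, map_one])
    · rw [map_pow, map_mul, φ.apply_symm_apply, e3, map_one]
    · exact fun e => e4 (by rw [← φ.apply_symm_apply a, ← map_mul, e, map_one])

namespace Hyp

variable {G : Type*} [Group G] {t r u q g : G} (H : Hyp t r u q g)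
include H

theorem qt : q * t = t * q := by rw [← H.qq, mul_assoc]

theorem q_four : q ^ 4 = 1 := by
  rw [show (4 : ℕ) = 2 * 2 from rfl, pow_mul, pow_two, pow_two, H.qq, H.tt]

theorem q_not_one : q ≠ 1 := fun h => H.t_ne (by rw [← H.qq, h, one_mul])

/-- The involution is not a square in `C(t, r)`. -/
theorem not_square {p : G} (hpt : p * t = t * p) (hpr : p * r = r * p) (hp : p * p = t) :
    ∃ p' : G, p' * t = t * p' ∧ p' * r = r * p' ∧ p' * p' = r := by
  refine ⟨g * p * g⁻¹, ?_, ?_, ?_⟩
  · rw [← H.grt, show g * p * g⁻¹ * (g * r * g⁻¹) = g * (p * r) * g⁻¹ by group, hpr]; group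
  · rw [← H.gtr, show g * p * g⁻¹ * (g * t * g⁻¹) = g * (p * t) * g⁻¹ by group, hpt]; group
  · rw [show g * p * g⁻¹ * (g * p * g⁻¹) = g * (p * p) * g⁻¹ by group, hp, H.gtr]

variable [Finite G]

omit H [Finite G] in
/-- The involution in its centraliser. -/
def tC (t : G) : Subgroup.centralizer ({t} : Set G) := ⟨t, mem_centralizer_singleton_iff.2 rfl⟩

omit [Finite G] in
theorem mem_T {x : Subgroup.centralizer ({t} : Set G)} : x ∈ zpowers (tC t) ↔ Tt t (x : G) := by
  let t' := tC t
  let T := zpowers t'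
  constructor
  · rintro ⟨k, rfl⟩
    rcases Int.even_or_odd k with ⟨l, rfl⟩ | ⟨l, rfl⟩
    · left
      show ((t' ^ (l + l) : Subgroup.centralizer ({t} : Set G)) : G) = 1
      rw [zpow_add, ← (Commute.refl t').mul_zpow, show t' * t' = 1 from Subtype.ext H.tt, one_zpow]
      rfl
    · right
      show ((t' ^ (2 * l + 1) : Subgroup.centralizer ({t} : Set G)) : G) = t
      rw [zpow_add_one, zpow_mul, show t' ^ (2 : ℤ) = 1 from Subtype.ext (by
        simp only [zpow_two, Subgroup.coe_mul, Subgroup.coe_one]; exact H.tt), one_zpow, one_mul]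
      rfl
  · rintro (h | h)
    · rw [show x = 1 from Subtype.ext h]; exact T.one_mem
    · rw [show x = t' from Subtype.ext h]; exact mem_zpowers t'

omit [Finite G] in
theorem normal_T : (zpowers (tC t)).Normal := by
  refine ⟨fun a ha x => ?_⟩
  have hx : (x : G) * t = t * x := mem_centralizer_singleton_iff.1 x.2
  rw [H.mem_T] at ha ⊢
  rcases ha with h | h
  · left; show (x : G) * (a : G) * (x : G)⁻¹ = 1; rw [h, mul_one, mul_inv_cancel]
  · right; show (x : G) * (a : G) * (x : G)⁻¹ = t; rw [h, hx, mul_inv_cancel_right]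

omit [Finite G] in
theorem sc [(zpowers (tC t)).Normal] (hu : u ∈ Subgroup.centralizer ({t} : Set G)) :
    SelfThree.SC (QuotientGroup.mk' (zpowers (tC t)) ⟨u, hu⟩) := by
  set X : Subgroup G := Subgroup.centralizer {t} with hX
  have hXm : ∀ x : X, (x : G) * t = t * x := fun x => mem_centralizer_singleton_iff.1 x.2
  let T : Subgroup X := zpowers (tC t)
  let u' : X := ⟨u, hu⟩
  let π : X →* X ⧸ T := QuotientGroup.mk' T
  have hπ : ∀ x : X, π x = 1 ↔ Tt t (x : G) := fun x =>
    (QuotientGroup.eq_one_iff x).trans H.mem_T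
  have hπe : ∀ x y : X, π x = π y ↔ Tt t ((x : G)⁻¹ * y) := fun x y =>
    (QuotientGroup.eq (a := x) (b := y)).trans H.mem_T
  set U : X ⧸ T := π u' with hU
  have hu3 : u ^ 3 = 1 := by rw [pow_succ, pow_two]; exact H.uuu
  show SelfThree.SC U
  have : Fact (Nat.Prime 3) := ⟨Nat.prime_three⟩
  refine ⟨orderOf_eq_prime ?_ ?_, ?_⟩
  · rw [hU, ← map_pow, show u' ^ 3 = 1 from Subtype.ext (by simpa using hu3), map_one]
  · intro h
    rcases (hπ u').1 h with h | h
    · exact H.u_ne h
    · apply H.u_ne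
      have h' : u = t := h
      calc u = (u * u) * u := by rw [h', H.tt, one_mul]
        _ = 1 := H.uuu
  · intro y hy
    obtain ⟨x, rfl⟩ := QuotientGroup.mk'_surjective T y
    rw [hU, ← map_mul, ← map_mul, hπe] at hy
    have hy' : (x : G) * u = u * x := by
      rcases hy with h | h
      · exact inv_mul_eq_one.1 h
      · exfalso
        have e : u * (x : G) = (x : G) * (u * t) := by
          rw [← mul_assoc]; exact inv_mul_eq_iff_eq_mul.1 h
        have e2 : (x : G) * (u * t) * (x : G)⁻¹ = u := by rw [← e, mul_inv_cancel_right]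
        have e3 := conj_pow (i := 3) (a := (x : G)) (b := u * t)
        rw [e2, hu3, (show Commute u t from H.ut).mul_pow, hu3, one_mul,
          show t ^ 3 = t by rw [pow_succ, pow_two, H.tt, one_mul]] at e3
        exact H.t_ne (conj_eq_one_iff.1 e3.symm)
    obtain ⟨e, he, hx⟩ := H.cu _ (hXm x) hy'
    have hex : ∃ e' : X, (e' : G) = e ∧ π e' ∈ zpowers U := by
      rcases he with h | h | h
      · exact ⟨1, h.symm, by rw [map_one]; exact one_mem _⟩
      · exact ⟨u', h.symm, mem_zpowers _⟩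
      · exact ⟨u'⁻¹, h.symm, by rw [map_inv]; exact inv_mem (mem_zpowers _)⟩
    obtain ⟨e', he', hmem⟩ := hex
    rwa [show π x = π e' from ((hπe e' x).2 (by
      rcases hx with h | h
      · exact Or.inl (by rw [he', h, inv_mul_cancel])
      · exact Or.inr (by rw [he', h, inv_mul_cancel_left]))).symm]

/-- The kernel of `C(t) → S₃`. -/
theorem exists_kernel : ∃ N : Subgroup G,
    N ≤ Subgroup.centralizer {t} ∧
    (∀ x, x * t = t * x → ∀ p ∈ N, x * p * x⁻¹ ∈ N) ∧
    t ∈ N ∧ q ∈ N ∧ r ∉ N ∧ u ∉ N ∧ ¬ 3 ∣ Nat.card N ∧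
    Nat.card (Subgroup.centralizer {t}) = 6 * Nat.card N ∧ Group.IsNilpotent N := by
  classical
  set X : Subgroup G := Subgroup.centralizer {t} with hX
  have hmX : ∀ {x : G}, x * t = t * x → x ∈ X := fun h =>
    mem_centralizer_singleton_iff.2 h
  have hXm : ∀ x : X, (x : G) * t = t * x := fun x => mem_centralizer_singleton_iff.1 x.2
  let t' : X := ⟨t, hmX rfl⟩
  let r' : X := ⟨r, hmX H.rt⟩
  let u' : X := ⟨u, hmX H.ut⟩
  let q' : X := ⟨q, hmX H.qt⟩
  let T : Subgroup X := zpowers t'
  have hTmem : ∀ {x : X}, x ∈ T ↔ Tt t (x : G) := H.mem_T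
  have hTn : T.Normal := H.normal_T
  let π : X →* X ⧸ T := QuotientGroup.mk' T
  have hπ : ∀ x : X, π x = 1 ↔ Tt t (x : G) := fun x =>
    (QuotientGroup.eq_one_iff x).trans hTmem
  have hπe : ∀ x y : X, π x = π y ↔ Tt t ((x : G)⁻¹ * y) := fun x y =>
    (QuotientGroup.eq (a := x) (b := y)).trans hTmem
  set U : X ⧸ T := π u' with hU
  set R : X ⧸ T := π r' with hR
  set Q : X ⧸ T := π q' with hQ
  have hu3 : u ^ 3 = 1 := by rw [pow_succ, pow_two]; exact H.uuu
  have : (zpowers (tC t)).Normal := H.normal_T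
  have hsc : SelfThree.SC U := H.sc (hmX H.ut)
  have hR2 : R * R = 1 := by rw [hR, ← map_mul, show r' * r' = 1 from Subtype.ext H.rr, map_one]
  have hRU : R * U * R = U⁻¹ := by
    rw [hR, hU, ← map_mul, ← map_mul, ← map_inv]
    exact congrArg π (Subtype.ext H.rur)
  have hQ2 : Q * Q = 1 := by rw [hQ, ← map_mul, hπ]; exact Or.inr H.qq
  have hRQ : R * Q = Q * R := by
    rw [hR, hQ, ← map_mul, ← map_mul, hπe]
    right
    show (r * q)⁻¹ * (q * r) = t
    have hri : r⁻¹ = r := inv_eq_of_mul_eq_one_right H.rr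
    calc (r * q)⁻¹ * (q * r) = q⁻¹ * (r * q * r) := by rw [mul_inv_rev, hri]; group
      _ = (q * q)⁻¹ := by rw [H.rqr, mul_inv_rev]
      _ = t := by rw [H.qq]; exact inv_eq_of_mul_eq_one_right H.tt
  have hQV : Q * (U * Q * U⁻¹) = U * Q * U⁻¹ * Q := by
    rw [hQ, hU, ← map_inv, ← map_mul, ← map_mul, ← map_mul, ← map_mul, hπe]
    right
    show (q * (u * q * u⁻¹))⁻¹ * (u * q * u⁻¹ * q) = t
    rw [H.qv, mul_inv_rev, inv_mul_cancel_right]
    exact inv_eq_of_mul_eq_one_right H.tt
  have hQN : Q * (U * Q * U⁻¹) * (U⁻¹ * Q * U) = 1 := by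
    rw [hQ, hU, ← map_inv, ← map_mul, ← map_mul, ← map_mul, ← map_mul, ← map_mul, ← map_mul, hπ]
    exact Or.inl H.qn
  clear_value U R Q
  -- the quotient by a kernel
  have hsmall : ∀ (K : Subgroup (X ⧸ T)) [K.Normal], ¬ 3 ∣ Nat.card K →
      ¬ 4 ∣ Nat.card ((X ⧸ T) ⧸ K) → Q ∈ K := by
    intro K _ hK h4
    by_contra hne
    let f : (X ⧸ T) →* (X ⧸ T) ⧸ K := QuotientGroup.mk' K
    have hz : SelfThree.SC (f U) := hsc.quotient hK
    have h1 : f Q ≠ 1 := fun h => hne ((QuotientGroup.eq_one_iff Q).1 h)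
    have h2 : f Q * f Q = 1 := by rw [← map_mul, hQ2, map_one]
    refine h4 (four_dvd h2 (b := f U * f Q * (f U)⁻¹) ?_ ?_ h1 ?_ fun h => ?_)
    · rw [show f U * f Q * (f U)⁻¹ * (f U * f Q * (f U)⁻¹) = f U * (f Q * f Q) * (f U)⁻¹ by group,
        h2, mul_one, mul_inv_cancel]
    · rw [← map_inv, ← map_mul, ← map_mul, ← map_mul, ← map_mul, hQV]
    · exact fun h => h1 (conj_eq_one_iff.1 h)
    · have hcomm : f Q * f U = f U * f Q := by
        nth_rewrite 1 [h]; group
      rcases hz.cases_mem (hz.cent _ hcomm) with e | e | e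
      · exact h1 e
      all_goals
        apply hz.ne_one
        have e' := hz.pow_three
        rw [pow_succ, pow_two] at e'
      · rw [← e, h2, one_mul] at e'; rw [← e]; exact e'
      · have e2 : (f U)⁻¹ * (f U)⁻¹ = 1 := by rw [← e]; exact h2
        have e3 : f U * f U = 1 := by rw [← inv_inj, mul_inv_rev, e2, inv_one]
        rw [e3, one_mul] at e'; exact e'
  have hnot3 : ¬ ∃ K : Subgroup (X ⧸ T), K.Normal ∧ ¬ 3 ∣ Nat.card K ∧ K.index = 3 := by
    rintro ⟨K, hKn, hK3, hK⟩
    have hRK : R ∈ K := by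
      have h1 : R ^ K.index ∈ K := pow_index_mem K R
      rwa [hK, pow_succ, pow_two, hR2, one_mul] at h1
    have hUK : U ∈ K := by
      have h2 : R * U * R * U⁻¹ ∈ K := by
        rw [mul_assoc (R * U), mul_assoc R]
        refine K.mul_mem hRK ?_
        rw [← mul_assoc]
        exact hKn.conj_mem R hRK U
      rw [hRU, ← pow_two, inv_pow] at h2
      have h3 : U ^ 3 ∈ K := by rw [hsc.pow_three]; exact K.one_mem
      have := K.mul_mem h2 h3
      rwa [pow_succ U 2, inv_mul_cancel_left] at this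
    exact hK3 (hsc.ord ▸ orderOf_dvd_natCard K hUK)
  rcases SelfThree.shape hsc with ⟨K, hKn, hK3, hKi⟩ | ⟨K, hKn, hK2, h60, hsimp⟩ | ⟨h168, hsimp⟩
  · rcases hKi with hKi | hKi
    · exact absurd ⟨K, hKn, hK3, hKi⟩ hnot3
    have hQK : Q ∈ K := hsmall K hK3 (by
      rw [← index_eq_card, hKi]; norm_num)
    let N' : Subgroup X := K.comap π
    have hN'3 : ¬ 3 ∣ Nat.card N' := by
      rw [show Nat.card N' = Nat.card T * Nat.card K from
        QuotientGroup.card_preimage_mk T (K : Set (X ⧸ T)), Nat.prime_three.dvd_mul]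
      refine not_or.2 ⟨?_, hK3⟩
      rw [Nat.card_zpowers, show orderOf t' = 2 from orderOf_eq_prime
        (Subtype.ext (by simpa [pow_two] using H.tt)) fun h => H.t_ne (congrArg Subtype.val h)]
      norm_num
    have hUK : U ∉ K := fun h => hK3 (hsc.ord ▸ orderOf_dvd_natCard K h)
    have hRK : R ∉ K := by
      intro h
      apply hUK
      have h1 : U * R * U⁻¹ * R ∈ K := K.mul_mem (hKn.conj_mem R h U) h
      rw [mul_assoc (U * R) U⁻¹ R] at h1
      have h2 : U⁻¹ * R = R * U := by
        rw [← hRU, mul_assoc (R * U) R R, hR2, mul_one]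
      rw [h2, ← mul_assoc, mul_assoc U R R, hR2, mul_one] at h1
      have h3 : U ^ 3 ∈ K := by rw [hsc.pow_three]; exact K.one_mem
      have := K.mul_mem (K.inv_mem h1) h3
      rwa [← pow_two, pow_succ U 2, inv_mul_cancel_left] at this
    subst hQ hR hU
    refine ⟨N'.map X.subtype, map_subtype_le _, ?_, ?_, ⟨q', hQK, rfl⟩, ?_, ?_, ?_, ?_, ?_⟩
    · rintro x hx _ ⟨p, hp, rfl⟩
      exact ⟨⟨x, hmX hx⟩ * p * ⟨x, hmX hx⟩⁻¹,
        (Normal.comap hKn π).conj_mem p hp _, rfl⟩
    · refine ⟨t', ?_, rfl⟩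
      show π t' ∈ K
      rw [(hπ t').2 (Or.inr rfl)]; exact K.one_mem
    · rintro ⟨x, hx, e⟩
      exact hRK (show π r' ∈ K by rw [← show x = r' from Subtype.ext e]; exact hx)
    · rintro ⟨x, hx, e⟩
      exact hUK (show π u' ∈ K by rw [← show x = u' from Subtype.ext e]; exact hx)
    · rw [card_map_of_injective X.subtype_injective]; exact hN'3
    · rw [card_map_of_injective X.subtype_injective, ← Subgroup.card_mul_index N', mul_comm 6]
      congr 1
      show (K.comap π).index = 6
      rw [index_comap_of_surjective _ (QuotientGroup.mk'_surjective T), hKi]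
    · -- nilpotent: central by nilpotent
      have hnil : Group.IsNilpotent K :=
        SelfThree.Inv.isNilpotent hsc ⟨hK3, by rw [normalizer_eq_top]; exact mem_top _⟩
      let f : N' →* K := (π.comp N'.subtype).codRestrict K fun x => x.2
      have hker : f.ker ≤ center N' := by
        intro x hx
        have h1 : π (x : X) = 1 := congrArg Subtype.val hx
        rw [mem_center_iff]
        intro y
        refine Subtype.ext (Subtype.ext ?_)
        rcases (hπ _).1 h1 with h | h
        · show ((y : X) : G) * ((x : X) : G) = ((x : X) : G) * ((y : X) : G)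
          rw [h]; simp
        · show ((y : X) : G) * ((x : X) : G) = ((x : X) : G) * ((y : X) : G)
          rw [h]; exact hXm _
      have : Group.IsNilpotent N' := Subgroup.isNilpotent_of_ker_le_center f hker
      exact Group.nilpotent_of_surjective
        (N'.equivMapOfInjective X.subtype X.subtype_injective).toMonoidHom (MulEquiv.surjective _)
  · -- `A₅`: `r` would be a square modulo `K`
    exfalso
    have hK3 : ¬ 3 ∣ Nat.card K := by
      have : Fact (Nat.Prime 2) := ⟨Nat.prime_two⟩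
      intro h
      have : Fact (Nat.Prime 3) := ⟨Nat.prime_three⟩
      obtain ⟨x, hx⟩ := exists_prime_orderOf_dvd_card' (G := K) 3 h
      have h2 : x ^ 2 = 1 := Subtype.ext (by simpa using hK2 _ x.2)
      have := orderOf_dvd_of_pow_eq_one h2
      rw [hx] at this; norm_num at this
    obtain ⟨hno4, hfind⟩ := sixty_facts h60
    have hK2' : ∀ k ∈ K, k * k = 1 := fun k hk => by rw [← pow_two]; exact hK2 k hk
    have hcomm : ∀ a ∈ K, ∀ b ∈ K, a * b = b * a := by
      intro a ha b hb
      have e : ∀ c ∈ K, c⁻¹ = c := fun c hc => inv_eq_of_mul_eq_one_right (hK2' c hc)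
      calc a * b = (a * b)⁻¹ := (e _ (K.mul_mem ha hb)).symm
        _ = b * a := by rw [mul_inv_rev, e a ha, e b hb]
    let f : (X ⧸ T) →* (X ⧸ T) ⧸ K := QuotientGroup.mk' K
    have hUK : U ∉ K := fun h => hK3 (hsc.ord ▸ orderOf_dvd_natCard K h)
    have hz : SelfThree.SC (f U) := hsc.quotient hK3
    have hfU : f U ≠ 1 := fun h => hUK ((QuotientGroup.eq_one_iff U).1 h)
    have hfR2 : f R * f R = 1 := by rw [← map_mul, hR2, map_one]
    have hfR : f R ≠ 1 := by
      intro h
      apply hfU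
      have e : f R * f U * f R = (f U)⁻¹ := by rw [← map_mul, ← map_mul, hRU, map_inv]
      rw [h, one_mul, mul_one] at e
      have e2 := hz.pow_three
      rw [pow_succ, pow_two] at e2
      nth_rewrite 1 [e] at e2
      change (f U)⁻¹ * f U * f U = 1 at e2
      rwa [inv_mul_cancel, one_mul] at e2
    -- `Q` lies in `K`
    have hQK : Q ∈ K := by
      by_contra hne
      have h1 : f Q ≠ 1 := fun h => hne ((QuotientGroup.eq_one_iff Q).1 h)
      have h2 : f Q * f Q = 1 := by rw [← map_mul, hQ2, map_one]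
      set V := f U * f Q * (f U)⁻¹ with hV
      have hV2 : V * V = 1 := by
        rw [hV, show f U * f Q * (f U)⁻¹ * (f U * f Q * (f U)⁻¹) = f U * (f Q * f Q) * (f U)⁻¹ by
          group, h2, mul_one, mul_inv_cancel]
      have hQV' : f Q * V = V * f Q := by
        rw [hV, ← map_inv, ← map_mul, ← map_mul, ← map_mul, ← map_mul, hQV]
      have hRQ' : f R * f Q = f Q * f R := by rw [← map_mul, ← map_mul, hRQ]
      have hW : f R * V * f R = f Q * V := by
        have hn : f Q * V * ((f U)⁻¹ * f Q * f U) = 1 := by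
          rw [hV, ← map_inv, ← map_mul, ← map_mul, ← map_mul, ← map_mul, ← map_mul, ← map_mul, hQN,
            map_one]
        have e1 : f R * V * f R = (f U)⁻¹ * f Q * f U := by
          have e0 : f R * f U = (f U)⁻¹ * f R := by
            rw [← map_mul, ← map_inv, ← map_mul, ← hRU, mul_assoc (R * U), hR2, mul_one]
          have e0' : (f U)⁻¹ * f R = f R * f U := e0.symm
          calc f R * V * f R = (f R * f U) * f Q * ((f U)⁻¹ * f R) := by rw [hV]; group
            _ = (f U)⁻¹ * (f R * f Q * f R) * f U := by rw [e0']; nth_rewrite 1 [e0]; group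
            _ = _ := by rw [hRQ', mul_assoc (f Q), hfR2, mul_one]
        have h3 : ((f U)⁻¹ * f Q * f U) * ((f U)⁻¹ * f Q * f U) = 1 := by
          rw [show (f U)⁻¹ * f Q * f U * ((f U)⁻¹ * f Q * f U) = (f U)⁻¹ * (f Q * f Q) * f U by
            group, h2, mul_one, inv_mul_cancel]
        rw [e1]
        calc (f U)⁻¹ * f Q * f U = (f Q * V * ((f U)⁻¹ * f Q * f U)) * ((f U)⁻¹ * f Q * f U) := by
              rw [hn, one_mul]
          _ = _ := by rw [mul_assoc (f Q * V), h3, mul_one]
      -- an element of order four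
      set P := f R * V with hP
      have hP4 : P ^ 4 = 1 := by
        have e : P * P = f Q := by
          calc P * P = (f R * V * f R) * V := by rw [hP]; group
            _ = f Q := by rw [hW, mul_assoc, hV2, mul_one]
        rw [show (4 : ℕ) = 2 * 2 from rfl, pow_mul, pow_two, pow_two, e, h2]
      refine h1 ?_
      have e : P * P = f Q := by
        calc P * P = (f R * V * f R) * V := by rw [hP]; group
          _ = f Q := by rw [hW, mul_assoc, hV2, mul_one]
      rw [← e]; exact hno4 P hP4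
    -- a conjugate of `q` centralised by `r`
    obtain ⟨A, hA3, hA1, hAR3, hAR1⟩ := hfind (f R) hfR2 hfR
    obtain ⟨a, rfl⟩ := QuotientGroup.mk'_surjective K A
    have hrel : ∀ g : X ⧸ T, (f g) ^ 3 = 1 → f g ≠ 1 → ∀ k ∈ K,
        k * (g * k * g⁻¹) * (g * (g * k * g⁻¹) * g⁻¹) = 1 :=
      fun g h3 h1 k hk => SelfThree.relation_of_image hsc hK3 hcomm (g := g) h3 h1 hk
    -- fixed points of `R` are invariant under `a`
    have hfix : ∀ k ∈ K, R * k * R = k → R * (a * k * a⁻¹) * R = a * k * a⁻¹ := by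
      intro k hk hRk
      have e1 := hrel a hA3 hA1 k hk
      have e2 := hrel (a * R) (by rw [map_mul]; exact hAR3) (by rw [map_mul]; exact hAR1) k hk
      have hRi : R⁻¹ = R := inv_eq_of_mul_eq_one_right hR2
      have e3 : a * R * k * (a * R)⁻¹ = a * k * a⁻¹ := by
        calc a * R * k * (a * R)⁻¹ = a * (R * k * R) * a⁻¹ := by rw [mul_inv_rev, hRi]; group
          _ = _ := by rw [hRk]
      rw [e3] at e2
      have e4 : a * R * (a * k * a⁻¹) * (a * R)⁻¹ = a * (a * k * a⁻¹) * a⁻¹ := by
        have h5 : k * (a * k * a⁻¹) * (a * R * (a * k * a⁻¹) * (a * R)⁻¹) =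
            k * (a * k * a⁻¹) * (a * (a * k * a⁻¹) * a⁻¹) := by
          rw [e1]
          exact e2
        exact mul_left_cancel h5
      rw [mul_inv_rev, hRi] at e4
      calc R * (a * k * a⁻¹) * R = a⁻¹ * (a * R * (a * k * a⁻¹) * (R * a⁻¹)) * a := by group
        _ = a * k * a⁻¹ := by rw [e4]; group
    have hk0 : R * Q * R = Q := by rw [hRQ, mul_assoc, hR2, mul_one]
    have hk1 := hfix Q hQK hk0
    have hk2 := hfix _ (hKn.conj_mem Q hQK a) hk1
    have hsum := hrel a hA3 hA1 Q hQK
    -- lift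
    subst hQ hR hU
    obtain ⟨a₀, rfl⟩ := QuotientGroup.mk'_surjective T a
    let p : Fin 3 → X := ![q', a₀ * q' * a₀⁻¹, a₀ * (a₀ * q' * a₀⁻¹) * a₀⁻¹]
    have hp2 : ∀ i, (p i : G) * (p i : G) = t := by
      have hc : ∀ (x y : X), (y : G) * y = t →
          ((x * y * x⁻¹ : X) : G) * ((x * y * x⁻¹ : X) : G) = t := by
        intro x y hy
        show (x : G) * y * (x : G)⁻¹ * ((x : G) * y * (x : G)⁻¹) = t
        rw [show (x : G) * y * (x : G)⁻¹ * ((x : G) * y * (x : G)⁻¹) =
          (x : G) * ((y : G) * y) * (x : G)⁻¹ by group, hy, hXm x, mul_inv_cancel_right]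
      intro i
      fin_cases i
      · exact H.qq
      · exact hc _ _ H.qq
      · exact hc _ _ (hc _ _ H.qq)
    have hpr : ∀ i, π r' * π (p i) * π r' = π (p i) := by
      intro i
      fin_cases i
      · exact hk0
      · simp only [p, Matrix.cons_val_one, Matrix.cons_val_zero, Fin.mk_one, map_mul, map_inv]
        exact hk1
      · simp only [p, Fin.reduceFinMk, Matrix.cons_val, map_mul, map_inv]
        exact hk2
    -- one of them is centralised by `r`
    have hex : ∃ i, r * (p i : G) = (p i : G) * r := by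
      by_contra hall
      simp only [not_exists] at hall
      have hflip : ∀ i, r * (p i : G) * r = (p i : G) * t := by
        intro i
        have h := hpr i
        rw [← map_mul, ← map_mul, hπe] at h
        rcases h with h | h
        · exfalso
          refine hall i ?_
          have e : r * (p i : G) * r = p i := inv_mul_eq_one.1 h
          calc r * (p i : G) = r * (p i : G) * r * r := by rw [mul_assoc (r * (p i : G)), H.rr, mul_one]
            _ = _ := by rw [e]
        · have h' : (r * (p i : G) * r)⁻¹ * p i = t := h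
          calc r * (p i : G) * r = (p i : G) * ((r * (p i : G) * r)⁻¹ * p i)⁻¹ := by group
            _ = (p i : G) * t := by rw [h', inv_eq_of_mul_eq_one_right H.tt]
      have hprod : Tt t ((p 0 : G) * p 1 * p 2) := by
        have : π (p 0 * p 1 * p 2) = 1 := by
          rw [map_mul, map_mul]
          simp only [p, Matrix.cons_val_zero, Matrix.cons_val_one, Matrix.cons_val, map_mul, map_inv]
          exact hsum
        exact (hπ _).1 this
      have e1 : r * ((p 0 : G) * p 1 * p 2) * r = (p 0 : G) * p 1 * p 2 := by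
        rcases hprod with h | h <;> rw [h]
        · rw [mul_one, H.rr]
        · rw [H.rt, mul_assoc, H.rr, mul_one]
      have e2 : r * ((p 0 : G) * p 1 * p 2) * r = (p 0 : G) * p 1 * p 2 * t := by
        calc r * ((p 0 : G) * p 1 * p 2) * r
            = (r * (p 0 : G) * r) * (r * (p 1 : G) * r) * (r * (p 2 : G) * r) := by
              rw [show r * (p 0 : G) * r * (r * (p 1 : G) * r) * (r * (p 2 : G) * r) =
                r * (p 0 : G) * (r * r) * (p 1 : G) * (r * r) * (p 2 : G) * r by group, H.rr]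
              group
          _ = (p 0 : G) * (t * (p 1 : G)) * t * ((p 2 : G) * t) := by
              rw [hflip, hflip, hflip]; group
          _ = (p 0 : G) * (p 1 : G) * (t * t) * ((p 2 : G) * t) := by
              rw [← hXm (p 1)]; group
          _ = _ := by rw [H.tt, mul_one]; group
      exact H.t_ne (mul_eq_left.1 (e2.symm.trans e1))
    obtain ⟨i, hi⟩ := hex
    obtain ⟨p', hp't, hp'r, hp'2⟩ := H.not_square (hXm (p i)) hi.symm (hp2 i)
    let P' : X := ⟨p', hmX hp't⟩
    have e : f (π P') * f (π P') = f (π r') := by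
      rw [← map_mul, ← map_mul, show P' * P' = r' from Subtype.ext hp'2]
    refine hfR ?_
    rw [← e]
    refine hno4 _ ?_
    rw [show (4 : ℕ) = 2 * 2 from rfl, pow_mul, pow_two, pow_two, e, hfR2]
  · -- order 168: all involutions are conjugate
    exfalso
    subst hQ hR hU
    have hQ1 : π q' ≠ 1 := by
      intro h
      rcases (hπ q').1 h with h | h
      · exact H.q_not_one h
      · apply H.t_ne
        have h' : q = t := h
        rw [← H.qq, h', H.tt]
    have hR1 : π r' ≠ 1 := by
      intro h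
      have := hRU
      rw [h, one_mul, mul_one] at this
      have e2 := hsc.pow_three
      rw [pow_succ, pow_two] at e2
      nth_rewrite 1 [this] at e2
      exact hsc.ne_one (by rwa [inv_mul_cancel, one_mul] at e2)
    have ho : ∀ z : X ⧸ T, z * z = 1 → z ≠ 1 → orderOf z = 2 := fun z h h1 =>
      orderOf_eq_prime (by rw [pow_two]; exact h) h1
    obtain ⟨c, hc⟩ := isConj_iff.1
      ((SmallGroups.Order168.two_classes h168).2.2.1 _ _ (ho _ hQ2 hQ1) (ho _ hR2 hR1))
    obtain ⟨c₀, rfl⟩ := QuotientGroup.mk'_surjective T c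
    rw [← map_inv, ← map_mul, ← map_mul, hπe] at hc
    have hconj : ((c₀ * q' * c₀⁻¹ : X) : G) * (c₀ * q' * c₀⁻¹ : X) = t := by
      show (c₀ : G) * q * (c₀ : G)⁻¹ * ((c₀ : G) * q * (c₀ : G)⁻¹) = t
      rw [show (c₀ : G) * q * (c₀ : G)⁻¹ * ((c₀ : G) * q * (c₀ : G)⁻¹) =
        (c₀ : G) * (q * q) * (c₀ : G)⁻¹ by group, H.qq, hXm c₀, mul_inv_cancel_right]
    generalize ((c₀ * q' * c₀⁻¹ : X) : G) = w at hc hconj
    have hw : w = r ∨ w = r * t := by
      rcases hc with h | h
      · exact Or.inl (inv_mul_eq_one.1 h)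
      · right
        have h' : w⁻¹ * r = t := h
        calc w = r * (w⁻¹ * r)⁻¹ := by group
          _ = r * t := by rw [h', inv_eq_of_mul_eq_one_right H.tt]
    rcases hw with h | h <;> rw [h] at hconj
    · exact H.t_ne (hconj.symm.trans H.rr)
    · refine H.t_ne (hconj.symm.trans ?_)
      rw [mul_assoc, ← mul_assoc t, ← H.rt, mul_assoc r t t, H.tt, mul_one, H.rr]

end Hyp

end Cfsg.Agent.Lib.ThreeLocal66
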