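import Cfsg.Agent.Lib.ThreeLocal66.Count

/-!
# The centraliser of `⟨t, r⟩`, transfer elements and the pair bound
-/

namespace Cfsg.Agent.Lib.ThreeLocal66

open Subgroup

variable {G : Type*} [Group G] [Finite G] {t r u q g : G} {P : Subgroup G}

/-- The centraliser of `t` and `r`. -/
def Dg (t r : G) : Subgroup G := Subgroup.centralizer {t} ⊓ Subgroup.centralizer {r}

omit [Finite G] in
theorem mem_Dg {x : G} : x ∈ Dg t r ↔ x * t = t * x ∧ x * r = r * x := by
  simp [Dg, Subgroup.mem_inf, Subgroup.mem_centralizer_singleton_iff]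

omit [Finite G] in
theorem TwoEl.conj {x : G} (h : TwoEl x) (a : G) : TwoEl (a * x * a⁻¹) := by
  obtain ⟨k, hk⟩ := h
  exact ⟨k, by rw [conj_pow, hk, mul_one, mul_inv_cancel]⟩

omit [Finite G] in
theorem TwoEl.of_mem {S : Subgroup G} (hS : IsPGroup 2 S) {x : G} (h : x ∈ S) : TwoEl x := by
  obtain ⟨k, hk⟩ := hS ⟨x, h⟩
  exact ⟨k, by simpa using congrArg Subtype.val hk⟩

omit [Finite G] in
theorem TwoEl.of_sq {x : G} (h : x * x = 1) : TwoEl x := ⟨1, by rw [pow_one, pow_two]; exact h⟩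

/-- Split an element into its two-part and its odd part. -/
theorem mem_of_parts (H : Subgroup G) (x : G)
    (h : ∀ y : G, (∃ m : ℕ, y = x ^ m) → (TwoEl y ∨ Odd (orderOf y)) → y ∈ H) : x ∈ H := by
  obtain ⟨k, m, hm, hx⟩ := Nat.exists_eq_two_pow_mul_odd (orderOf_pos x).ne'
  have h1 : x ^ m ∈ H := by
    refine h _ ⟨m, rfl⟩ (Or.inl ⟨k, ?_⟩)
    rw [← pow_mul, mul_comm, ← hx, pow_orderOf_eq_one]
  have h2 : x ^ (2 ^ k) ∈ H := by
    refine h _ ⟨2 ^ k, rfl⟩ (Or.inr ?_)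
    rw [orderOf_pow_of_dvd (by positivity) (hx ▸ dvd_mul_right _ _), hx, Nat.mul_div_cancel_left _ (by positivity)]
    exact hm
  have hc : Nat.Coprime m (2 ^ k) :=
    (Nat.Coprime.pow_right k (Nat.coprime_two_right.2 hm))
  have hg : x ^ ((Nat.gcd m (2 ^ k) : ℕ) : ℤ) ∈ H := by
    rw [Nat.gcd_eq_gcd_ab, zpow_add, zpow_mul, zpow_mul, zpow_natCast, zpow_natCast]
    exact mul_mem (H.zpow_mem h1 _) (H.zpow_mem h2 _)
  rwa [hc.gcd_eq_one, Nat.cast_one, zpow_one] at hg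

namespace Core

variable (C : Core t r u q g P)
include C

omit [Finite G] in
theorem K_le_Dg : K r P ≤ Dg t r := fun x hx => mem_Dg.2 ⟨C.tP x hx.1, hx.2.symm⟩

omit [Finite G] in
theorem t_memD : t ∈ Dg t r := C.K_le_Dg C.t_memK

omit [Finite G] in
theorem r_memD : r ∈ Dg t r := mem_Dg.2 ⟨C.rt, rfl⟩

omit [Finite G] in
/-- The two-elements of `C(t, r)`. -/
theorem two_Dg {x : G} (hx : x ∈ Dg t r) (h2 : TwoEl x) : x ∈ K r P ∨ r * x ∈ K r P := by
  obtain ⟨hxt, hxr⟩ := mem_Dg.1 hx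
  rcases C.twoD x hxt hxr h2 with h | h
  · exact Or.inl ⟨h, hxr.symm⟩
  · exact Or.inr ⟨h, by rw [mul_assoc r x r, hxr]⟩

omit [Finite G] in
theorem g_normD (x : G) : g * x * g⁻¹ ∈ Dg t r ↔ x ∈ Dg t r := by
  rw [mem_Dg, mem_Dg]
  have h : ∀ a : G, ((g * x * g⁻¹) * (g * a * g⁻¹) = (g * a * g⁻¹) * (g * x * g⁻¹) ↔ x * a = a * x) := by
    intro a
    rw [show (g * x * g⁻¹) * (g * a * g⁻¹) = g * (x * a) * g⁻¹ by group,
      show (g * a * g⁻¹) * (g * x * g⁻¹) = g * (a * x) * g⁻¹ by group]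
    exact ⟨fun e => mul_left_cancel (mul_right_cancel e), fun e => by rw [e]⟩
  have h1 := h t
  have h2 := h r
  rw [C.gtr] at h1
  rw [C.grt] at h2
  rw [h1, h2]
  exact and_comm

omit [Finite G] in
/-- `g²` centralises `t` and `r`. -/
theorem g_sq : g * g ∈ Dg t r := by
  rw [mem_Dg]
  constructor
  · calc g * g * t = g * (g * t * g⁻¹) * g := by group
      _ = (g * r * g⁻¹) * (g * g) := by rw [C.gtr]; group
      _ = t * (g * g) := by rw [C.grt]
  · calc g * g * r = g * (g * r * g⁻¹) * g := by group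
      _ = (g * t * g⁻¹) * (g * g) := by rw [C.grt]; group
      _ = r * (g * g) := by rw [C.gtr]

/-- A central involution of `C(t, r)`. -/
structure Zw (t r z : G) : Prop where
  sq : z * z = 1
  mem : z ∈ Dg t r
  comm : ∀ d ∈ Dg t r, d * z = z * d

omit [Finite G] in
theorem zw_of_K {z : G} (hz : z ∈ K r P) (hc : ∀ k ∈ K r P, k * z = z * k) :
    ∀ d ∈ Dg t r, TwoEl d ∨ Odd (orderOf d) → d * z = z * d := by
  intro d hd h
  rcases h with h | h
  · rcases C.two_Dg hd h with h' | h'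
    · exact hc d h'
    · have e := hc _ h'
      have e2 : r * (d * z) = r * (z * d) := by
        rw [← mul_assoc, e, ← mul_assoc, ← hz.2, mul_assoc]
      exact mul_left_cancel e2
  · exact C.oddC d (mem_Dg.1 hd).1 (mem_Dg.1 hd).2 h z hz.1

theorem Zw.of_K {z : G} (hz : z ∈ K r P) (h2 : z * z = 1) (hc : ∀ k ∈ K r P, k * z = z * k) :
    Zw t r z := by
  refine ⟨h2, C.K_le_Dg hz, fun d hd => ?_⟩
  have : d ∈ Subgroup.centralizer {z} := by
    refine mem_of_parts _ d fun y ⟨m, hm⟩ h => mem_centralizer_singleton_iff.2 ?_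
    exact C.zw_of_K hz hc y (hm ▸ pow_mem hd m) h
  exact mem_centralizer_singleton_iff.1 this

/-- The transfer element: fixes `r` and sends `t` to `b`. -/
theorem exists_v {b : G} (hb : Zw t r b) (hb' : g⁻¹ * b * g ∉ K r P) :
    ∃ v : G, v * t * v⁻¹ = b ∧ v * r * v⁻¹ = r ∧ ∀ x, v * x * v⁻¹ ∈ Dg t r ↔ x ∈ Dg t r := by
  have hD : g⁻¹ * b * g ∈ Dg t r := by
    rw [← C.g_normD, show g * (g⁻¹ * b * g) * g⁻¹ = b by group]
    exact hb.mem
  have h2 : (g⁻¹ * b * g) * (g⁻¹ * b * g) = 1 := by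
    calc (g⁻¹ * b * g) * (g⁻¹ * b * g) = g⁻¹ * (b * b) * g := by group
      _ = 1 := by rw [hb.sq]; group
  have hk := (C.two_Dg hD (TwoEl.of_sq h2)).resolve_left hb'
  have e0 : r * (r * (g⁻¹ * b * g)) = g⁻¹ * b * g := by rw [← mul_assoc, C.rr, one_mul]
  obtain ⟨a, ha, e⟩ := C.conj_of_invol hk.1 (by rw [e0]; exact h2)
  rw [e0] at e
  have e1 : (g * a * g) * t * (g * a * g)⁻¹ = b := by
    calc (g * a * g) * t * (g * a * g)⁻¹ = g * (a * (g * t * g⁻¹) * a⁻¹) * g⁻¹ := by group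
      _ = b := by rw [C.gtr, e]; group
  have e2 : (g * a * g) * r * (g * a * g)⁻¹ = r := by
    calc (g * a * g) * r * (g * a * g)⁻¹ = g * (a * (g * r * g⁻¹) * a⁻¹) * g⁻¹ := by group
      _ = r := by rw [C.grt, C.tP a ha, mul_inv_cancel_right, C.gtr]
  refine ⟨g * a * g, e1, e2, ?_⟩
  set v := g * a * g
  let φ := (MulAut.conj v).toMonoidHom
  have hle : Dg t r ≤ (Dg t r).map φ := by
    intro x hx
    refine ⟨v⁻¹ * x * v, ?_, by simp [φ, mul_assoc]⟩
    refine mem_Dg.2 ⟨?_, ?_⟩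
    · calc v⁻¹ * x * v * t = v⁻¹ * (x * (v * t * v⁻¹)) * v := by group
        _ = v⁻¹ * ((v * t * v⁻¹) * x) * v := by rw [e1, hb.comm x hx]
        _ = _ := by group
    · calc v⁻¹ * x * v * r = v⁻¹ * (x * (v * r * v⁻¹)) * v := by group
        _ = v⁻¹ * ((v * r * v⁻¹) * x) * v := by rw [e2, (mem_Dg.1 hx).2]
        _ = _ := by group
  have heq : Dg t r = (Dg t r).map φ :=
    eq_of_le_of_card_ge hle (by rw [card_map_of_injective (MulAut.conj v).injective])
  intro x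
  conv_lhs => rw [heq]
  exact Subgroup.mem_map_iff_mem (MulAut.conj v).injective

/-- A two-subgroup centralising `t` and an involution outside `P` has order at most `2 n`. -/
theorem pair_bound {S : Subgroup G} (hS : IsPGroup 2 S) (hSt : ∀ y ∈ S, y * t = t * y)
    {p : G} (hpt : p * t = t * p) (hp : p ∉ P) (h2 : p * p = 1) (hSp : ∀ y ∈ S, y * p = p * y) :
    Nat.card S ≤ 2 * Nat.card (K r P) := by
  obtain ⟨e, het, hk'⟩ := C.outside p hpt h2 hp
  have h2' : (e * p * e⁻¹) * (e * p * e⁻¹) = 1 := by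
    rw [show (e * p * e⁻¹) * (e * p * e⁻¹) = e * (p * p) * e⁻¹ by group, h2, mul_one, mul_inv_cancel]
  have e0 : r * (r * (e * p * e⁻¹)) = e * p * e⁻¹ := by rw [← mul_assoc, C.rr, one_mul]
  obtain ⟨a, ha, ea⟩ := C.conj_of_invol hk' (by rw [e0]; exact h2')
  rw [e0] at ea
  set h := a⁻¹ * e with hh
  have hhp : h * p * h⁻¹ = r := by
    calc h * p * h⁻¹ = a⁻¹ * (e * p * e⁻¹) * a := by rw [hh]; group
      _ = r := by rw [← ea]; group
  have hht : h * t * h⁻¹ = t := by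
    have hat : a * t = t * a := C.tP a ha
    calc h * t * h⁻¹ = a⁻¹ * (e * t * e⁻¹) * a := by rw [hh]; group
      _ = t := by rw [het, mul_inv_cancel_right, mul_assoc, ← hat, inv_mul_cancel_left]
  let S' := S.map (MulAut.conj h).toMonoidHom
  have hS' : ∀ z ∈ S', z ∈ K r P ∨ r * z ∈ K r P := by
    rintro _ ⟨y, hy, rfl⟩
    refine C.two_Dg (mem_Dg.2 ⟨?_, ?_⟩) ((TwoEl.of_mem hS hy).conj h)
    · show h * y * h⁻¹ * t = t * (h * y * h⁻¹)
      calc h * y * h⁻¹ * t = h * y * h⁻¹ * (h * t * h⁻¹) := by rw [hht]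
        _ = h * (t * y) * h⁻¹ := by rw [← hSt y hy]; group
        _ = (h * t * h⁻¹) * (h * y * h⁻¹) := by group
        _ = _ := by rw [hht]
    · show h * y * h⁻¹ * r = r * (h * y * h⁻¹)
      calc h * y * h⁻¹ * r = h * y * h⁻¹ * (h * p * h⁻¹) := by rw [hhp]
        _ = h * (p * y) * h⁻¹ := by rw [← hSp y hy]; group
        _ = (h * p * h⁻¹) * (h * y * h⁻¹) := by group
        _ = _ := by rw [hhp]
  rw [← card_map_of_injective (f := (MulAut.conj h).toMonoidHom) (MulAut.conj h).injective (K := S)]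
  let f : K r P × Bool → G := fun x => (bif x.2 then r else 1) * x.1
  have hsub : (S' : Set G) ⊆ Set.range f := by
    intro z hz
    rcases hS' z hz with h | h
    · exact ⟨(⟨z, h⟩, false), one_mul z⟩
    · exact ⟨(⟨_, h⟩, true), by show r * (r * z) = z; rw [← mul_assoc, C.rr, one_mul]⟩
  calc Nat.card S' = (S' : Set G).ncard := Nat.card_coe_set_eq _
    _ ≤ (Set.range f).ncard := Set.ncard_le_ncard hsub (Set.toFinite _)
    _ ≤ Nat.card (K r P × Bool) := by
        rw [← Nat.card_coe_set_eq]; exact Finite.card_range_le f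
    _ = 2 * Nat.card (K r P) := by
        rw [Nat.card_prod, Nat.card_eq_fintype_card (α := Bool), Fintype.card_bool, mul_comm]

end Core

end Cfsg.Agent.Lib.ThreeLocal66
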