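import Cfsg.Agent.Lib.ThreeLocal66.Pairs

/-!
# Elements central modulo `t`, and the case of a closed `u`-orbit in `C(t, r)`

If `b` is a central involution of `C(t, r)` with `b · b^u · b^(u²) = 1`, transferred from `t` by an
element fixing `r`, then `b` is central in `P` modulo `t` and `|C_P(r)| ≤ 4`.
-/

namespace Cfsg.Agent.Lib.ThreeLocal66

open Subgroup

variable {G : Type*} [Group G] [Finite G] {t r u q g : G} {P : Subgroup G}

/-- `b` is central in `P` modulo `t`. -/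
def W (t : G) (P : Subgroup G) (b : G) : Prop := ∀ p ∈ P, Tt t (b * p * b⁻¹ * p⁻¹)

/-- The centraliser of `b` in `P`. -/
def CP (P : Subgroup G) (b : G) : Subgroup G := P ⊓ Subgroup.centralizer {b}

omit [Finite G] in
theorem mem_CP {b x : G} : x ∈ CP P b ↔ x ∈ P ∧ x * b = b * x := by
  simp [CP, Subgroup.mem_inf, Subgroup.mem_centralizer_singleton_iff]

namespace Core

variable (C : Core t r u q g P)
include C

/-- The elements of `P` commuting with `b` modulo `t`. -/
noncomputable def Mod (b : G) (_hb : b ∈ P) : Subgroup G where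
  carrier := {p | p ∈ P ∧ Tt t (b * p * b⁻¹ * p⁻¹)}
  one_mem' := ⟨P.one_mem, Or.inl (by group)⟩
  mul_mem' := by
    rintro x y ⟨hx, hx'⟩ ⟨hy, hy'⟩
    refine ⟨P.mul_mem hx hy, ?_⟩
    have e : b * (x * y) * b⁻¹ * (x * y)⁻¹ =
        (b * x * b⁻¹ * x⁻¹) * (x * (b * y * b⁻¹ * y⁻¹) * x⁻¹) := by group
    rw [e, C.Tt_comm hy' hx, mul_inv_cancel_right]
    exact C.Tt_mul hx' hy'
  inv_mem' := by
    rintro x ⟨hx, hx'⟩
    refine ⟨P.inv_mem hx, ?_⟩
    have e : b * x⁻¹ * b⁻¹ * x⁻¹⁻¹ = x⁻¹ * (b * x * b⁻¹ * x⁻¹)⁻¹ * x := by group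
    rw [e, C.Tt_comm (C.Tt_inv hx') (P.inv_mem hx), inv_mul_cancel_right]
    exact C.Tt_inv hx'

omit [Finite G] in
theorem mem_Mod {b p : G} {hb : b ∈ P} :
    p ∈ C.Mod b hb ↔ p ∈ P ∧ Tt t (b * p * b⁻¹ * p⁻¹) := Iff.rfl

omit [Finite G] in
theorem Mod_u {b p : G} (hb : b ∈ P) (hp : p ∈ C.Mod b hb) : u * p * u⁻¹ ∈ C.Mod b hb :=
  ⟨C.uP p hp.1, C.twist b hb p hp.1 hp.2⟩

/-- A central element modulo `t` has centraliser of index at most two. -/
theorem card_CP_of_W {b : G} (hW : W t P b) : Nat.card P ≤ 2 * Nat.card (CP P b) := by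
  by_cases h : ∀ p ∈ P, p * b = b * p
  · have : CP P b = P := le_antisymm inf_le_left fun p hp => mem_CP.2 ⟨hp, h p hp⟩
    rw [this]; omega
  simp only [not_forall] at h
  obtain ⟨p₀, hp₀, hne⟩ := h
  have hsub : (P : Set G) ⊆ (CP P b : Set G) ∪ (fun x => x * p₀) '' (CP P b : Set G) := by
    intro p hp
    by_cases hpb : p * b = b * p
    · exact Or.inl (mem_CP.2 ⟨hp, hpb⟩)
    have h0 : ∀ x ∈ P, ¬ x * b = b * x → b * x * b⁻¹ = t * x := fun x hx hxb => by
      rcases hW x hx with e | e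
      · exact absurd (by rw [mul_inv_eq_one] at e; nth_rewrite 1 [← e]; group) hxb
      · calc b * x * b⁻¹ = (b * x * b⁻¹ * x⁻¹) * x := by group
          _ = t * x := by rw [e]
    refine Or.inr ⟨p * p₀⁻¹, mem_CP.2 ⟨P.mul_mem hp (P.inv_mem hp₀), ?_⟩, inv_mul_cancel_right p p₀⟩
    have e : b * (p * p₀⁻¹) * b⁻¹ = p * p₀⁻¹ := by
      calc b * (p * p₀⁻¹) * b⁻¹ = (b * p * b⁻¹) * (b * p₀ * b⁻¹)⁻¹ := by group
        _ = t * (p * p₀⁻¹) * t := by rw [h0 p hp hpb, h0 p₀ hp₀ hne, mul_inv_rev, C.t_inv]; group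
        _ = p * p₀⁻¹ := by
          rw [mul_assoc t, C.tP _ (P.mul_mem hp (P.inv_mem hp₀)), ← mul_assoc, C.tt, one_mul]
    calc p * p₀⁻¹ * b = (b * (p * p₀⁻¹) * b⁻¹) * b := by rw [e]
      _ = _ := by group
  calc Nat.card P = (P : Set G).ncard := Nat.card_coe_set_eq _
    _ ≤ ((CP P b : Set G) ∪ (fun x => x * p₀) '' (CP P b : Set G)).ncard :=
        Set.ncard_le_ncard hsub (Set.toFinite _)
    _ ≤ (CP P b : Set G).ncard + ((fun x => x * p₀) '' (CP P b : Set G)).ncard :=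
        Set.ncard_union_le _ _
    _ ≤ (CP P b : Set G).ncard + (CP P b : Set G).ncard :=
        Nat.add_le_add_left (Set.ncard_image_le (Set.toFinite _)) _
    _ = 2 * Nat.card (CP P b) := by rw [← Nat.card_coe_set_eq, two_mul]; rfl

/-- A centraliser of index at most two forces centrality modulo `t`. -/
theorem W_of_card {b : G} (hb : b ∈ P) (h : Nat.card P ≤ 2 * Nat.card (CP P b)) : W t P b := by
  have hle : CP P b ≤ C.Mod b hb := fun x hx =>
    ⟨(mem_CP.1 hx).1, Or.inl (by rw [← (mem_CP.1 hx).2]; group)⟩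
  have hMP : C.Mod b hb ≤ P := fun x hx => hx.1
  intro p hp
  by_contra hnot
  have hpM : p ∉ C.Mod b hb := fun h => hnot h.2
  have hidx : (C.Mod b hb).relIndex P = 2 := by
    have h1 := relIndex_mul_relIndex (⊥ : Subgroup G) (C.Mod b hb) P bot_le hMP
    rw [relIndex_bot_left, relIndex_bot_left] at h1
    have h2 : Nat.card (CP P b) ≤ Nat.card (C.Mod b hb) := card_le_of_le hle
    have h3 : (C.Mod b hb).relIndex P ≠ 1 := fun e => hpM (relIndex_eq_one.1 e hp)
    have h4 : 0 < Nat.card (C.Mod b hb) := Nat.card_pos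
    have h5 : 0 < Nat.card P := Nat.card_pos
    rcases hk : (C.Mod b hb).relIndex P with _ | _ | _ | k
    · rw [hk] at h1; omega
    · exact absurd hk h3
    · rfl
    · rw [hk] at h1; nlinarith
  have hidx' : ((C.Mod b hb).subgroupOf P).index = 2 := hidx
  have hmem : ∀ x ∈ P, ∀ y ∈ P, (x * y ∈ C.Mod b hb ↔ (x ∈ C.Mod b hb ↔ y ∈ C.Mod b hb)) :=
    fun x hx y hy => mul_mem_iff_of_index_two hidx' (a := ⟨x, hx⟩) (b := ⟨y, hy⟩)
  have h1 : u * p * u⁻¹ ∉ C.Mod b hb := fun h => hpM (by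
    have := C.Mod_u hb (C.Mod_u hb h)
    rwa [C.conj_cube] at this)
  have h2 : u⁻¹ * p * u ∉ C.Mod b hb := fun h => hpM (by
    have := C.Mod_u hb h
    rwa [show u * (u⁻¹ * p * u) * u⁻¹ = p by group] at this)
  have h3 : p * (u * p * u⁻¹) * (u⁻¹ * p * u) ∈ C.Mod b hb := by
    rcases C.nrm p hp with e | e <;> rw [e]
    · exact (C.Mod b hb).one_mem
    · exact ⟨C.t_mem, Or.inl (by rw [C.tP b hb, mul_inv_cancel_right, mul_inv_cancel])⟩
  rw [hmem _ (P.mul_mem hp (C.uP p hp)) _ (C.uP' hp), hmem _ hp _ (C.uP p hp)] at h3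
  tauto

omit [Finite G] in
theorem W_conj_u {b : G} (hW : W t P b) : W t P (u * b * u⁻¹) := by
  intro p hp
  have h := C.Tt_conj_u (hW _ (C.uP' hp))
  rwa [show u * (b * (u⁻¹ * p * u) * b⁻¹ * (u⁻¹ * p * u)⁻¹) * u⁻¹ =
    u * b * u⁻¹ * p * (u * b * u⁻¹)⁻¹ * p⁻¹ by group] at h

theorem two_P_card {S : Subgroup G} (hS : IsPGroup 2 S) (hSt : ∀ y ∈ S, y * t = t * y)
    (hr : r ∈ S) : Nat.card S ≤ 2 * Nat.card (S ⊓ P : Subgroup G) := by
  have hsub : (S : Set G) ⊆ ((S ⊓ P : Subgroup G) : Set G) ∪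
      (fun x => x * r) '' ((S ⊓ P : Subgroup G) : Set G) := by
    intro y hy
    by_cases hyP : y ∈ P
    · exact Or.inl ⟨hy, hyP⟩
    have hyr : y * r ∈ S := S.mul_mem hy hr
    refine Or.inr ⟨y * r, ⟨hyr, C.mulR y (hSt y hy) (TwoEl.of_mem hS hy) (TwoEl.of_mem hS hyr) hyP⟩, ?_⟩
    show y * r * r = y
    rw [mul_assoc, C.rr, mul_one]
  calc Nat.card S = (S : Set G).ncard := Nat.card_coe_set_eq _
    _ ≤ _ := Set.ncard_le_ncard hsub (Set.toFinite _)
    _ ≤ _ := Set.ncard_union_le _ _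
    _ ≤ _ := Nat.add_le_add_left (Set.ncard_image_le (Set.toFinite _)) _
    _ = 2 * Nat.card (S ⊓ P : Subgroup G) := by rw [← Nat.card_coe_set_eq, two_mul]; rfl

/-- The extension of a centraliser in `P` by `r`. -/
noncomputable def withR (H : Subgroup G) (hH : ∀ x ∈ H, r * x * r ∈ H) : Subgroup G where
  carrier := {x | x ∈ H ∨ r * x ∈ H}
  one_mem' := Or.inl H.one_mem
  mul_mem' := by
    rintro a b (ha | ha) (hb | hb)
    · exact Or.inl (H.mul_mem ha hb)
    · refine Or.inr ?_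
      have := H.mul_mem (hH a ha) hb
      rwa [show r * a * r * (r * b) = r * a * (r * r) * b by group, C.rr, mul_one, mul_assoc] at this
    · exact Or.inr (by rw [← mul_assoc]; exact H.mul_mem ha hb)
    · refine Or.inl ?_
      have := H.mul_mem (hH _ ha) hb
      rwa [show r * (r * a) * r * (r * b) = (r * r) * a * (r * r) * b by group, C.rr, one_mul,
        mul_one] at this
  inv_mem' := by
    rintro a (ha | ha)
    · exact Or.inl (H.inv_mem ha)
    · refine Or.inr ?_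
      have := hH _ (H.inv_mem ha)
      rwa [mul_inv_rev, C.r_inv, mul_assoc r _ r, mul_assoc a⁻¹, C.rr, mul_one] at this

theorem withR_facts (H : Subgroup G) (hHP : H ≤ P) (hH : ∀ x ∈ H, r * x * r ∈ H) :
    IsPGroup 2 (C.withR H hH) ∧ Nat.card (C.withR H hH) = 2 * Nat.card H := by
  classical
  let f : H × Bool → C.withR H hH := fun x =>
    ⟨(bif x.2 then r else 1) * x.1, by
      cases x.2
      · exact Or.inl (by simp)
      · exact Or.inr (by show r * (r * x.1.1) ∈ H; rw [← mul_assoc, C.rr, one_mul]; exact x.1.2)⟩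
  have hf : Function.Bijective f := by
    constructor
    · rintro ⟨a, i⟩ ⟨b, j⟩ h
      have h' := congrArg Subtype.val h
      simp only [f] at h'
      cases i <;> cases j <;> simp only [cond_false, cond_true, one_mul] at h'
      · exact Prod.ext (Subtype.ext h') rfl
      · exact absurd ((Subgroup.mul_mem_cancel_right _ (hHP b.2)).1 (h' ▸ hHP a.2)) C.r_not
      · exact absurd ((Subgroup.mul_mem_cancel_right _ (hHP a.2)).1 (h'.symm ▸ hHP b.2)) C.r_not
      · exact Prod.ext (Subtype.ext (mul_left_cancel h')) rfl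
    · rintro ⟨p, hp | hp⟩
      · exact ⟨(⟨p, hp⟩, false), Subtype.ext (one_mul p)⟩
      · exact ⟨(⟨_, hp⟩, true), Subtype.ext (by show r * (r * p) = p; rw [← mul_assoc, C.rr, one_mul])⟩
  have hc : Nat.card (C.withR H hH) = 2 * Nat.card H := by
    rw [← Nat.card_congr (Equiv.ofBijective f hf), Nat.card_prod,
      Nat.card_eq_fintype_card (α := Bool), Fintype.card_bool, mul_comm]
  obtain ⟨k, hk⟩ := (C.two.to_le hHP).exists_card_eq
  exact ⟨IsPGroup.of_card (n := k + 1) (by rw [hc, hk, pow_succ, mul_comm]), hc⟩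

/-- An element with trivial orbit product. -/
theorem closed_case {b : G} (hb : Zw t r b) (hbK : b ∈ K r P) (hg : g⁻¹ * b * g ∉ K r P)
    (hN : b * (u * b * u⁻¹) * (u⁻¹ * b * u) = 1) :
    W t P b ∧ Nat.card (CP P b ⊓ CP P (u * b * u⁻¹) : Subgroup G) ≤ 2 * Nat.card (K r P) ∧
      Nat.card (K r P) ≤ 4 := by
  obtain ⟨v, hvt, hvr, hvD⟩ := C.exists_v hb hg
  set sb := u * b * u⁻¹ with hsb
  have hbP : b ∈ P := hbK.1
  have hsbP : sb ∈ P := C.uP b hbP
  have hsb2 : sb * sb = 1 := by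
    rw [hsb, show u * b * u⁻¹ * (u * b * u⁻¹) = u * (b * b) * u⁻¹ by group, hb.sq, mul_one,
      mul_inv_cancel]
  have hbinv : b⁻¹ = b := inv_eq_of_mul_eq_one_right hb.sq
  have hsbinv : sb⁻¹ = sb := inv_eq_of_mul_eq_one_right hsb2
  have hs2 : u⁻¹ * b * u = b * sb := by
    have h2 : (u⁻¹ * b * u) * (u⁻¹ * b * u) = 1 := by
      rw [show (u⁻¹ * b * u) * (u⁻¹ * b * u) = u⁻¹ * (b * b) * u by group, hb.sq, mul_one,
        inv_mul_cancel]
    calc u⁻¹ * b * u = (b * sb * (u⁻¹ * b * u)) * (u⁻¹ * b * u) := by rw [hN, one_mul]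
      _ = b * sb := by rw [mul_assoc (b * sb), h2, mul_one]
  have hcomm : b * sb = sb * b := by
    have h2 : (b * sb) * (b * sb) = 1 := by
      rw [← hs2, show (u⁻¹ * b * u) * (u⁻¹ * b * u) = u⁻¹ * (b * b) * u by group, hb.sq, mul_one,
        inv_mul_cancel]
    calc b * sb = (b * sb)⁻¹ := (inv_eq_of_mul_eq_one_right h2).symm
      _ = sb * b := by rw [mul_inv_rev, hbinv, hsbinv]
  have hrsb : r * sb * r = b * sb := by rw [hsb, C.u_rho, C.rho_K hbK, ← hsb, hs2]
  have conjv : ∀ x y : G, v * (x * y) * v⁻¹ = (v * x * v⁻¹) * (v * y * v⁻¹) := fun x y => by group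
  -- the conjugate of `sb` lies outside `P`
  set p₁ := v⁻¹ * sb * v with hp₁
  have hp₁2 : p₁ * p₁ = 1 := by
    rw [hp₁, show v⁻¹ * sb * v * (v⁻¹ * sb * v) = v⁻¹ * (sb * sb) * v by group, hsb2, mul_one,
      inv_mul_cancel]
  have hp₁t : p₁ * t = t * p₁ := by
    rw [hp₁]
    calc v⁻¹ * sb * v * t = v⁻¹ * (sb * (v * t * v⁻¹)) * v := by group
      _ = v⁻¹ * ((v * t * v⁻¹) * sb) * v := by rw [hvt, hcomm]
      _ = _ := by group
  have hp₁P : p₁ ∉ P := fun h => by
    refine C.no_twist h ?_ hp₁2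
    calc r * p₁ * r = v⁻¹ * ((v * r * v⁻¹) * sb * (v * r * v⁻¹)) * v := by rw [hp₁]; group
      _ = v⁻¹ * (sb * (v * t * v⁻¹)) * v := by rw [hvr, hrsb, hvt, hcomm]
      _ = p₁ * t := by rw [hp₁]; group
  -- the conjugate of `q`
  set q' := v * q * v⁻¹ with hq'
  have hqb : q' * b = b * q' := by rw [← hvt, hq', ← conjv, ← conjv, C.qt]
  have hrq' : r * q' * r = q' * b := by
    rw [← hvt, hq', ← conjv]
    conv_lhs => rw [← hvr]
    rw [← conjv, ← conjv, C.rqr, C.q_inv]
  set d := sb * q' with hd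
  have hdD : d ∈ Dg t r := by
    have e : v⁻¹ * d * v ∈ Dg t r := by
      refine mem_Dg.2 ⟨?_, ?_⟩
      · have hdb : d * b = b * d := by
          rw [hd, mul_assoc, hqb, ← mul_assoc, ← hcomm, mul_assoc]
        calc v⁻¹ * d * v * t = v⁻¹ * (d * (v * t * v⁻¹)) * v := by group
          _ = v⁻¹ * ((v * t * v⁻¹) * d) * v := by rw [hvt, hdb]
          _ = _ := by group
      · have hdr : r * d * r = d := by
          rw [hd, C.rho_mul, hrsb, hrq', hqb]
          calc b * sb * (b * q') = (b * sb) * b * q' := by group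
            _ = sb * q' := by rw [hcomm, mul_assoc sb b b, hb.sq, mul_one]
        calc v⁻¹ * d * v * r = v⁻¹ * (d * (v * r * v⁻¹)) * v := by group
          _ = v⁻¹ * ((v * r * v⁻¹) * d) * v := by
              rw [hvr]
              congr 2
              calc d * r = (r * d * r) * r := by rw [hdr]
                _ = r * d := by rw [mul_assoc (r * d), C.rr, mul_one]
          _ = _ := by group
    have := (hvD (v⁻¹ * d * v)).2 e
    rwa [show v * (v⁻¹ * d * v) * v⁻¹ = d by group] at this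
  have hq'd : q' = sb * d := by rw [hd, ← mul_assoc, hsb2, one_mul]
  -- commutators with `q'`
  have hzz : ∀ z, Zw t r z → sb * z * sb * z⁻¹ ∈ ({1, t, b, t * b} : Set G) := by
    intro z hz
    have hzi : z⁻¹ = z := inv_eq_of_mul_eq_one_right hz.sq
    have hsmall : ∀ k ∈ K r P, k * b = b * k → Tt t (k * sb * k⁻¹ * sb⁻¹) := fun k hk hkb =>
      C.twist k hk.1 b hbP (Or.inl (by rw [hkb]; group))
    rcases C.two_Dg hz.mem (TwoEl.of_sq hz.sq) with hk | hk
    · have h := C.Tt_inv (hsmall z hk (hz.comm b hb.mem).symm)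
      rw [show (z * sb * z⁻¹ * sb⁻¹)⁻¹ = sb * z * sb⁻¹ * z⁻¹ by group, hsbinv] at h
      rcases h with h | h <;> simp [h]
    · set k := r * z with hkdef
      have hrz : r * z = z * r := (mem_Dg.1 hz.mem).2.symm
      have hkb : k * b = b * k := by
        rw [hkdef, mul_assoc, ← hz.comm b hb.mem, ← mul_assoc, (mem_Dg.1 hb.mem).2.symm, mul_assoc]
      have hki : k⁻¹ = k := by rw [hkdef, mul_inv_rev, hzi, C.r_inv, ← hrz]
      have h := hsmall k hk hkb
      rw [hki, hsbinv] at h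
      set ε := k * sb * k * sb
      have e1 : k * sb * k = ε * sb := by rw [mul_assoc (k * sb * k), hsb2, mul_one]
      have hzk : z = r * k := by rw [hkdef, ← mul_assoc, C.rr, one_mul]
      have e2 : sb * z * sb * z⁻¹ = ε * b := by
        have hε : ∀ p ∈ P, p * ε = ε * p := fun p hp => C.Tt_comm h hp
        calc sb * z * sb * z⁻¹ = sb * (r * (k * sb * k⁻¹) * r⁻¹) := by rw [hzk]; group
          _ = sb * (r * (ε * sb) * r) := by rw [hki, e1, C.r_inv]
          _ = sb * ((r * ε * r) * (b * sb)) := by rw [C.rho_mul, hrsb]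
          _ = ε * b := by
            have hre : r * ε * r = ε := by
              rcases h with h | h <;> rw [h]
              · rw [mul_one, C.rr]
              · exact C.rho_K C.t_memK
            rw [hre, ← mul_assoc, hε sb hsbP, mul_assoc ε, hcomm, ← mul_assoc sb, hsb2, one_mul]
      rw [e2]
      rcases h with h | h <;> simp [ε, h]
  -- `b` is central modulo `t`
  have hW : W t P b := by
    set e := q * b * q⁻¹ * b⁻¹ with he
    have hvb : Zw t r (v * b * v⁻¹) := by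
      refine ⟨by rw [← conjv, hb.sq, mul_one, mul_inv_cancel], (hvD b).2 hb.mem, fun x hx => ?_⟩
      have hx' : v⁻¹ * x * v ∈ Dg t r := (hvD _).1 (by rwa [show v * (v⁻¹ * x * v) * v⁻¹ = x by group])
      calc x * (v * b * v⁻¹) = v * ((v⁻¹ * x * v) * b) * v⁻¹ := by group
        _ = _ := by rw [hb.comm _ hx']; group
    have hve : v * e * v⁻¹ = sb * (v * b * v⁻¹) * sb * (v * b * v⁻¹)⁻¹ := by
      calc v * e * v⁻¹ = q' * (v * b * v⁻¹) * q'⁻¹ * (v * b * v⁻¹)⁻¹ := by rw [he, hq']; group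
        _ = sb * (d * (v * b * v⁻¹)) * d⁻¹ * sb⁻¹ * (v * b * v⁻¹)⁻¹ := by rw [hq'd]; group
        _ = _ := by rw [hvb.comm d hdD, hsbinv]; group
    have hmem := hzz _ hvb
    rw [← hve] at hmem
    have heP : e ∈ P :=
      P.mul_mem (P.mul_mem (P.mul_mem C.q_mem hbP) (P.inv_mem C.q_mem)) (P.inv_mem hbP)
    set t₁ := v⁻¹ * t * v with ht₁
    have hbv : v⁻¹ * b * v = t := by rw [← hvt]; group
    have hcases : Tt t e ∨ (t₁ ∈ P ∧ W t P t₁) := by
      have hWe : W t P e := fun p hp => C.central q C.q_mem b hbP p hp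
      have he' : e = v⁻¹ * (v * e * v⁻¹) * v := by group
      simp only [Set.mem_insert_iff, Set.mem_singleton_iff] at hmem
      rcases hmem with h | h | h | h <;> rw [h] at he'
      · exact Or.inl (Or.inl (by rw [he', mul_one, inv_mul_cancel]))
      · right
        rw [← ht₁] at he'
        exact ⟨he' ▸ heP, he' ▸ hWe⟩
      · exact Or.inl (Or.inr (he'.trans hbv))
      · right
        have e3 : t₁ = e * t := by
          calc t₁ = v⁻¹ * (t * (b * b)) * v := by rw [hb.sq, mul_one]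
            _ = v⁻¹ * (t * b) * v * (v⁻¹ * b * v) := by group
            _ = e * t := by rw [he', hbv]
        refine ⟨e3 ▸ P.mul_mem heP C.t_mem, ?_⟩
        rw [e3]
        intro p hp
        have : e * t * p * (e * t)⁻¹ * p⁻¹ = e * p * e⁻¹ * p⁻¹ := by
          rw [mul_assoc e t p, ← C.tP p hp]; group
        rw [this]; exact hWe p hp
    rcases hcases with h | ⟨h1P, h1W⟩
    · have hK : K r P ≤ C.Mod b hbP := fun k hk =>
        ⟨hk.1, Or.inl (by rw [← hb.comm k (C.K_le_Dg hk)]; group)⟩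
      have hq : q ∈ C.Mod b hbP := by
        refine ⟨C.q_mem, ?_⟩
        have h' := C.Tt_inv h
        rwa [he, show (q * b * q⁻¹ * b⁻¹)⁻¹ = b * q * b⁻¹ * q⁻¹ by group] at h'
      have hR : C.R0 ≤ C.Mod b hbP := fun p hp => by
        rcases C.R0_cases hp with h' | h'
        · exact hK h'
        · simpa using (C.Mod b hbP).mul_mem hq (hK h')
      exact fun p hp => (C.top_R0 hR (fun p hp => C.Mod_u hbP (hR hp)) hp).2
    · refine C.W_of_card hbP ?_
      have h1c := C.card_CP_of_W h1W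
      have ht1D : t₁ ∈ Dg t r := (hvD t₁).1 (by
        rw [ht₁, show v * (v⁻¹ * t * v) * v⁻¹ = t by group]; exact C.t_memD)
      have hH : ∀ x ∈ CP P t₁, r * x * r ∈ CP P t₁ := by
        intro x hx
        obtain ⟨hxP, hxc⟩ := mem_CP.1 hx
        refine mem_CP.2 ⟨C.rP x hxP, ?_⟩
        have e1 : r * t₁ * r = t₁ := by rw [← (mem_Dg.1 ht1D).2, mul_assoc, C.rr, mul_one]
        rw [← e1, ← C.rho_mul, ← C.rho_mul, hxc]
      obtain ⟨hS2, hSc⟩ := C.withR_facts (CP P t₁) inf_le_left hH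
      obtain ⟨S, hS⟩ : ∃ S : Subgroup G, S = (C.withR (CP P t₁) hH).map (MulAut.conj v).toMonoidHom :=
        ⟨_, rfl⟩
      have hSmem : ∀ y ∈ S, y * t = t * y ∧ y * b = b * y := by
        rw [hS]
        rintro _ ⟨x, hx, rfl⟩
        have hx2 : x * t = t * x ∧ x * t₁ = t₁ * x := by
          rcases hx with h | h
          · exact ⟨C.tP x (mem_CP.1 h).1, (mem_CP.1 h).2⟩
          · obtain ⟨hP, hc⟩ := mem_CP.1 h
            have hx : x = r * (r * x) := by rw [← mul_assoc, C.rr, one_mul]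
            rw [hx]
            exact ⟨(show Commute r t from C.rt).mul_left (C.tP _ hP),
              (show Commute r t₁ from (mem_Dg.1 ht1D).2.symm).mul_left hc⟩
        have e2 : v * t₁ * v⁻¹ = t := by rw [ht₁]; group
        constructor
        · show v * x * v⁻¹ * t = t * (v * x * v⁻¹)
          rw [← e2, ← conjv, ← conjv, hx2.2]
        · show v * x * v⁻¹ * b = b * (v * x * v⁻¹)
          rw [← hvt, ← conjv, ← conjv, hx2.1]
      have hrS : r ∈ S := hS ▸ ⟨r, Or.inr (by rw [C.rr]; exact one_mem _), hvr⟩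
      have hle := C.two_P_card (hS ▸ hS2.map _) (fun y hy => (hSmem y hy).1) hrS
      have hsub : S ⊓ P ≤ CP P b := fun y hy => mem_CP.2 ⟨hy.2, (hSmem y hy.1).2⟩
      have hcard := card_le_of_le hsub
      have e3 : Nat.card S = 2 * Nat.card (CP P t₁) := by
        rw [hS, card_map_of_injective (MulAut.conj v).injective, hSc]
      omega
  -- the pair bound
  set Y : Subgroup G := CP P b ⊓ CP P sb with hY
  have hY2 : IsPGroup 2 Y := C.two.to_le (fun y hy => hy.1.1)
  set Y' := Y.map (MulAut.conj v⁻¹).toMonoidHom with hY'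
  have hbound : Nat.card Y ≤ 2 * Nat.card (K r P) := by
    rw [← card_map_of_injective (f := (MulAut.conj v⁻¹).toMonoidHom) (MulAut.conj v⁻¹).injective
      (K := Y)]
    refine C.pair_bound (hY2.map _) ?_ hp₁t hp₁P hp₁2 ?_
    · rintro _ ⟨y, hy, rfl⟩
      show v⁻¹ * y * v⁻¹⁻¹ * t = t * (v⁻¹ * y * v⁻¹⁻¹)
      calc v⁻¹ * y * v⁻¹⁻¹ * t = v⁻¹ * (y * (v * t * v⁻¹)) * v := by group
        _ = v⁻¹ * ((v * t * v⁻¹) * y) * v := by rw [hvt, (mem_CP.1 hy.1).2]
        _ = _ := by group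
    · rintro _ ⟨y, hy, rfl⟩
      show v⁻¹ * y * v⁻¹⁻¹ * p₁ = p₁ * (v⁻¹ * y * v⁻¹⁻¹)
      rw [hp₁]
      calc v⁻¹ * y * v⁻¹⁻¹ * (v⁻¹ * sb * v) = v⁻¹ * (y * sb) * v := by group
        _ = v⁻¹ * (sb * y) * v := by rw [(mem_CP.1 hy.2).2]
        _ = _ := by group
  refine ⟨hW, hbound, ?_⟩
  have hP := C.card_P
  have h1 := C.card_CP_of_W hW
  have h2 := C.card_CP_of_W (C.W_conj_u hW)
  rw [← hsb] at h2
  have hidx : Y.relIndex P ≤ (CP P b).relIndex P * (CP P sb).relIndex P := relIndex_inf_le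
  have e1 := relIndex_mul_relIndex (⊥ : Subgroup G) (CP P b) P bot_le inf_le_left
  have e2 := relIndex_mul_relIndex (⊥ : Subgroup G) (CP P sb) P bot_le inf_le_left
  have e3 := relIndex_mul_relIndex (⊥ : Subgroup G) Y P bot_le (fun y hy => hy.1.1)
  simp only [relIndex_bot_left] at e1 e2 e3
  have p1 : 0 < Nat.card (CP P b) := Nat.card_pos
  have p2 : 0 < Nat.card (CP P sb) := Nat.card_pos
  have i1 : (CP P b).relIndex P ≤ 2 := by
    by_contra h; nlinarith
  have i2 : (CP P sb).relIndex P ≤ 2 := by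
    by_contra h; nlinarith
  have i3 : Y.relIndex P ≤ 4 := hidx.trans (Nat.mul_le_mul i1 i2)
  have hn : 0 < Nat.card (K r P) := Nat.card_pos
  have : Nat.card (K r P) * (2 * Nat.card (K r P)) ≤ Nat.card (K r P) * 8 := by
    calc Nat.card (K r P) * (2 * Nat.card (K r P)) = Nat.card P := by rw [hP]; ring
      _ = Nat.card Y * Y.relIndex P := e3.symm
      _ ≤ (2 * Nat.card (K r P)) * 4 := Nat.mul_le_mul hbound i3
      _ = Nat.card (K r P) * 8 := by ring
  have := Nat.le_of_mul_le_mul_left this hn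
  omega

end Core

end Cfsg.Agent.Lib.ThreeLocal66
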