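import Cfsg.Agent.Lib.ThreeLocal66.Build
import Cfsg.Agent.Lib.ThreeLocal66.Width

/-!
# Two fixed points: `P` is quaternion, one class of involutions, elements of order three in `C(t)`
-/

namespace Cfsg.Agent.Lib.ThreeLocal66

open Subgroup

variable {G : Type*} [Group G] [Finite G] {t r u q g : G} {P N : Subgroup G}

/-- Conjugate to `u` or to its inverse. -/
def UType (u y : G) : Prop := ∃ k : G, k * y * k⁻¹ = u ∨ k * y * k⁻¹ = u⁻¹

namespace Core

variable (C : Core t r u q g P)
include C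

theorem K_two (hn : Nat.card (K r P) = 2) {k : G} (hk : k ∈ K r P) : Tt t k := by
  classical
  by_contra h
  simp only [Tt, not_or] at h
  have h3 : ({1, t, k} : Finset G).card = 3 :=
    Finset.card_eq_three.2 ⟨1, t, k, C.t_ne.symm, Ne.symm h.1, Ne.symm h.2, rfl⟩
  have hsub : (({1, t, k} : Finset G) : Set G) ⊆ (K r P : Set G) := by
    intro x hx
    rcases (by simpa using hx : x = 1 ∨ x = t ∨ x = k) with rfl | rfl | rfl
    exacts [one_mem _, C.t_memK, hk]
  have h1 := Set.ncard_le_ncard hsub (Set.toFinite _)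
  rw [Set.ncard_coe_finset, h3, ← Nat.card_coe_set_eq] at h1
  change 3 ≤ Nat.card (K r P) at h1
  omega

theorem R0_two (hn : Nat.card (K r P) = 2) {p : G} (hp : p ∈ C.R0) :
    p = 1 ∨ p = t ∨ p = q ∨ p = q * t := by
  rcases C.R0_cases hp with h | h
  · rcases C.K_two hn h with e | e
    exacts [Or.inl e, Or.inr (Or.inl e)]
  · rcases C.K_two hn h with e | e
    · exact Or.inr (Or.inr (Or.inl (inv_mul_eq_one.1 e).symm))
    · exact Or.inr (Or.inr (Or.inr (by rw [← e, mul_inv_cancel_left])))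

omit [Finite G] in
theorem q_notTt : ¬ Tt t q := by
  intro h
  apply C.t_ne
  rcases h with h | h
  · rw [← C.qq, h, one_mul]
  · have e := C.qq
    rw [h, C.tt] at e
    exact e.symm

/-- With two fixed points `P` has only one involution. -/
theorem sq_of_two (hn : Nat.card (K r P) = 2) {p : G} (hp : p ∈ P) (h : ¬ Tt t p) : p * p = t := by
  classical
  let c : Fin 3 → G := ![q, u * q * u⁻¹, u⁻¹ * q * u]
  let S : Set G := {1, t} ∪ Set.range (fun x : Fin 3 × Bool => c x.1 * bif x.2 then t else 1)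
  have hcsq : ∀ i, c i * c i = t := by
    intro i; fin_cases i
    · exact C.qq
    · show u * q * u⁻¹ * (u * q * u⁻¹) = t
      rw [show u * q * u⁻¹ * (u * q * u⁻¹) = u * (q * q) * u⁻¹ by group, C.qq, C.conj_u_t]
    · show u⁻¹ * q * u * (u⁻¹ * q * u) = t
      rw [show u⁻¹ * q * u * (u⁻¹ * q * u) = u⁻¹ * (q * q) * u by group, C.qq, mul_assoc, ← C.ut,
        inv_mul_cancel_left]
  have hcP : ∀ i, c i ∈ P := by
    intro i; fin_cases i
    exacts [C.q_mem, C.uP q C.q_mem, C.uP' C.q_mem]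
  have hnot : ¬ Tt t (u * q * u⁻¹) := fun h => C.q_notTt (by
    have := C.Tt_conj_u (C.Tt_conj_u h); rwa [C.conj_cube] at this)
  have hd : ¬ Tt t (q⁻¹ * (u * q * u⁻¹)) := fun h => C.q_notTt (C.fixed_mod C.q_mem h)
  have hcc : ∀ i, u * c i * u⁻¹ = c (i + 1) := by
    intro i; fin_cases i
    · rfl
    · show u * (u * q * u⁻¹) * u⁻¹ = u⁻¹ * q * u
      calc u * (u * q * u⁻¹) * u⁻¹ = (u * u) * q * (u * u)⁻¹ := by group
        _ = u⁻¹ * q * u := by rw [← C.uu_eq, inv_inv]
    · show u * (u⁻¹ * q * u) * u⁻¹ = q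
      group
  have hadj : ∀ i, ¬ Tt t ((c i)⁻¹ * c (i + 1)) := by
    have key : ∀ i, Tt t ((c i)⁻¹ * c (i + 1)) → Tt t ((c (i + 1))⁻¹ * c (i + 1 + 1)) := fun i h => by
      have h' := C.Tt_conj_u h
      rwa [show u * ((c i)⁻¹ * c (i + 1)) * u⁻¹ = (u * c i * u⁻¹)⁻¹ * (u * c (i + 1) * u⁻¹) by group,
        hcc, hcc] at h'
    intro i h
    fin_cases i
    · exact hd h
    · exact hd (key _ (key _ h))
    · exact hd (key _ h)
  have hne : ∀ i j, i ≠ j → ¬ Tt t ((c i)⁻¹ * c j) := by
    intro i j hij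
    rcases (by fin_cases i <;> fin_cases j <;> simp_all : j = i + 1 ∨ i = j + 1) with e | e
    · exact e ▸ hadj i
    · intro h
      refine hadj j (e ▸ ?_)
      have := C.Tt_inv h
      rwa [mul_inv_rev, inv_inv] at this
  have hinj : Function.Injective (fun x : Fin 3 × Bool => c x.1 * bif x.2 then t else 1) := by
    rintro ⟨i, a⟩ ⟨j, b⟩ h
    simp only at h
    have hij : i = j := by
      by_contra hij
      refine hne i j hij ?_
      cases a <;> cases b <;> simp only [cond_false, cond_true, mul_one] at h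
      · exact Or.inl (by rw [h, inv_mul_cancel])
      · exact Or.inr (by rw [h, mul_inv_rev, C.t_inv, inv_mul_cancel_right])
      · exact Or.inr (by rw [← h, inv_mul_cancel_left])
      · exact Or.inl (by rw [mul_right_cancel h, inv_mul_cancel])
    subst hij
    have := mul_left_cancel h
    cases a <;> cases b <;> simp only [cond_false, cond_true] at this
    · rfl
    · exact absurd this.symm C.t_ne
    · exact absurd this C.t_ne
    · rfl
  have hdisj : Disjoint ({1, t} : Set G)
      (Set.range (fun x : Fin 3 × Bool => c x.1 * bif x.2 then t else 1)) := by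
    rw [Set.disjoint_left]
    rintro x hx ⟨⟨i, a⟩, rfl⟩
    have hx' : Tt t (c i * bif a then t else 1) := by simpa [Tt] using hx
    have hc : Tt t (c i) := by
      cases a <;> simp only [cond_false, cond_true, mul_one] at hx'
      · exact hx'
      · have := C.Tt_mul hx' (Or.inr rfl : Tt t t)
        rwa [mul_assoc, C.tt, mul_one] at this
    have hs := hcsq i
    rcases hc with e | e <;> rw [e] at hs
    · exact C.t_ne (by rw [← hs, one_mul])
    · exact C.t_ne (hs.symm.trans C.tt)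
  have hScard : S.ncard = 8 := by
    rw [Set.ncard_union_eq hdisj (Set.toFinite _) (Set.toFinite _), Set.ncard_pair C.t_ne.symm,
      Set.ncard_range_of_injective hinj, Nat.card_prod, Nat.card_eq_fintype_card,
      Nat.card_eq_fintype_card, Fintype.card_fin, Fintype.card_bool]
  have hSP : S ⊆ (P : Set G) := by
    rintro x (hx | ⟨⟨i, a⟩, rfl⟩)
    · exact C.Tt_mem (by simpa [Tt] using hx)
    · exact P.mul_mem (hcP i) (by cases a <;> simp [C.t_mem])
  have hPS : (P : Set G) ⊆ S := by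
    refine (Set.eq_of_subset_of_ncard_le hSP ?_ (Set.toFinite _)).ge
    rw [hScard, ← Nat.card_coe_set_eq]
    exact le_of_eq (by rw [show Nat.card (P : Set G) = Nat.card P from rfl, C.card_P, hn]; norm_num)
  rcases hPS hp with hx | ⟨⟨i, a⟩, rfl⟩
  · exact absurd (by simpa [Tt] using hx) h
  · cases a <;> simp only [cond_false, cond_true, mul_one]
    · exact hcsq i
    · rw [(show Commute t (c i) from (C.tP _ (hcP i)).symm).mul_mul_mul_comm, hcsq, C.tt, mul_one]

theorem invol_two (hn : Nat.card (K r P) = 2) {a : G} (hat : a * t = t * a) (ha : a * a = 1)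
    (ha1 : a ≠ 1) (hne : a ≠ t) : ∃ k, k * t = t * k ∧ k * r * k⁻¹ = a := by
  have haP : a ∉ P := by
    intro h
    have := C.sq_of_two hn h (fun e => e.elim ha1 hne)
    rw [ha] at this
    exact C.t_ne this.symm
  obtain ⟨h, hh, hmem⟩ := C.outside a hat ha haP
  obtain ⟨b, hb, e⟩ := C.conj_of_invol hmem (by
    rw [← mul_assoc r r, C.rr, one_mul,
      show h * a * h⁻¹ * (h * a * h⁻¹) = h * (a * a) * h⁻¹ by group, ha, mul_one, mul_inv_cancel])
  rw [← mul_assoc r r, C.rr, one_mul] at e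
  refine ⟨h⁻¹ * b, ((show Commute h t from hh).inv_left.mul_left (C.tP b hb)).eq, ?_⟩
  calc h⁻¹ * b * r * (h⁻¹ * b)⁻¹ = h⁻¹ * (b * r * b⁻¹) * h := by group
    _ = a := by rw [e]; group

/-- One class of involutions. -/
theorem all_invol (hn : Nat.card (K r P) = 2) {a : G} (ha : a * a = 1) (ha1 : a ≠ 1) :
    ∃ k, k * t * k⁻¹ = a := by
  have : Fact (Nat.Prime 2) := ⟨Nat.prime_two⟩
  let T := C.withR P C.rP
  obtain ⟨hT, hTc⟩ := C.withR_facts P le_rfl C.rP
  have hTt : ∀ y ∈ T, y * t = t * y := by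
    rintro y (hy | hy)
    · exact C.tP y hy
    · have h := (show Commute r t from C.rt).mul_left (C.tP _ hy)
      rw [← mul_assoc, C.rr, one_mul] at h
      exact h
  have hrT : r ∈ T := Or.inr (by rw [C.rr]; exact P.one_mem)
  have hqT : q ∈ T := Or.inl C.q_mem
  obtain ⟨S, hS⟩ := IsPGroup.exists_le_sylow hT
  -- the part of `S` inside `C(t)`
  have hSc : (S : Subgroup G) ⊓ Subgroup.centralizer {t} = T := by
    refine le_antisymm ?_ (le_inf hS fun y hy => mem_centralizer_singleton_iff.2 (hTt y hy))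
    have h1 : Nat.card ((S : Subgroup G) ⊓ Subgroup.centralizer {t} : Subgroup G) ≤ Nat.card T := by
      refine (C.two_P_card (S.2.to_le inf_le_left)
        (fun y hy => mem_centralizer_singleton_iff.1 hy.2) ⟨hS hrT, ?_⟩).trans ?_
      · exact mem_centralizer_singleton_iff.2 C.rt
      · rw [hTc]; exact Nat.mul_le_mul_left 2 (card_le_of_le inf_le_right)
    exact (eq_of_le_of_card_ge (le_inf hS fun y hy => mem_centralizer_singleton_iff.2 (hTt y hy))
      h1).ge
  have hST : (S : Subgroup G) = T := by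
    by_contra hne
    have hlt : T.subgroupOf (S : Subgroup G) < ⊤ := by
      refine lt_top_iff_ne_top.2 fun h => hne (le_antisymm (subgroupOf_eq_top.1 h) hS)
    have : Group.IsNilpotent (S : Subgroup G) := S.2.isNilpotent
    have hnc := (Group.normalizerCondition_of_isNilpotent (G := (S : Subgroup G))) _ hlt
    obtain ⟨⟨y, hyS⟩, hyn, hyT⟩ := SetLike.exists_of_lt hnc
    have hnorm : ∀ z ∈ T, y * z * y⁻¹ ∈ T := fun z hz => by
      have := (mem_normalizer_iff.1 hyn ⟨z, hS hz⟩).1 (mem_subgroupOf.2 hz)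
      exact mem_subgroupOf.1 this
    have hw : y * t * y⁻¹ ∈ T := hnorm t (Or.inl C.t_mem)
    have hw2 : (y * t * y⁻¹) * (y * t * y⁻¹) = 1 := by
      rw [show (y * t * y⁻¹) * (y * t * y⁻¹) = y * (t * t) * y⁻¹ by group, C.tt, mul_one,
        mul_inv_cancel]
    have hw1 : y * t * y⁻¹ ≠ 1 := fun e => C.t_ne (conj_eq_one_iff.1 e)
    have hcen : ∀ z ∈ T, z * (y * t * y⁻¹) = (y * t * y⁻¹) * z := by
      intro z hz
      have hz' : y⁻¹ * z * y ∈ T := by
        have := (mem_normalizer_iff''.1 hyn ⟨z, hS hz⟩).1 (mem_subgroupOf.2 hz)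
        exact mem_subgroupOf.1 this
      calc z * (y * t * y⁻¹) = y * ((y⁻¹ * z * y) * t) * y⁻¹ := by group
        _ = _ := by rw [hTt _ hz']; group
    have hwt : y * t * y⁻¹ = t := by
      by_contra hne'
      obtain ⟨k, hkt, hk⟩ := C.invol_two hn (hTt _ hw) hw2 hw1 hne'
      rcases hw with hwP | hwP
      · have := C.sq_of_two hn hwP (fun e => e.elim hw1 hne')
        rw [hw2] at this; exact C.t_ne this.symm
      obtain ⟨b, hb, e⟩ := C.conj_of_invol hwP (by rw [← mul_assoc r r, C.rr, one_mul, hw2])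
      rw [← mul_assoc r r, C.rr, one_mul] at e
      have hqc := hcen _ (Or.inl (P.mul_mem (P.mul_mem hb C.q_mem) (P.inv_mem hb)))
      rw [← e] at hqc
      have hqr : q * r = r * q := by
        refine mul_left_cancel (a := b) (mul_right_cancel (b := b⁻¹) ?_)
        calc b * (q * r) * b⁻¹ = (b * q * b⁻¹) * (b * r * b⁻¹) := by group
          _ = (b * r * b⁻¹) * (b * q * b⁻¹) := hqc
          _ = b * (r * q) * b⁻¹ := by group
      exact C.q_notK ⟨C.q_mem, hqr.symm⟩
    refine hyT (mem_subgroupOf.2 ?_)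
    rw [← hSc]
    exact ⟨hyS, mem_centralizer_singleton_iff.2 (mul_inv_eq_iff_eq_mul.1 hwt)⟩
  have hpa : IsPGroup 2 (zpowers a) := by
    refine IsPGroup.of_card (n := 1) ?_
    rw [Nat.card_zpowers, pow_one]
    exact orderOf_eq_prime (by rw [pow_two]; exact ha) ha1
  obtain ⟨S', hS'⟩ := IsPGroup.exists_le_sylow hpa
  obtain ⟨k, hk⟩ := MulAction.exists_smul_eq G S' S
  have hmem : k * a * k⁻¹ ∈ T := by
    rw [← hST, ← hk, Sylow.coe_subgroup_smul]
    exact Subgroup.smul_mem_pointwise_smul a (MulAut.conj k) _ (hS' (mem_zpowers a))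
  have h2 : k * a * k⁻¹ * (k * a * k⁻¹) = 1 := by
    rw [show k * a * k⁻¹ * (k * a * k⁻¹) = k * (a * a) * k⁻¹ by group, ha, mul_one, mul_inv_cancel]
  have h1 : k * a * k⁻¹ ≠ 1 := fun e => ha1 (conj_eq_one_iff.1 e)
  by_cases hkt : k * a * k⁻¹ = t
  · exact ⟨k⁻¹, by rw [← hkt]; group⟩
  obtain ⟨j, -, hj⟩ := C.invol_two hn (hTt _ hmem) h2 h1 hkt
  refine ⟨k⁻¹ * j * g, ?_⟩
  calc k⁻¹ * j * g * t * (k⁻¹ * j * g)⁻¹ = k⁻¹ * (j * (g * t * g⁻¹) * j⁻¹) * k := by group
    _ = a := by rw [C.gtr, hj]; group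

end Core

/-- The elements of order three of `C(t)` are conjugates of `u^{±1}`. -/
theorem Ker.uType (K' : Ker t r u P N) (C : Core t r u q g P) {z : G} (hzt : z * t = t * z)
    (h3 : z ^ 3 = 1) (h1 : z ≠ 1) : UType u z := by
  have : Fact (Nat.Prime 3) := ⟨Nat.prime_three⟩
  let X : Subgroup G := Subgroup.centralizer {t}
  let u' : X := ⟨u, mem_centralizer_singleton_iff.2 C.ut⟩
  let z' : X := ⟨z, mem_centralizer_singleton_iff.2 hzt⟩
  have hf : (Nat.card X).factorization 3 = 1 := by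
    rw [K'.card, Nat.factorization_mul (by norm_num) Nat.card_pos.ne', Finsupp.add_apply,
      Nat.factorization_eq_zero_of_not_dvd K'.three, add_zero,
      show (6 : ℕ) = 3 * 2 from rfl, Nat.factorization_mul (by norm_num) (by norm_num),
      Finsupp.add_apply, Nat.prime_three.factorization_self,
      Nat.factorization_eq_zero_of_not_dvd (by norm_num)]
  have hu : orderOf u' = 3 := by
    rw [Subgroup.orderOf_mk]; exact orderOf_eq_prime C.pow_three_one C.u_ne
  have hz : orderOf z' = 3 := by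
    rw [Subgroup.orderOf_mk]; exact orderOf_eq_prime h3 h1
  let S₁ : Sylow 3 X := Sylow.ofCard (zpowers z') (by rw [Nat.card_zpowers, hz, hf, pow_one])
  let S₂ : Sylow 3 X := Sylow.ofCard (zpowers u') (by rw [Nat.card_zpowers, hu, hf, pow_one])
  obtain ⟨k, hk⟩ := MulAction.exists_smul_eq X S₁ S₂
  have hmem : k * z' * k⁻¹ ∈ zpowers u' := by
    have : k * z' * k⁻¹ ∈ (S₂ : Subgroup X) := by
      rw [← hk, Sylow.coe_subgroup_smul]
      exact Subgroup.smul_mem_pointwise_smul z' (MulAut.conj k) _ (mem_zpowers z')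
    exact this
  refine ⟨k, ?_⟩
  obtain ⟨n, hn⟩ := mem_powers_iff_mem_zpowers.2 hmem
  have hn' : u ^ n = (k : G) * z * (k : G)⁻¹ := by
    simpa [u', z'] using congrArg Subtype.val hn
  have hu3 : orderOf u = 3 := orderOf_eq_prime C.pow_three_one C.u_ne
  rw [← pow_mod_orderOf, hu3] at hn'
  have : n % 3 < 3 := Nat.mod_lt _ (by norm_num)
  interval_cases (n % 3)
  · exact absurd (conj_eq_one_iff.1 (by rw [← hn', pow_zero])) h1
  · exact Or.inl (by rw [← hn', pow_one])
  · exact Or.inr (by rw [← hn', pow_two, C.uu_eq])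

end Cfsg.Agent.Lib.ThreeLocal66
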